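import Groth.Agent.H21Split.Bru.Attract
import Groth.Agent.H21Rank1.Closed
import Mathlib.AlgebraicGeometry.Morphisms.Immersion

/-!
The Borel parametrisation is a closed immersion.
-/

open CategoryTheory MonoidalCategory CartesianMonoidalCategory MonObj GrpObj AlgebraicGeometry
open CategoryTheory.Limits

universe u

set_option backward.isDefEq.respectTransparency false
set_option linter.style.haveILetI false
set_option linter.unusedSectionVars false
set_option synthInstance.maxHeartbeats 400000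

noncomputable section

namespace Groth.Agent.H21Split

variable {S : Scheme.{u}} {G : Over S} [GrpObj G] (D : Red.SplitRed G)

section Points

variable {R : Type u} [CommRing R] (g : Spec (CommRingCat.of R) ⟶ S) {B : Type u} [CommRing B] [Algebra R B]

theorem comp_borelMap {m : ℕ} (e : Fin m → D.idx) (z : pt g B ⟶ D.T ⊗ RedSub.pow (Red.Ga S) m) :
    ∃ χ, z ≫ RedSub.borelMap D e = tPt g D χ * uProd g D e (gvs g (z ≫ snd _ _)) := by
  obtain ⟨χ, hχ⟩ := exists_tPt g D (z ≫ fst _ _)
  refine ⟨χ, ?_⟩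
  rw [RedSub.borelMap, MonObj.comp_mul, hχ, ← comp_prodMap_u]
  simp only [Category.assoc]

variable (b : D.P.Base) {m : ℕ} {ep : Fin m → D.idx} (hpos : RedSub.Enumerates (RedSub.posRoots D.P b) ep)
include hpos

theorem borelMap_mem_Bp (z : pt g R ⟶ D.T ⊗ RedSub.pow (Red.Ga S) m) : z ≫ RedSub.borelMap D ep ∈ Bp D b g := by
  obtain ⟨χ, hχ⟩ := comp_borelMap D g ep z
  rw [hχ]
  exact mul_mem (Tg_le_Bp D b g (tPt_mem_Tg D g χ))
    (Ug_le_Bp D b g (uProd_mem_Ug D g (fun k => (hpos.2 ▸ ⟨k, rfl⟩ : ep k ∈ RedSub.posRoots D.P b)) _))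

theorem exists_lift_borel {j : pt g R ⟶ G} (hj : j ∈ Bp D b g) : ∃ z, z ≫ RedSub.borelMap D ep = j := by
  obtain ⟨t, ⟨χ, rfl⟩, u, hu, rfl⟩ := (mem_TU D g).mp hj
  obtain ⟨x, rfl⟩ := (mem_Ug_iff D g (isPosSet_posRoots b) ep hpos.1 hpos.2).mp hu
  refine ⟨lift (ds g χ ≫ D.split.inv.hom.hom) (gas g x), ?_⟩
  rw [RedSub.borelMap, MonObj.comp_mul, lift_fst_assoc, lift_snd_assoc, comp_prodMap_u, gvs_gas, tPt, Category.assoc]

end Points

/-- the Borel parametrisation inside the cell -/
def borelEmb (n : ℕ) {m : ℕ} : D.T ⊗ RedSub.pow (Red.Ga S) m ⟶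
    RedSub.pow (Red.Ga S) n ⊗ (D.T ⊗ RedSub.pow (Red.Ga S) m) :=
  lift (tuple n fun _ => 1) (𝟙 _)

theorem gvs_tuple_one {R : Type u} [CommRing R] (g : Spec (CommRingCat.of R) ⟶ S) {X : Over S} (z : pt g R ⟶ X)
    (n : ℕ) : gvs g (z ≫ tuple n fun _ => (1 : X ⟶ Red.Ga S)) = 0 := by
  funext k
  rw [gvs, Category.assoc, tuple_pr, MonObj.comp_one, ← ga_zero g, gv_ga]
  rfl

theorem borelEmb_comp {n m : ℕ} (en : Fin n → D.idx) (ep : Fin m → D.idx) :
    borelEmb D n ≫ RedSub.cellMap D en ep = RedSub.borelMap D ep := by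
  refine hom_ext_pt fun R _ g z => ?_
  obtain ⟨χ, hχ⟩ := exists_tPt g D (z ≫ fst _ _)
  rw [← Category.assoc, comp_cellMap g D en ep _ χ (by simp only [hχ, borelEmb,
    Category.assoc, lift_snd_assoc, Category.id_comp]), borelEmb]
  simp only [Category.assoc, lift_fst, lift_snd_assoc, Category.id_comp]
  rw [gvs_tuple_one, cellPt, uProd_zero, _root_.one_mul, RedSub.borelMap, MonObj.comp_mul, hχ, ← comp_prodMap_u]
  simp only [Category.assoc]

theorem isImmersion_borelMap (b : D.P.Base) {m : ℕ} {ep : Fin m → D.idx}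
    (hpos : RedSub.Enumerates (RedSub.posRoots D.P b) ep) : IsImmersion (RedSub.borelMap D ep).left := by
  obtain ⟨n, en, hen⟩ := exists_enum D (RedSub.negRoots D.P b)
  obtain ⟨hD, hbij⟩ := isCellData_of_base D b hen hpos
  haveI := isOpenImmersion_cellMap D en ep hD hbij
  haveI := smooth_cell D (n := n) (m := m)
  haveI := isAffineHom_hom D
  haveI : IsSeparated (RedSub.pow (Red.Ga S) n ⊗ (D.T ⊗ RedSub.pow (Red.Ga S) m)).hom := by
    haveI : IsSeparated G.hom := inferInstance
    rw [← Over.w (RedSub.cellMap D en ep)]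
    infer_instance
  haveI := H21Rank1.isClosedImmersion_of_section (borelEmb D n (m := m)) (snd _ _) (lift_snd _ _)
  rw [← borelEmb_comp D en ep]
  change IsImmersion ((borelEmb D n).left ≫ (RedSub.cellMap D en ep).left)
  infer_instance

section Chart

variable [IsAffineHom G.hom]

/-- a regular cocharacter -/
theorem exists_regular (b : D.P.Base) : ∃ h : D.M →+ ℤ, (∀ c ∈ RedSub.posRoots D.P b, 0 < h (D.P.root c)) ∧
    ∀ c ∈ RedSub.negRoots D.P b, h (D.P.root c) < 0 := by
  obtain ⟨n, en, hen⟩ := exists_enum D (RedSub.negRoots D.P b)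
  obtain ⟨m, ep, hep⟩ := exists_enum D (RedSub.posRoots D.P b)
  obtain ⟨h, hn, hp⟩ := (isCellData_of_base D b hen hep).1.functional
  refine ⟨h, fun c hc => ?_, fun c hc => ?_⟩
  · obtain ⟨k, rfl⟩ := hep.2.symm ▸ hc
    exact hp k
  · obtain ⟨k, rfl⟩ := hen.2.symm ▸ hc
    exact hn k

variable {R : Type u} [CommRing R] (g : Spec (CommRingCat.of R) ⟶ S) (h : D.M →+ ℤ)

/-- the universal point of an affine chart -/
theorem exists_univ : ∃ φu : pt g (Crd g G) ⟶ G, fn g φu = AlgHom.id R _ ∧
    φu.left = (pullback G.hom g).isoSpec.inv ≫ pullback.fst G.hom g := by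
  haveI := isAffine_pb g (G := G)
  obtain ⟨φu, hu⟩ := fn_surjective g (AlgHom.id R (Crd g G))
  refine ⟨φu, hu, ?_⟩
  rw [← toPb_fst g φu]
  congr 1
  refine ext_of_isAffine ?_
  rw [← cancel_mono (Scheme.ΓSpecIso (CommRingCat.of (Crd g G))).hom]
  refine (CommRingCat.hom_ext ?_ : _ = 𝟙 Γ(pullback G.hom g, ⊤)).trans ?_
  · exact congrArg AlgHom.toRingHom hu
  · simp [Scheme.isoSpec]
    exact Scheme.toSpecΓ_appTop _

variable {A : Type u} [CommRing A] [Algebra R A]

/-- the conjugate of a point by a cocharacter -/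
def cjPt (ψ : pt g A ⟶ G) : pt g (LaurentPolynomial A) ⟶ G :=
  tPt g D (cz A D h) * (pmap g (lconst R A) ≫ ψ) * (tPt g D (cz A D h))⁻¹

theorem mapAlgHom_T {A' : Type u} [CommRing A'] [Algebra R A'] (φ : A →ₐ[R] A') (k : ℤ) :
    AddMonoidAlgebra.mapAlgHom ℤ φ (LaurentPolynomial.T k) = LaurentPolynomial.T k :=
  (AddMonoidAlgebra.mapAlgHom_single φ k 1).trans (by rw [map_one]; rfl)

theorem mapAlgHom_lconst {A' : Type u} [CommRing A'] [Algebra R A'] (φ : A →ₐ[R] A') :
    (AddMonoidAlgebra.mapAlgHom ℤ φ).comp (lconst R A) = (lconst R A').comp φ :=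
  AlgHom.ext fun x => AddMonoidAlgebra.mapAlgHom_single φ 0 x

theorem pmap_cjPt {A' : Type u} [CommRing A'] [Algebra R A'] (φ : A →ₐ[R] A') (ψ : pt g A ⟶ G) :
    pmap g (AddMonoidAlgebra.mapAlgHom ℤ φ) ≫ cjPt D g h ψ = cjPt D g h (pmap g φ ≫ ψ) := by
  have hT : (AddMonoidAlgebra.mapAlgHom ℤ φ).toRingHom.toMonoidHom.comp (cz A D h) = cz A' D h :=
    MonoidHom.ext fun x => mapAlgHom_T φ _
  rw [cjPt, cjPt, MonObj.comp_mul, MonObj.comp_mul, GrpObj.comp_inv, pmap_tPt, ← Category.assoc, pmap_comp,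
    ← Category.assoc (pmap g (lconst R A')), pmap_comp, mapAlgHom_lconst, ← hT]

/-- the conjugate extends to the affine line exactly if the negative coefficients vanish -/
theorem exists_extend_iff (Φ : pt g (LaurentPolynomial A) ⟶ G) :
    (∃ P : pt g (Polynomial A) ⟶ G, pmap g (polyL R A) ≫ P = Φ) ↔
      ∀ a, ∀ k : ℤ, k < 0 → (fn g Φ a).coeff k = 0 := by
  constructor
  · rintro ⟨P, rfl⟩ a k hk
    rw [fn_pmap, AlgHom.comp_apply, polyL_apply, Polynomial.toLaurent_apply,
      AddMonoidAlgebra.coeff_mapDomain, Finsupp.mapDomain_of_notMem_range]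
    rintro ⟨n, hn⟩
    exact absurd (hn ▸ hk) (not_lt.mpr (Int.natCast_nonneg n))
  · intro hc
    have hmem : ∀ a, fn g Φ a ∈ (polyL R A).range := by
      intro a
      rw [AlgHom.mem_range]
      refine ⟨LaurentPolynomial.trunc (fn g Φ a), ?_⟩
      refine LaurentPolynomial.ext fun k => ?_
      rw [polyL_apply, Polynomial.toLaurent_apply, AddMonoidAlgebra.coeff_mapDomain]
      by_cases hk : k < 0
      · rw [hc a k hk, Finsupp.mapDomain_of_notMem_range]
        rintro ⟨n, hn⟩
        exact absurd (hn ▸ hk) (not_lt.mpr (Int.natCast_nonneg n))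
      · obtain ⟨n, rfl⟩ := Int.eq_ofNat_of_zero_le (not_lt.mp hk)
        rw [Finsupp.mapDomain_apply (f := ((↑) : ℕ → ℤ)) Nat.cast_injective]
        simp [LaurentPolynomial.trunc]
    obtain ⟨P, hP⟩ := fn_surjective g ((AlgEquiv.ofInjective (polyL R A) polyL_injective).symm.toAlgHom.comp
      ((fn g Φ).codRestrict (polyL R A).range hmem))
    refine ⟨P, fn_injective g ?_⟩
    rw [fn_pmap, hP]
    refine AlgHom.ext fun a => ?_
    exact congrArg Subtype.val ((AlgEquiv.ofInjective (polyL R A) polyL_injective).apply_symm_apply _)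

/-- attraction of a point over a field in terms of the coefficients of the universal point -/
theorem mem_Att_iff_coeff {K : Type u} [Field K] [Algebra R K] (φu : pt g A ⟶ G) (φ : A →ₐ[R] K) :
    (towerIso g K K).hom ≫ pmap g φ ≫ φu ∈ Att D (Spec.map (CommRingCat.ofHom (algebraMap R K)) ≫ g) h ↔
      ∀ a, ∀ k : ℤ, k < 0 → φ ((fn g (cjPt D g h φu) a).coeff k) = 0 := by
  set g' := Spec.map (CommRingCat.ofHom (algebraMap R K)) ≫ g
  haveI : IsScalarTower R K (LaurentPolynomial K) := IsScalarTower.of_algebraMap_eq fun r => rfl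
  haveI : IsScalarTower R K (Polynomial K) := IsScalarTower.of_algebraMap_eq fun r => rfl
  have hc : conjL D g' h ((towerIso g K K).hom ≫ pmap g φ ≫ φu) =
      (towerIso g K (LaurentPolynomial K)).hom ≫ cjPt D g h (pmap g φ ≫ φu) := by
    rw [conjL_apply, cjPt, MonObj.comp_mul, MonObj.comp_mul, GrpObj.comp_inv, towerIso_tPt,
      ← Category.assoc (pmap g' (lconst K K)), towerIso_comm g (lconst K K) (lconst R K) (RingHom.ext fun _ => rfl),
      Category.assoc]
  have hp : pmap g' (polyL K K) ≫ (towerIso g K (Polynomial K)).hom =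
      (towerIso g K (LaurentPolynomial K)).hom ≫ pmap g (polyL R K) :=
    towerIso_comm g (polyL K K) (polyL R K) (RingHom.ext fun _ => rfl)
  rw [mem_Att, hc]
  have : (∃ P, pmap g' (polyL K K) ≫ P = (towerIso g K (LaurentPolynomial K)).hom ≫ cjPt D g h (pmap g φ ≫ φu)) ↔
      ∃ P, pmap g (polyL R K) ≫ P = cjPt D g h (pmap g φ ≫ φu) := by
    constructor
    · rintro ⟨P, hP⟩
      refine ⟨(towerIso g K (Polynomial K)).inv ≫ P, ?_⟩
      rw [← cancel_epi (towerIso g K (LaurentPolynomial K)).hom, ← reassoc_of% hp, Iso.hom_inv_id_assoc, hP]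
    · rintro ⟨P, hP⟩
      exact ⟨(towerIso g K (Polynomial K)).hom ≫ P, by rw [reassoc_of% hp, hP]⟩
  rw [this, exists_extend_iff, ← pmap_cjPt, fn_pmap]
  simp only [AlgHom.comp_apply, AddMonoidAlgebra.coeff_mapAlgHom]

variable (b : D.P.Base) {m : ℕ} {ep : Fin m → D.idx} (hpos : RedSub.Enumerates (RedSub.posRoots D.P b) ep)
include hpos

/-- the image of the Borel parametrisation is closed in each affine chart -/
theorem isClosed_preimage_range [IsOpenImmersion g] {φu : pt g (Crd g G) ⟶ G}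
    (hφu : φu.left = (pullback G.hom g).isoSpec.inv ≫ pullback.fst G.hom g) :
    IsClosed (φu.left.base ⁻¹' Set.range (RedSub.borelMap D ep).left.base) := by
  haveI := isReduced' D b
  haveI := isAffine_pb g (G := G)
  haveI : IsOpenImmersion φu.left := by rw [hφu]; infer_instance
  obtain ⟨h, hp, hn⟩ := exists_regular D b
  let Z : Set (Crd g G) := {c | ∃ a, ∃ k : ℤ, k < 0 ∧ c = (fn g (cjPt D g h φu) a).coeff k}
  have key : φu.left.base ⁻¹' Set.range (RedSub.borelMap D ep).left.base =
      PrimeSpectrum.zeroLocus Z := by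
    -- a field valued point over a point of the chart
    have chart : ∀ (K : Type u) [Field K] (g' : Spec (CommRingCat.of K) ⟶ S) (j : pt g' K ⟶ G)
        (p : ↥(pt g (Crd g G)).left), (∀ s, j.left.base s = φu.left.base p) →
        ((∀ c ∈ Z, c ∈ p.asIdeal) ↔ j ∈ Att D g' h) := by
      intro K _ g' j p hj
      obtain ⟨l, hl⟩ : ∃ l, l ≫ φu.left = j.left := ⟨IsOpenImmersion.lift φu.left j.left (by
        rintro _ ⟨s, rfl⟩; exact ⟨p, (hj s).symm⟩), IsOpenImmersion.lift_fac _ _ _⟩
      obtain ⟨f, rfl⟩ : ∃ f : CommRingCat.of (Crd g G) ⟶ CommRingCat.of K, Spec.map f = l :=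
        ⟨Spec.preimage l, Spec.map_preimage l⟩
      letI : Algebra R K := (f.hom.comp (algebraMap R (Crd g G))).toAlgebra
      let φ : Crd g G →ₐ[R] K := { f.hom with commutes' := fun _ => rfl }
      have hg : Spec.map (CommRingCat.ofHom (algebraMap R K)) ≫ g = g' := by
        have w := Over.w j
        rw [← hl, Category.assoc, Over.w φu] at w
        change Spec.map f ≫ Spec.map _ ≫ g = Spec.map _ ≫ g' at w
        rw [← Category.assoc, ← Spec.map_comp, show CommRingCat.ofHom (algebraMap K K) = 𝟙 _ from rfl,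
          Spec.map_id, Category.id_comp] at w
        exact w
      subst hg
      have hjeq : j = (towerIso g K K).hom ≫ pmap g φ ≫ φu := by
        ext : 1
        rw [← hl]
        exact (Category.id_comp _).symm
      have hker : p.asIdeal = RingHom.ker φ.toRingHom := by
        have e : p = PrimeSpectrum.comap f.hom (IsLocalRing.closedPoint K) := by
          refine φu.left.isOpenEmbedding.injective ?_
          rw [← hj (IsLocalRing.closedPoint K), ← hl]
          rfl
        rw [e]
        change Ideal.comap f.hom (IsLocalRing.maximalIdeal K) = _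
        rw [IsLocalRing.maximalIdeal_eq_bot]
        rfl
      rw [hjeq, mem_Att_iff_coeff, hker]
      constructor
      · exact fun hZ a k hk => hZ _ ⟨a, k, hk, rfl⟩
      · rintro hA _ ⟨a, k, hk, rfl⟩
        exact hA a k hk
    ext p
    constructor
    · rintro ⟨w, hw⟩
      obtain ⟨K, _, g', z, hz⟩ := exists_field_point _ w
      refine fun c hc => (chart K g' (z ≫ RedSub.borelMap D ep) p fun s => ?_).mpr
        (Bp_le_Att D b g' h hp (borelMap_mem_Bp D g' b hpos z)) c hc
      rw [← hw, ← hz s]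
      rfl
    · intro hZ
      obtain ⟨K, _, g', j, hj, -, hBU⟩ := exists_point_BU D b (φu.left.base p)
      obtain ⟨z, hz⟩ := exists_lift_borel D g' b hpos
        (mem_Bp_of_mem_Att D b g' hp hn hBU ((chart K g' j p hj).mp hZ))
      exact mem_range_of_eq _ hj z hz
  rw [key]
  exact PrimeSpectrum.isClosed_zeroLocus Z

theorem isClosed_range_borelMap : IsClosed (Set.range (RedSub.borelMap D ep).left.base) := by
  rw [← isOpen_compl_iff, isOpen_iff_forall_mem_open]
  intro x hx
  let i := S.affineCover.idx (G.hom.base x)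
  let g := S.affineCover.f i
  haveI : IsOpenImmersion g := S.affineCover.map_prop i
  obtain ⟨φu, -, hφu⟩ := exists_univ (G := G) g
  haveI := isAffine_pb g (G := G)
  haveI : IsOpenImmersion φu.left := by rw [hφu]; infer_instance
  refine ⟨φu.left.base '' (φu.left.base ⁻¹' Set.range (RedSub.borelMap D ep).left.base)ᶜ, ?_,
    φu.left.isOpenEmbedding.isOpenMap _ (isClosed_preimage_range D g b hpos hφu).isOpen_compl, ?_⟩
  · rintro _ ⟨p, hp, rfl⟩
    exact hp
  · have : x ∈ Set.range (pullback.fst G.hom g).base := by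
      rw [Scheme.Pullback.range_fst]
      exact S.affineCover.covers (G.hom.base x)
    obtain ⟨y, hy⟩ := this
    refine ⟨(pullback G.hom g).isoSpec.hom.base y, ?_, ?_⟩
    · rintro ⟨w, hw⟩
      refine hx ⟨w, hw.trans ?_⟩
      rw [hφu]
      exact (Scheme.Hom.comp_apply _ _ _).symm.trans
        ((congrArg (fun f : pullback G.hom g ⟶ G.left => f y) (Iso.hom_inv_id_assoc _ _)).trans hy)
    · rw [hφu]
      exact (Scheme.Hom.comp_apply _ _ _).symm.trans
        ((congrArg (fun f : pullback G.hom g ⟶ G.left => f y) (Iso.hom_inv_id_assoc _ _)).trans hy)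

end Chart

/-- the Borel parametrisation is a closed immersion -/
theorem isClosedImmersion_borelMap (b : D.P.Base) {m : ℕ} {ep : Fin m → D.idx}
    (hpos : RedSub.Enumerates (RedSub.posRoots D.P b) ep) : IsClosedImmersion (RedSub.borelMap D ep).left := by
  haveI := isAffineHom_hom D
  haveI := isImmersion_borelMap D b hpos
  rw [IsClosedImmersion.iff_isPreimmersion]
  exact ⟨inferInstance, isClosed_range_borelMap D b hpos⟩

end Groth.Agent.H21Split
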