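import Groth.Agent.H21Split.PowPts
import Groth.Agent.H21Diag.SmoothLift
import Mathlib.AlgebraicGeometry.Morphisms.FiniteType
import Mathlib.Algebra.Group.UniqueProds.Basic

/-!
Points of the fibres of a split group, connectedness of the fibres of products of a torus and additive groups.
-/

open CategoryTheory MonoidalCategory CartesianMonoidalCategory MonObj GrpObj AlgebraicGeometry
open CategoryTheory.Limits

universe u

set_option backward.isDefEq.respectTransparency false
set_option linter.style.haveILetI false
set_option linter.unusedSectionVars false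
set_option synthInstance.maxHeartbeats 400000

noncomputable section

namespace Groth.Agent.H21Split

variable {S : Scheme.{u}} {R : Type u} [CommRing R] (g : Spec (CommRingCat.of R) ⟶ S)
variable (B : Type u) [CommRing B] [Algebra R B] {B' : Type u} [CommRing B'] [Algebra R B']

/-- the affine test object over the base ring -/
abbrev affO : Over (Spec (CommRingCat.of R)) := Over.mk (Spec.map (CommRingCat.ofHom (algebraMap R B)))

/-- the points of a fibre -/
def fibHom (X : Over S) [GrpObj X] : (affO B ⟶ Red.bc g X) →* (pt g B ⟶ X) :=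
  H21Diag.bcHom g X (affO B)

/-- the points of a fibre -/
def fibEquiv (X : Over S) : (affO B ⟶ Red.bc g X) ≃ (pt g B ⟶ X) := (H21Diag.bcEquiv g X (affO B)).symm

theorem fibHom_eq (X : Over S) [GrpObj X] (a : affO B ⟶ Red.bc g X) : fibHom g B X a = fibEquiv g B X a := rfl

theorem fibEquiv_comp {X Y : Over S} (v : X ⟶ Y) (a : affO B ⟶ Red.bc g X) :
    fibEquiv g B Y (a ≫ (Over.pullback g).map v) = fibEquiv g B X a ≫ v :=
  (Over.mapPullbackAdj g).homEquiv_naturality_right_symm a v

variable {B}

/-- functoriality of the affine test objects -/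
def affMap (f : B →ₐ[R] B') : affO (R := R) B' ⟶ affO B :=
  Over.homMk (Spec.map (CommRingCat.ofHom f.toRingHom)) (by
    change Spec.map _ ≫ Spec.map _ = Spec.map _
    rw [← Spec.map_comp, ← CommRingCat.ofHom_comp]
    congr 2
    exact RingHom.ext fun r => f.commutes r)

theorem fibEquiv_affMap {X : Over S} (f : B →ₐ[R] B') (a : affO B ⟶ Red.bc g X) :
    fibEquiv g B' X (affMap f ≫ a) = pmap g f ≫ fibEquiv g B X a := by
  refine ((Over.mapPullbackAdj g).homEquiv_naturality_left_symm (affMap f) a).trans ?_
  ext : 1
  rfl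

end Groth.Agent.H21Split

namespace Groth.Agent.H21Split

variable {S : Scheme.{u}} {G : Over S} [GrpObj G] (D : Red.SplitRed G)

/-- the fibre of a product of the torus and additive groups is connected -/
theorem connected_fib_cell {Ω : Type u} [Field Ω] (g : Spec (CommRingCat.of Ω) ⟶ S) (m : ℕ) :
    ConnectedSpace (Red.bc g (D.T ⊗ RedSub.pow (Red.Ga S) m)).left := by
  let U := MvPolynomial (Fin m) (MonoidAlgebra Ω (Multiplicative D.M))
  haveI : TwoUniqueSums D.M :=
    TwoUniqueSums.of_injective_addHom (Module.Free.chooseBasis ℤ D.M).repr.toAddEquiv.toAddHom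
      (Module.Free.chooseBasis ℤ D.M).repr.injective inferInstance
  haveI : IsDomain (MonoidAlgebra Ω (Multiplicative D.M)) := inferInstance
  let χ0 : Multiplicative D.M →* U := MvPolynomial.C.toMonoidHom.comp (MonoidAlgebra.of Ω (Multiplicative D.M))
  let u0 : pt g U ⟶ D.T ⊗ RedSub.pow (Red.Ga S) m :=
    lift (ds g χ0 ≫ D.split.inv.hom.hom) (gas g fun k => MvPolynomial.X k)
  let u1 : affO U ⟶ Red.bc g (D.T ⊗ RedSub.pow (Red.Ga S) m) := (fibEquiv g U _).symm u0
  have hsurj : Function.Surjective u1.left := by
    intro p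
    let X' := Red.bc g (D.T ⊗ RedSub.pow (Red.Ga S) m)
    let q : Spec (X'.left.residueField p) ⟶ X'.left := X'.left.fromSpecResidueField p
    let φ := Spec.preimage (q ≫ X'.hom)
    letI : Algebra Ω (X'.left.residueField p) := φ.hom.toAlgebra
    let q' : affO (X'.left.residueField p) ⟶ X' := Over.homMk q (Spec.map_preimage _).symm
    let a := fibEquiv g _ _ q'
    obtain ⟨χ, hχ⟩ := ds_surjective g ((a ≫ fst _ _) ≫ D.split.hom.hom.hom)
    let ψ : U →ₐ[Ω] X'.left.residueField p :=
      { MvPolynomial.eval₂Hom (MonoidAlgebra.lift Ω (X'.left.residueField p) (Multiplicative D.M) χ).toRingHom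
          (gvs g (a ≫ snd _ _)) with
        commutes' := fun r => by
          change MvPolynomial.eval₂Hom _ _ (algebraMap Ω U r) = _
          rw [IsScalarTower.algebraMap_apply Ω (MonoidAlgebra Ω (Multiplicative D.M)) U]
          change MvPolynomial.eval₂Hom _ _ (MvPolynomial.C (algebraMap Ω _ r)) = _
          rw [MvPolynomial.eval₂Hom_C]
          exact AlgHom.commutes _ r }
    have hψC : ∀ x, ψ (MvPolynomial.C x) = MonoidAlgebra.lift Ω (X'.left.residueField p) (Multiplicative D.M) χ x :=
      fun x => MvPolynomial.eval₂Hom_C _ _ x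
    have hψX : ∀ k, ψ (MvPolynomial.X k) = gvs g (a ≫ snd _ _) k := fun k => MvPolynomial.eval₂Hom_X' _ _ k
    have e : pmap g ψ ≫ u0 = a := by
      refine CartesianMonoidalCategory.hom_ext _ _ ?_ ?_
      · simp only [u0, Category.assoc, lift_fst]
        rw [← Category.assoc, pmap_ds, show ψ.toRingHom.toMonoidHom.comp χ0 = χ from MonoidHom.ext fun x =>
          (hψC _).trans (MonoidAlgebra.lift_of _ _), hχ, Category.assoc, split_hom_inv, Category.comp_id]
      · simp only [u0, Category.assoc, lift_snd]
        rw [pmap_gas, funext hψX, gas_gvs]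
    have e1 : affMap ψ ≫ u1 = q' := (fibEquiv g _ _).injective (by
      rw [fibEquiv_affMap, Equiv.apply_symm_apply, e])
    let z : Spec (X'.left.residueField p) := IsLocalRing.closedPoint _
    exact ⟨(affMap ψ).left z, (congrArg (fun r : affO (X'.left.residueField p) ⟶ X' => r.left z) e1).trans
      (Scheme.fromSpecResidueField_apply _ _)⟩
  have : ConnectedSpace (affO (R := Ω) U).left := inferInstanceAs (ConnectedSpace (PrimeSpectrum U))
  exact hsurj.connectedSpace u1.left.continuous

include D in
/-- the fibre of a power of the additive group is connected -/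
theorem connected_fib_pow {Ω : Type u} [Field Ω] (g : Spec (CommRingCat.of Ω) ⟶ S) (m : ℕ) :
    ConnectedSpace (Red.bc g (RedSub.pow (Red.Ga S) m)).left := by
  haveI := connected_fib_cell D g m
  let p : Red.bc g (D.T ⊗ RedSub.pow (Red.Ga S) m) ⟶ Red.bc g (RedSub.pow (Red.Ga S) m) :=
    (Over.pullback g).map (snd _ _)
  let s : Red.bc g (RedSub.pow (Red.Ga S) m) ⟶ Red.bc g (D.T ⊗ RedSub.pow (Red.Ga S) m) :=
    (Over.pullback g).map (lift (toUnit _ ≫ η[D.T]) (𝟙 _))
  have h : Function.Surjective p.left := fun x => ⟨s.left x, by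
    rw [← Scheme.Hom.comp_apply, ← Over.comp_left]
    change ((Over.pullback g).map _ ≫ (Over.pullback g).map _).left x = x
    rw [← Functor.map_comp, lift_snd, CategoryTheory.Functor.map_id]
    rfl⟩
  exact h.connectedSpace p.left.continuous

end Groth.Agent.H21Split
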