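import Groth.Agent.H21Split.Bru.Bruhat
import Groth.Agent.H21Split.Commutator
import Mathlib.GroupTheory.Solvable

/-!
The filtration of the positive unipotent group and solvability of the Borel group.
-/

open CategoryTheory MonoidalCategory CartesianMonoidalCategory MonObj GrpObj AlgebraicGeometry
open scoped commutatorElement

universe u

set_option backward.isDefEq.respectTransparency false
set_option linter.style.haveILetI false
set_option linter.unusedSectionVars false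
set_option synthInstance.maxHeartbeats 400000

noncomputable section

namespace Groth.Agent.H21Split

variable {S : Scheme.{u}} {G : Over S} [GrpObj G] (D : Red.SplitRed G) (h : D.M →+ ℤ)

section Ring

variable {R : Type u} [CommRing R] (g : Spec (CommRingCat.of R) ⟶ S)

/-- the groups of the filtration by a cocharacter -/
abbrev Vg (k : ℤ) : Subgroup (pt g R ⟶ G) := Ug D g {c | k ≤ h (D.P.root c)}

theorem Vg_anti {k l : ℤ} (hkl : k ≤ l) : Vg D h g l ≤ Vg D h g k := Ug_mono D g fun _ hc => hkl.trans hc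

variable [D.P.IsReduced]

/-- two distinct roots on the positive side are independent -/
theorem indep_of_pos {a b : D.idx} (ha : 0 < h (D.P.root a)) (hb : 0 < h (D.P.root b)) (hab : a ≠ b) {s t : ℤ}
    (hst : s • D.P.root a + t • D.P.root b = 0) : s = 0 ∧ t = 0 := by
  refine LinearIndependent.pair_iff.mp ?_ s t hst
  by_contra hn
  rcases RootPairing.IsReduced.eq_or_eq_neg (P := D.P) a b hn with e | e
  · exact hab (D.P.root.injective e)
  · rw [e, map_neg] at ha
    omega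

/-- conjugation of a positive root point by another one -/
theorem exists_conj_eq {a b : D.idx} (ha : 0 < h (D.P.root a)) (hb : 0 < h (D.P.root b)) (x y : R) :
    ∃ P ∈ Vg D h g (h (D.P.root a) + h (D.P.root b)),
      uPt g D a x * uPt g D b y * (uPt g D a x)⁻¹ = uPt g D b y * P := by
  rcases eq_or_ne a b with rfl | hab
  · exact ⟨1, one_mem _, by
      rw [← uPt_add, add_comm, uPt_add, mul_inv_cancel_right, _root_.mul_one]⟩
  haveI := isAffineHom_hom D
  obtain ⟨n, e, he, hrange⟩ := exists_enum D {c | ∃ p q : ℕ, 1 ≤ p ∧ 1 ≤ q ∧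
    D.P.root c = (p : ℤ) • D.P.root a + (q : ℤ) • D.P.root b}
  choose i j hi hj hij using fun k => hrange.subset ⟨k, rfl⟩
  obtain ⟨C, hC, -⟩ := existsUnique_comm_core D g a b (fun p q hp _ h0 => by
      obtain ⟨h1, -⟩ := indep_of_pos D h ha hb hab h0
      omega) e i j he (fun k => ⟨hi k, hj k, hij k⟩) (fun c p q hp hq hc => by
      obtain ⟨k, rfl⟩ := hrange.symm.subset ⟨p, q, hp, hq, hc⟩
      obtain ⟨h1, h2⟩ := indep_of_pos D h ha hb hab (s := (i k : ℤ) - p) (t := (j k : ℤ) - q) (by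
        rw [sub_smul, sub_smul, sub_add_sub_comm, ← hij k, ← hc, sub_self])
      exact ⟨k, rfl, by omega, by omega⟩)
  refine ⟨_, Subgroup.list_prod_mem _ fun z hz => ?_, hC R x y⟩
  obtain ⟨k, rfl⟩ := List.mem_ofFn.mp hz
  refine uPt_mem_Ug D g ?_ _
  change _ ≤ h (D.P.root (e k))
  rw [hij k, map_add, map_zsmul, map_zsmul, smul_eq_mul, smul_eq_mul]
  have h1 : (1 : ℤ) ≤ i k := by exact_mod_cast hi k
  have h2 : (1 : ℤ) ≤ j k := by exact_mod_cast hj k
  nlinarith

variable (b : D.P.Base) (hp : ∀ c ∈ RedSub.posRoots D.P b, 0 < h (D.P.root c))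
include hp

/-- the filtration is normal in the Borel group -/
theorem conj_mem_Vg {k : ℤ} (hk : 1 ≤ k) {p : pt g R ⟶ G} (hpm : p ∈ Bp D b g) :
    ∀ z ∈ Vg D h g k, p * z * p⁻¹ ∈ Vg D h g k := by
  have key : Bp D b g ≤ Subgroup.normalizer (Vg D h g k : Set _) := by
    refine sup_le (Tg_le_normalizer D g _) (Ug_le D g fun a ha x => ?_)
    rw [Subgroup.mem_normalizer_iff]
    have h0 : ∀ (y : R), ∀ z ∈ Vg D h g k, uPt g D a y * z * (uPt g D a y)⁻¹ ∈ Vg D h g k := fun y z hz =>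
      conj_Ug_le D g _ (fun c hc w => by
        obtain ⟨P, hP, e⟩ := exists_conj_eq D h g (hp a ha) (lt_of_lt_of_le zero_lt_one (hk.trans hc)) y w
        rw [e]
        exact mul_mem (uPt_mem_Ug D g hc w)
          (Vg_anti D h g (hc.trans (le_add_of_nonneg_left (hp a ha).le)) hP)) hz
    refine fun z => ⟨fun hz => h0 x z hz, fun hz => ?_⟩
    have := h0 (-x) _ hz
    rwa [uPt_neg, show (uPt g D a x)⁻¹ * (uPt g D a x * z * (uPt g D a x)⁻¹) * (uPt g D a x)⁻¹⁻¹ = z by group] at this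
  exact fun z hz => (Subgroup.mem_normalizer_iff.mp (key hpm) z).mp hz

omit hp in
theorem Vg_le_Bp (hn : ∀ c ∈ RedSub.negRoots D.P b, h (D.P.root c) < 0) {k : ℤ} (hk : 1 ≤ k) :
    Vg D h g k ≤ Bp D b g :=
  haveI := D.fintypeIdx
  haveI : Finite D.idx := Finite.of_fintype _
  Ug_le D g fun c hc => uPt_mem_Bp D b g ((mem_pos_or_neg b c).resolve_right fun h' => by
    have := hn c h'
    change k ≤ h (D.P.root c) at hc
    omega)

variable (hn : ∀ c ∈ RedSub.negRoots D.P b, h (D.P.root c) < 0)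
include hn

omit [D.P.IsReduced] hp hn in
theorem comm_mul_left {H : Type*} [Group H] (u v z : H) : ⁅u * v, z⁆ = u * ⁅v, z⁆ * u⁻¹ * ⁅u, z⁆ := by
  simp [commutatorElement_def]; group

omit [D.P.IsReduced] hp hn in
theorem comm_mul_right {H : Type*} [Group H] (u v z : H) : ⁅u, v * z⁆ = ⁅u, v⁆ * (v * ⁅u, z⁆ * v⁻¹) := by
  simp [commutatorElement_def]; group

/-- commutators go down in the filtration -/
theorem comm_mem_Vg {k : ℤ} (hk : 1 ≤ k) : ∀ u ∈ Vg D h g 1, ∀ z ∈ Vg D h g k, ⁅u, z⁆ ∈ Vg D h g (k + 1) := by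
  have hk1 : 1 ≤ k + 1 := by omega
  have hB : ∀ {u}, u ∈ Vg D h g 1 → u ∈ Bp D b g := fun hu => Vg_le_Bp D h g b hn le_rfl hu
  have hroot : ∀ (a : D.idx) (x : R), 1 ≤ h (D.P.root a) → ∀ z ∈ Vg D h g k, ⁅uPt g D a x, z⁆ ∈ Vg D h g (k + 1) := by
    intro a x ha
    have hu : uPt g D a x ∈ Bp D b g := hB (uPt_mem_Ug D g ha x)
    let C : Subgroup (pt g R ⟶ G) :=
      { carrier := {z | z ∈ Vg D h g k ∧ ⁅uPt g D a x, z⁆ ∈ Vg D h g (k + 1)}
        one_mem' := ⟨one_mem _, by rw [commutatorElement_one_right]; exact one_mem _⟩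
        mul_mem' := fun {v z} hv hz => ⟨mul_mem hv.1 hz.1, by
          rw [comm_mul_right]
          exact mul_mem hv.2 (conj_mem_Vg D h g b hp hk1 (Vg_le_Bp D h g b hn hk hv.1) _ hz.2)⟩
        inv_mem' := fun {z} hz => ⟨inv_mem hz.1, by
          rw [show ⁅uPt g D a x, z⁻¹⁆ = z⁻¹ * (⁅uPt g D a x, z⁆)⁻¹ * z⁻¹⁻¹ by simp [commutatorElement_def]; group]
          exact conj_mem_Vg D h g b hp hk1 (inv_mem (Vg_le_Bp D h g b hn hk hz.1)) _ (inv_mem hz.2)⟩ }
    have : Vg D h g k ≤ C := Ug_le D g fun c hc y => by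
      refine ⟨uPt_mem_Ug D g hc y, ?_⟩
      have hc0 : 0 < h (D.P.root c) := by change k ≤ h (D.P.root c) at hc; omega
      obtain ⟨P, hP, e⟩ := exists_conj_eq D h g (show 0 < h (D.P.root a) by omega) hc0 x y
      rw [commutatorElement_def, e]
      refine conj_mem_Vg D h g b hp hk1 (Vg_le_Bp D h g b hn hk (uPt_mem_Ug D g hc y)) _
        (Vg_anti D h g ?_ hP)
      change k ≤ h (D.P.root c) at hc
      omega
    exact fun z hz => (this hz).2
  let C : Subgroup (pt g R ⟶ G) :=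
    { carrier := {u | u ∈ Bp D b g ∧ ∀ z ∈ Vg D h g k, ⁅u, z⁆ ∈ Vg D h g (k + 1)}
      one_mem' := ⟨one_mem _, fun z _ => by rw [commutatorElement_one_left]; exact one_mem _⟩
      mul_mem' := fun {u v} hu hv => ⟨mul_mem hu.1 hv.1, fun z hz => by
        rw [comm_mul_left]
        exact mul_mem (conj_mem_Vg D h g b hp hk1 hu.1 _ (hv.2 z hz)) (hu.2 z hz)⟩
      inv_mem' := fun {u} hu => ⟨inv_mem hu.1, fun z hz => by
        rw [show ⁅u⁻¹, z⁆ = u⁻¹ * (⁅u, z⁆)⁻¹ * u⁻¹⁻¹ by simp [commutatorElement_def]; group]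
        exact conj_mem_Vg D h g b hp hk1 (inv_mem hu.1) _ (inv_mem (hu.2 z hz))⟩ }
  have : Vg D h g 1 ≤ C := Ug_le D g fun a ha x => ⟨hB (uPt_mem_Ug D g ha x), hroot a x ha⟩
  exact fun u hu => (this hu).2

/-- the commutators of the Borel group are unipotent -/
theorem comm_Bp_mem {p q : pt g R ⟶ G} (hp' : p ∈ Bp D b g) (hq : q ∈ Bp D b g) : ⁅p, q⁆ ∈ Vg D h g 1 := by
  obtain ⟨t, ht, v, hv, rfl⟩ := (mem_TU D g).mp hp'
  obtain ⟨t', ht', v', hv', rfl⟩ := (mem_TU D g).mp hq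
  have hU : Ug D g (RedSub.posRoots D.P b) ≤ Vg D h g 1 := Ug_mono D g fun c hc => hp c hc
  have hc : t * t' = t' * t := by
    obtain ⟨χ, rfl⟩ := ht
    obtain ⟨χ', rfl⟩ := ht'
    exact (tPt_commute g D χ χ').eq
  have e : ⁅t * v, t' * v'⁆ = (t * v * t⁻¹) * ((t * t') * (v' * v⁻¹) * (t * t')⁻¹) * (t' * v'⁻¹ * t'⁻¹) := by
    have h1 : (t * t')⁻¹ * t' = t⁻¹ := by rw [hc]; group
    calc ⁅t * v, t' * v'⁆ = (t * v * t⁻¹) * (t * t') * (v' * v⁻¹) * t⁻¹ * v'⁻¹ * t'⁻¹ := by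
          simp [commutatorElement_def]; group
      _ = _ := by rw [← h1]; group
  rw [e]
  refine hU (mul_mem (mul_mem (Tg_conj_mem D g ht hv) (Tg_conj_mem D g (mul_mem ht ht') (mul_mem hv' (inv_mem hv)))) ?_)
  exact Tg_conj_mem D g ht' (inv_mem hv')

/-- the derived series of the Borel group descends along the filtration -/
theorem map_derived_le {H : Type*} [Group H] (ψ : H →* (pt g R ⟶ G)) (hψ : ψ.range ≤ Bp D b g) :
    ∀ n : ℕ, (derivedSeries H (n + 1)).map ψ ≤ Vg D h g ((n : ℤ) + 1) := by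
  intro n
  induction n with
  | zero =>
    rw [derivedSeries_succ, Subgroup.map_commutator, Subgroup.commutator_le]
    rintro _ ⟨p, -, rfl⟩ _ ⟨q, -, rfl⟩
    simpa using comm_Bp_mem D h g b hp hn (hψ ⟨p, rfl⟩) (hψ ⟨q, rfl⟩)
  | succ n ih =>
    rw [derivedSeries_succ, Subgroup.map_commutator, Subgroup.commutator_le]
    intro p hp' q hq
    have := comm_mem_Vg D h g b hp hn (k := (n : ℤ) + 1) (by omega) p
      (Vg_anti D h g (by omega) (ih hp')) q (ih hq)
    simpa using this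

theorem exists_bound : ∃ N : ℕ, ∀ c, h (D.P.root c) < (N : ℤ) + 1 := by
  haveI := D.fintypeIdx
  obtain ⟨N, hN⟩ := (Set.finite_range fun c : D.idx => (h (D.P.root c)).toNat).bddAbove
  exact ⟨N, fun c => by have := hN ⟨c, rfl⟩; simp only at this; omega⟩

end Ring

theorem exists_derived_vanish [D.P.IsReduced] (b : D.P.Base) (hp : ∀ c ∈ RedSub.posRoots D.P b, 0 < h (D.P.root c))
    (hn : ∀ c ∈ RedSub.negRoots D.P b, h (D.P.root c) < 0) : ∃ N : ℕ, ∀ (R : Type u) [CommRing R]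
      (g : Spec (CommRingCat.of R) ⟶ S) (H : Type u) [Group H] (ψ : H →* (pt g R ⟶ G)),
      ψ.range ≤ Bp D b g → (derivedSeries H (N + 1)).map ψ = ⊥ := by
  obtain ⟨N, hN⟩ := exists_bound D h b hp hn
  refine ⟨N, fun R _ g H _ ψ hψ => le_bot_iff.mp ((map_derived_le D h g b hp hn ψ hψ N).trans ?_)⟩
  exact Ug_le D g fun c hc => absurd hc (not_le.mpr (hN c))

end Groth.Agent.H21Split
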