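import Groth.Agent.H21Split.Bru.Attract
import Groth.Agent.H21Split.Bru.Unip

/-!
Maximality of the Borel group among the solvable subgroups of the points over a field.
-/

open CategoryTheory MonoidalCategory CartesianMonoidalCategory MonObj GrpObj AlgebraicGeometry
open scoped commutatorElement
open Groth.Agent.H21Root (opp root_opp sr wl wl_cons smul_opp)

universe u

set_option backward.isDefEq.respectTransparency false
set_option linter.style.haveILetI false
set_option linter.unusedSectionVars false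
set_option synthInstance.maxHeartbeats 400000

noncomputable section

namespace Groth.Agent.H21Split

variable {S : Scheme.{u}} {G : Over S} [GrpObj G] (D : Red.SplitRed G) (b : D.P.Base) [D.P.IsReduced]
variable {K : Type u} [Field K] (g : Spec (CommRingCat.of K) ⟶ S)

/-- every field valued point lies in a Bruhat set -/
theorem all_mem_BU (j : pt g K ⟶ G) : j ∈ BU D b g := by
  haveI := smooth_hom D
  obtain ⟨n, en, hen⟩ := exists_enum D (RedSub.negRoots D.P b)
  obtain ⟨m, ep, hep⟩ := exists_enum D (RedSub.posRoots D.P b)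
  obtain ⟨hD, hbij⟩ := isCellData_of_base D b hen hep
  haveI := isOpenImmersion_cellMap D en ep hD hbij
  let c := RedSub.cellMap D en ep
  let pt0 : ↥(pt g K).left := IsLocalRing.closedPoint K
  obtain ⟨l, hl, q, hq⟩ := exists_translate_nW D b hen hep (j.left pt0)
  let L : G ⟶ G := (toUnit G ≫ (nW D l)⁻¹) * 𝟙 G
  have e1 : (sec g (nW D l))⁻¹ * j = j ≫ L := by
    rw [MonObj.comp_mul, Category.comp_id, ← Category.assoc, toUnit_unique (j ≫ toUnit G) (toUnit _), sec,
      GrpObj.comp_inv]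
  have e2 : ((toUnit _ ≫ nW D l) * c) ≫ L = c := by
    rw [MonObj.comp_mul, Category.comp_id, ← Category.assoc, toUnit_unique (_ ≫ toUnit G) (toUnit _),
      GrpObj.comp_inv, inv_mul_cancel_left]
  have hr : Set.range ((sec g (nW D l))⁻¹ * j).left ⊆ Set.range c.left := by
    rintro _ ⟨s, rfl⟩
    haveI : Subsingleton ↥(pt g K).left := inferInstanceAs (Subsingleton (PrimeSpectrum K))
    rw [Subsingleton.elim s pt0, e1]
    refine ⟨q, (congrArg (fun f : _ ⟶ G => f.left q) e2).symm.trans ?_⟩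
    exact congrArg L.left hq
  obtain ⟨ω, hω⟩ := H21Rank1.exists_lift_of_range_subset c _ hr
  have h1 : (sec g (nW D l))⁻¹ * j ∈ Om D g b := (mem_Om_iff_lift D g hen hep).mpr ⟨ω, hω⟩
  have h2 := ((mul_mem (nW_mem_stabBU D b g l hl) (Om_subset_stabBU D b g h1)) 1 (one_mem_BU D b g)).1
  rwa [mul_inv_cancel_left, _root_.mul_one] at h2

/-- a root point is a commutator inside the rank one group -/
theorem exists_comm_root (d : D.idx) {u : Kˣ} (hu : (u : K) * u ≠ 1) (y : K) :
    ∃ s ∈ Ug D g {d, opp D.P d}, ∃ x, ⁅s, uPt g D d x⁆ = uPt g D d y := by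
  let r := r1 D d (pt g K)
  let ι₀ : K →* Γ((pt g K).left, ⊤) := (Scheme.ΓSpecIso (CommRingCat.of K)).inv.hom.toMonoidHom
  let z : (Γ((pt g K).left, ⊤) : Type u)ˣ := Units.map ι₀ u
  have hz : IsUnit ((z : Γ((pt g K).left, ⊤)) * z - 1) := by
    have : (z : Γ((pt g K).left, ⊤)) * z - 1 = (Scheme.ΓSpecIso (CommRingCat.of K)).inv.hom ((u : K) * u - 1) := by
      rw [map_sub, map_mul, map_one]; rfl
    rw [this]
    exact (isUnit_iff_ne_zero.mpr (sub_ne_zero.mpr hu)).map _
  obtain ⟨w, hw⟩ := hz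
  let f : Γ((pt g K).left, ⊤) := Red.gaFn (ga g y)
  obtain ⟨x, hx⟩ := (mem_Ur D g).mp (r1_P_mem D d g (↑w⁻¹ * f))
  refine ⟨r.C (r.V z), ?_, x, ?_⟩
  · rw [r.V_eq]
    exact mul_mem (mul_mem (mul_mem (Ur_le_Ug D g (by simp) (r1_N_mem D d g _))
      (Ur_le_Ug D g (by simp) (r1_P_mem D d g _))) (Ur_le_Ug D g (by simp) (r1_N_mem D d g _)))
      (Ur_le_Ug D g (by simp) (r1_P_mem D d g _))
  · rw [hx, uPt_eq_P, commutatorElement_def, r.CP, mul_inv_cancel_right, r.hV, ← r.P_neg, ← r.P_add]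
    congr 1
    rw [show ((z * z : _ˣ) : Γ((pt g K).left, ⊤)) * (↑w⁻¹ * f) + -(↑w⁻¹ * f) =
      ((z : Γ((pt g K).left, ⊤)) * z - 1) * ↑w⁻¹ * f by push_cast; ring, ← hw, Units.mul_inv, _root_.one_mul]

variable {H : Type u} [Group H] (ψ : H →* (pt g K ⟶ G))

/-- two opposite root groups stay in the derived series -/
theorem root_mem_derived (d : D.idx) (hd : Ug D g {d, opp D.P d} ≤ ψ.range) {u : Kˣ} (hu : (u : K) * u ≠ 1) :
    ∀ n : ℕ, Ug D g {d, opp D.P d} ≤ (derivedSeries H n).map ψ := by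
  intro n
  induction n with
  | zero =>
    rw [derivedSeries_zero, ← MonoidHom.range_eq_map]
    exact hd
  | succ n ih =>
    rw [derivedSeries_succ, Subgroup.map_commutator]
    refine Ug_le D g fun c hc y => ?_
    have hpair : Ug D g {c, opp D.P c} ≤ (derivedSeries H n).map ψ := by
      refine (Ug_mono D g ?_).trans ih
      rcases hc with rfl | rfl
      · exact le_rfl
      · rw [opp_opp' D d, Set.pair_comm]
    obtain ⟨s, hs, x, hx⟩ := exists_comm_root D g c hu y
    rw [← hx]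
    exact Subgroup.commutator_mem_commutator (hpair hs) (hpair (uPt_mem_Ug D g (by simp) x))

/-- a solvable group containing the Borel group is contained in it -/
theorem range_le_Bp {u : Kˣ} (hu : (u : K) * u ≠ 1) (hB : Bp D b g ≤ ψ.range)
    (hsol : ∃ N : ℕ, (derivedSeries H N).map ψ = ⊥) : ψ.range ≤ Bp D b g := by
  haveI := D.fintypeIdx
  haveI : Finite D.idx := Finite.of_fintype _
  intro j hj
  obtain ⟨l, hl, p, hp, q, hq, rfl⟩ := all_mem_BU D b g j
  set σ := wl D.P l
  set N := sec g (nW D l)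
  have hN : N ∈ ψ.range := by
    have := mul_mem (mul_mem (inv_mem (hB hp)) hj) (inv_mem (hB hq))
    rwa [show p⁻¹ * (p * N * q) * q⁻¹ = N by group] at this
  by_cases hσ : σ = 1
  · obtain ⟨t, ht⟩ := exists_torus_of_rl (rl_nW D l) (n' := 1) (by
      rw [show wl D.P l = 1 from hσ, inv_one, inv_one]; exact rl_one)
    rw [_root_.one_mul] at ht
    have : N ∈ Bp D b g := by
      simp only [N, ht]
      exact Tg_le_Bp D b g (sec_torus D g t)
    exact mul_mem (mul_mem hp this) hq
  exfalso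
  obtain ⟨c, hc, hσc⟩ : ∃ c ∈ RedSub.posRoots D.P b, σ • c ∈ RedSub.negRoots D.P b := by
    by_contra hno
    push Not at hno
    refine hσ ?_
    have hΔ := H21Root.simpleZ_base (P := D.P) b
    refine hΔ.eq_one_of_preserves ?_ fun a ha =>
      (mem_pos_or_neg b _).resolve_right (hno a (simple_mem_pos D b ha))
    rw [← hΔ.closure_eq_weylGroup]
    exact H21Root.wl_mem_WOf D.P hl
  have hneg : Ur D g (σ • c) ≤ ψ.range := fun z hz => by
    obtain ⟨x, rfl⟩ := (mem_Ur D g).mp hz
    obtain ⟨y, hy⟩ := conj_nW_inv D g l (σ • c) x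
    rw [inv_smul_smul] at hy
    rw [show uPt g D (σ • c) x = N * uPt g D c y * N⁻¹ from eq_mul_inv_iff_mul_eq.mpr hy]
    exact mul_mem (mul_mem hN (hB (uPt_mem_Bp D b g hc y))) (inv_mem hN)
  set d := opp D.P (σ • c)
  have hd : Ug D g {d, opp D.P d} ≤ ψ.range := Ug_le D g fun e he x => by
    rcases he with rfl | rfl
    · exact hB (uPt_mem_Bp D b g ((neg_iff_opp_pos D b _).mp hσc) x)
    · rw [opp_opp' D]; exact hneg (uPt_mem_Ur D g _ x)
  obtain ⟨M, hM⟩ := hsol
  have h1 := root_mem_derived D g ψ d hd hu M (uPt_mem_Ug D g (Set.mem_insert d _) (1 : K))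
  rw [hM, Subgroup.mem_bot, ← uPt_zero g D d] at h1
  haveI := isAffineHom_hom D
  exact one_ne_zero (uPt_injective g D d h1)

end Groth.Agent.H21Split
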