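import Groth.Agent.H21Split.Bru.Borel
import Groth.Agent.H21Split.Bru.Fibre
import Groth.Agent.H21Split.Bru.Maximal
import Groth.Agent.H21Diag.Transporter

/-!
The Borel subgroup of a split group.
-/

open CategoryTheory MonoidalCategory CartesianMonoidalCategory MonObj GrpObj AlgebraicGeometry
open CategoryTheory.Limits

universe u

set_option backward.isDefEq.respectTransparency false
set_option linter.style.haveILetI false
set_option linter.unusedSectionVars false
set_option synthInstance.maxHeartbeats 400000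

noncomputable section

namespace Groth.Agent.H21Split

variable {S : Scheme.{u}}

/-- a morphism which factors through a monomorphism on points factors -/
theorem exists_lift_of_pts {X C Y : Over S} (c : C ⟶ Y) [Mono c] (f : X ⟶ Y)
    (h : ∀ (R : Type u) [CommRing R] (g : Spec (CommRingCat.of R) ⟶ S) (j : pt g R ⟶ X),
      ∃ w : pt g R ⟶ C, w ≫ c = j ≫ f) : ∃ z, z ≫ c = f := by
  haveI : Mono c.left := inferInstanceAs (Mono ((Over.forget S).map c))
  let U := X.left.affineCover
  have key : ∀ i, ∃ w : U.X i ⟶ C.left, w ≫ c.left = U.f i ≫ f.left ∧ w ≫ C.hom = U.f i ≫ X.hom := fun i => by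
    obtain ⟨R, hR⟩ : ∃ R : CommRingCat.{u}, Nonempty (Spec R ≅ U.X i) := ⟨Γ(U.X i, ⊤), ⟨(U.X i).isoSpec.symm⟩⟩
    obtain ⟨e⟩ := hR
    let g : Spec (CommRingCat.of R) ⟶ S := (e.hom ≫ U.f i) ≫ X.hom
    let j : pt g R ⟶ X := Over.homMk (e.hom ≫ U.f i) (by
      change (e.hom ≫ U.f i) ≫ X.hom = Spec.map (CommRingCat.ofHom (algebraMap R R)) ≫ g
      rw [show CommRingCat.ofHom (algebraMap R R) = 𝟙 _ from rfl, Spec.map_id, Category.id_comp])
    obtain ⟨w, hw⟩ := h R g j
    have h1 : w.left ≫ c.left = (e.hom ≫ U.f i) ≫ f.left := congrArg CommaMorphism.left hw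
    refine ⟨e.inv ≫ w.left, ?_, ?_⟩
    · rw [Category.assoc, h1, Category.assoc, Iso.inv_hom_id_assoc]
    · rw [← Over.w c, Category.assoc, reassoc_of% h1, Over.w f, Iso.inv_hom_id_assoc]
  choose w hw hw' using key
  let z : X.left ⟶ C.left := U.glueMorphisms w fun i j => by
    rw [← cancel_mono c.left, Category.assoc, Category.assoc, hw, hw, pullback.condition_assoc]
  have hz : ∀ i, U.f i ≫ z = w i := fun i => U.ι_glueMorphisms w _ i
  refine ⟨Over.homMk z ?_, ?_⟩
  · refine U.hom_ext _ _ fun i => ?_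
    rw [← Category.assoc, hz, hw']
  · ext : 1
    refine U.hom_ext _ _ fun i => ?_
    change U.f i ≫ z ≫ c.left = _
    rw [← Category.assoc, hz, hw]

variable {G : Over S} [GrpObj G] (D : Red.SplitRed G) (b : D.P.Base) {m : ℕ} {ep : Fin m → D.idx}
  (hpos : RedSub.Enumerates (RedSub.posRoots D.P b) ep)
include hpos

/-- the group structure of the Borel group -/
theorem exists_borelGrp : ∃ _ : GrpObj (D.T ⊗ RedSub.pow (Red.Ga S) m), IsMonHom (RedSub.borelMap D ep) := by
  haveI := isClosedImmersion_borelMap D b hpos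
  haveI : Mono (RedSub.borelMap D ep) := Over.mono_of_mono_left _
  refine H21Diag.exists_grpObj_of_mono _ ?_ (fun X a a' => ?_) fun X a => ?_
  · exact exists_lift_of_pts _ _ fun R _ g j =>
      exists_lift_borel D g b hpos (by rw [MonObj.comp_one]; exact one_mem _)
  · exact exists_lift_of_pts _ _ fun R _ g j => exists_lift_borel D g b hpos (by
      rw [MonObj.comp_mul, ← Category.assoc, ← Category.assoc]
      exact mul_mem (borelMap_mem_Bp D g b hpos _) (borelMap_mem_Bp D g b hpos _))
  · exact exists_lift_of_pts _ _ fun R _ g j => exists_lift_borel D g b hpos (by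
      rw [GrpObj.comp_inv, ← Category.assoc]
      exact inv_mem (borelMap_mem_Bp D g b hpos _))

variable [GrpObj (D.T ⊗ RedSub.pow (Red.Ga S) m)] [IsMonHom (RedSub.borelMap D ep)]

/-- the points of the Borel group are solvable of bounded length -/
theorem isSolvable_borel : Red.IsSolvableGrp (D.T ⊗ RedSub.pow (Red.Ga S) m) := by
  haveI := isReduced' D b
  haveI := isAffineHom_hom D
  haveI := isClosedImmersion_borelMap D b hpos
  haveI : Mono (RedSub.borelMap D ep) := Over.mono_of_mono_left _
  obtain ⟨h, hp, hn⟩ := exists_regular D b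
  obtain ⟨N, hN⟩ := exists_derived_vanish D h b hp hn
  refine ⟨N + 1, fun X => (Subgroup.eq_bot_iff_forall _).mpr fun x hx => ?_⟩
  rw [← cancel_mono (RedSub.borelMap D ep)]
  refine hom_ext_pt fun R _ g j => ?_
  let ψ : (X ⟶ D.T ⊗ RedSub.pow (Red.Ga S) m) →* (pt g R ⟶ G) :=
    MonoidHom.mk' (fun a => (j ≫ a) ≫ RedSub.borelMap D ep) fun a a' => by rw [MonObj.comp_mul, MonObj.mul_comp]
  have hψ : ψ.range ≤ Bp D b g := by
    rintro _ ⟨a, rfl⟩
    exact borelMap_mem_Bp D g b hpos _
  have h1 : ψ x ∈ (derivedSeries _ (N + 1)).map ψ := Subgroup.mem_map_of_mem ψ hx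
  rw [hN R g _ ψ hψ, Subgroup.mem_bot] at h1
  rw [← Category.assoc]
  refine h1.trans ?_
  rw [MonObj.one_comp, MonObj.comp_one]

end Groth.Agent.H21Split
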