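import Groth.Agent.H21Split.Bru.UnipClosed
import Groth.Agent.H21Split.Bru.BorelSub

/-!
The closed subgroup spanned by the root groups of a closed set of roots without opposite roots.
-/

open CategoryTheory MonoidalCategory CartesianMonoidalCategory MonObj GrpObj AlgebraicGeometry
open CategoryTheory.Limits

universe u

set_option backward.isDefEq.respectTransparency false
set_option linter.style.haveILetI false
set_option linter.unusedSectionVars false
set_option synthInstance.maxHeartbeats 400000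

noncomputable section

namespace Groth.Agent.H21Split

variable {S : Scheme.{u}} {G : Over S} [GrpObj G] (D : Red.SplitRed G)

/-- the inclusion of the leading coordinates -/
def leadEmb (m k : ℕ) : RedSub.pow (Red.Ga S) m ⟶ RedSub.pow (Red.Ga S) (m + k) :=
  tuple (m + k) (Fin.addCases (fun i => pr (Red.Ga S) m i) fun _ => 1)

theorem range_append {m k : ℕ} (e₁ : Fin m → D.idx) (e₂ : Fin k → D.idx) :
    Set.range (Fin.append e₁ e₂) = Set.range e₁ ∪ Set.range e₂ := by
  ext c
  simp only [Set.mem_range, Set.mem_union]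
  constructor
  · rintro ⟨i, rfl⟩
    induction i using Fin.addCases with
    | left i => exact Or.inl ⟨i, (Fin.append_left e₁ e₂ i).symm⟩
    | right i => exact Or.inr ⟨i, (Fin.append_right e₁ e₂ i).symm⟩
  · rintro (⟨i, rfl⟩ | ⟨i, rfl⟩)
    exacts [⟨_, Fin.append_left e₁ e₂ i⟩, ⟨_, Fin.append_right e₁ e₂ i⟩]

theorem append_injective {m k : ℕ} {e₁ : Fin m → D.idx} {e₂ : Fin k → D.idx} (h₁ : Function.Injective e₁)
    (h₂ : Function.Injective e₂) (hd : ∀ i j, e₁ i ≠ e₂ j) : Function.Injective (Fin.append e₁ e₂) := by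
  intro i j hij
  induction i using Fin.addCases with
  | left i =>
    induction j using Fin.addCases with
    | left j => rw [Fin.append_left, Fin.append_left] at hij; rw [h₁ hij]
    | right j => rw [Fin.append_left, Fin.append_right] at hij; exact absurd hij (hd i j)
  | right i =>
    induction j using Fin.addCases with
    | left j => rw [Fin.append_left, Fin.append_right] at hij; exact absurd hij.symm (hd j i)
    | right j => rw [Fin.append_right, Fin.append_right] at hij; rw [h₂ hij]

theorem leadEmb_comp {m k : ℕ} (e₁ : Fin m → D.idx) (e₂ : Fin k → D.idx) :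
    leadEmb m k ≫ RedSub.prodMap (Red.Ga S) (m + k) (fun i => D.u (Fin.append e₁ e₂ i)) =
      RedSub.prodMap (Red.Ga S) m (fun i => D.u (e₁ i)) := by
  refine hom_ext_pt fun R _ g z => ?_
  have hz : gvs g (z ≫ leadEmb m k) = Fin.append (gvs g z) 0 := by
    funext i
    induction i using Fin.addCases with
    | left i => rw [gvs, Category.assoc, leadEmb, tuple_pr, Fin.addCases_left, Fin.append_left]; rfl
    | right i =>
      rw [gvs, Category.assoc, leadEmb, tuple_pr, Fin.addCases_right, Fin.append_right, MonObj.comp_one, ← ga_zero g, gv_ga]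
      rfl
  rw [← Category.assoc, comp_prodMap_u, comp_prodMap_u, hz, uProd,
    show (fun i => uPt g D (Fin.append e₁ e₂ i) (Fin.append (gvs g z) 0 i)) =
      Fin.append (fun i => uPt g D (e₁ i) (gvs g z i)) (fun i => uPt g D (e₂ i) ((0 : Fin k → R) i)) from funext fun i => by
      induction i using Fin.addCases with
      | left i => rw [Fin.append_left, Fin.append_left, Fin.append_left]
      | right i => rw [Fin.append_right, Fin.append_right, Fin.append_right],
    List.ofFn_fin_append, List.prod_append, ← uProd, ← uProd, uProd_zero, _root_.mul_one]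

variable {Ψ : Set D.idx} (hΨ : IsPosSet D.P Ψ) {m : ℕ} {e : Fin m → D.idx} (he : RedSub.Enumerates Ψ e)
include hΨ he

/-- the product map of a closed set without opposite roots is a closed immersion -/
theorem isClosedImmersion_prodMap : IsClosedImmersion (RedSub.prodMap (Red.Ga S) m fun k => D.u (e k)).left := by
  haveI := isAffineHom_hom D
  obtain ⟨h, hpos, hreg⟩ := exists_regular_of_isPosSet D hΨ
  obtain ⟨k, e', he', hr'⟩ := exists_enum D ({c | 0 < h (D.P.root c)} \ Ψ)
  have hinj := append_injective D he.1 he' fun i j hij =>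
    (hr'.subset ⟨j, rfl⟩).2 (hij ▸ he.2.subset ⟨i, rfl⟩)
  have hrange : Set.range (Fin.append e e') = {c | 0 < h (D.P.root c)} := by
    rw [range_append, he.2, hr', Set.union_sdiff_cancel]
    exact hpos
  haveI := isClosedImmersion_prodMap_half D hreg hinj hrange
  haveI : IsSeparated (RedSub.pow (Red.Ga S) (m + k)).hom := by
    rw [← Over.w (RedSub.prodMap (Red.Ga S) (m + k) fun i => D.u (Fin.append e e' i))]
    infer_instance
  haveI := H21Rank1.isClosedImmersion_of_section (leadEmb m k) (tuple m fun i => pr (Red.Ga S) (m + k) (Fin.castAdd k i))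
    (pow_hom_ext m fun i => by rw [Category.assoc, tuple_pr, leadEmb, tuple_pr, Fin.addCases_left, Category.id_comp])
  rw [← leadEmb_comp D e e']
  change IsClosedImmersion ((leadEmb m k).left ≫ _)
  infer_instance

theorem mono_prodMap : Mono (RedSub.prodMap (Red.Ga S) m fun k => D.u (e k)) :=
  haveI := isClosedImmersion_prodMap D hΨ he
  Over.mono_of_mono_left _

theorem mem_Ug_prodMap {R : Type u} [CommRing R] (g : Spec (CommRingCat.of R) ⟶ S) (z : pt g R ⟶ G) :
    z ∈ Ug D g Ψ ↔ ∃ w, w ≫ RedSub.prodMap (Red.Ga S) m (fun k => D.u (e k)) = z := by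
  rw [mem_Ug_iff D g hΨ e he.1 he.2]
  exact ⟨fun ⟨x, hx⟩ => ⟨gas g x, by rw [comp_prodMap_u, gvs_gas, hx]⟩,
    fun ⟨w, hw⟩ => ⟨gvs g w, by rw [← comp_prodMap_u, hw]⟩⟩

/-- morphisms which are pointwise in the group factor through it -/
theorem exists_lift_prodMap {X : Over S} (f : X ⟶ G)
    (h : ∀ (R : Type u) [CommRing R] (g : Spec (CommRingCat.of R) ⟶ S) (j : pt g R ⟶ X), j ≫ f ∈ Ug D g Ψ) :
    ∃ z, z ≫ RedSub.prodMap (Red.Ga S) m (fun k => D.u (e k)) = f :=
  haveI := mono_prodMap D hΨ he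
  exists_lift_of_pts _ f fun R _ g j => (mem_Ug_prodMap D hΨ he g _).mp (h R g j)

theorem comp_prodMap_mem {X : Over S} {R : Type u} [CommRing R] (g : Spec (CommRingCat.of R) ⟶ S) (j : pt g R ⟶ X)
    (a : X ⟶ RedSub.pow (Red.Ga S) m) :
    j ≫ a ≫ RedSub.prodMap (Red.Ga S) m (fun k => D.u (e k)) ∈ Ug D g Ψ :=
  (mem_Ug_prodMap D hΨ he g _).mpr ⟨j ≫ a, Category.assoc _ _ _⟩

/-- the group structure -/
theorem exists_uPsiGrp : ∃ _ : GrpObj (RedSub.pow (Red.Ga S) m),
    IsMonHom (RedSub.prodMap (Red.Ga S) m fun k => D.u (e k)) := by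
  haveI := mono_prodMap D hΨ he
  refine H21Diag.exists_grpObj_of_mono _ ?_ (fun X a a' => ?_) fun X a => ?_
  · exact exists_lift_prodMap D hΨ he _ fun R _ g j => by rw [MonObj.comp_one]; exact one_mem _
  · exact exists_lift_prodMap D hΨ he _ fun R _ g j => by
      rw [MonObj.comp_mul]
      exact mul_mem (comp_prodMap_mem D hΨ he g j a) (comp_prodMap_mem D hΨ he g j a')
  · exact exists_lift_prodMap D hΨ he _ fun R _ g j => by
      rw [GrpObj.comp_inv]
      exact inv_mem (comp_prodMap_mem D hΨ he g j a)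

/-- another enumeration gives an isomorphic parametrisation -/
theorem exists_iso_reorder {m' : ℕ} {e' : Fin m' → D.idx} (he' : RedSub.Enumerates Ψ e') :
    ∃ ψ : RedSub.pow (Red.Ga S) m' ≅ RedSub.pow (Red.Ga S) m,
      ψ.hom ≫ RedSub.prodMap (Red.Ga S) m (fun k => D.u (e k)) =
        RedSub.prodMap (Red.Ga S) m' (fun k => D.u (e' k)) := by
  haveI := mono_prodMap D hΨ he
  haveI := mono_prodMap D hΨ he'
  obtain ⟨a, ha⟩ := exists_lift_prodMap D hΨ he (RedSub.prodMap (Red.Ga S) m' fun k => D.u (e' k))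
    fun R _ g j => (mem_Ug_prodMap D hΨ he' g _).mpr ⟨j, rfl⟩
  obtain ⟨c, hc⟩ := exists_lift_prodMap D hΨ he' (RedSub.prodMap (Red.Ga S) m fun k => D.u (e k))
    fun R _ g j => (mem_Ug_prodMap D hΨ he g _).mpr ⟨j, rfl⟩
  refine ⟨⟨a, c, ?_, ?_⟩, ha⟩
  · rw [← cancel_mono (RedSub.prodMap (Red.Ga S) m' fun k => D.u (e' k)), Category.assoc, hc, ha, Category.id_comp]
  · rw [← cancel_mono (RedSub.prodMap (Red.Ga S) m fun k => D.u (e k)), Category.assoc, ha, hc, Category.id_comp]

variable [GrpObj (RedSub.pow (Red.Ga S) m)] [IsMonHom (RedSub.prodMap (Red.Ga S) m fun k => D.u (e k))]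

/-- the fibres contain no subtorus -/
theorem hasNoSubtorus_uPsi {Ω : Type u} [Field Ω] [IsAlgClosed Ω] (g : Spec (CommRingCat.of Ω) ⟶ S) :
    Red.HasNoSubtorus Ω (Red.bc g (RedSub.pow (Red.Ga S) m)) := by
  haveI := isAffineHom_hom D
  haveI := mono_prodMap D hΨ he
  obtain ⟨h, hh⟩ := exists_regular_of_isPosSet D hΨ
  refine H21Weil.hasNoSubtorus_of_torsion _ fun B _ _ ℓ x hℓ hx => ?_
  let v := RedSub.prodMap (Red.Ga S) m fun k => D.u (e k)
  let z : pt g B ⟶ RedSub.pow (Red.Ga S) m := fibHom g B (RedSub.pow (Red.Ga S) m) x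
  have hz : (z ≫ v) ^ ℓ = 1 := by
    rw [← MonObj.pow_comp, ← map_pow, hx, map_one, MonObj.one_comp]
  rw [comp_prodMap_u] at hz
  have h0 : gvs g z = 0 := uProd_torsion D g e he.1 h (fun k => hh.1 _ (he.2.subset ⟨k, rfl⟩)) hℓ hz
  have h1 : z = 1 := by
    rw [← cancel_mono v, MonObj.one_comp, comp_prodMap_u, h0, uProd_zero]
  refine (fibEquiv g B (RedSub.pow (Red.Ga S) m)).injective ?_
  rw [← fibHom_eq, ← fibHom_eq, map_one]
  exact h1

end Groth.Agent.H21Split
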