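import Groth.Agent.H21Split.Bru.Decomp
import Groth.Agent.H21Split.Bru.UPsi

/-!
A Bruhat cell is locally closed: it is a closed part of a translate of the big cell.
-/

open CategoryTheory MonoidalCategory CartesianMonoidalCategory MonObj GrpObj AlgebraicGeometry
open Groth.Agent.H21Root (opp wl)

universe u

set_option backward.isDefEq.respectTransparency false
set_option linter.style.haveILetI false
set_option linter.unusedSectionVars false
set_option synthInstance.maxHeartbeats 400000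

noncomputable section

namespace Groth.Agent.H21Split

theorem conj_prod_ofFn {H : Type*} [Group H] (p : H) {n : ℕ} (f : Fin n → H) :
    p * (List.ofFn f).prod * p⁻¹ = (List.ofFn fun k => p * f k * p⁻¹).prod :=
  map_prod_ofFn (MulAut.conj p).toMonoidHom f

/-- left translation by a section -/
def transIso {C : Type*} [Category C] [CartesianMonoidalCategory C] {G : C} [GrpObj G] (n : 𝟙_ C ⟶ G) : G ≅ G where
  hom := (toUnit G ≫ n) * 𝟙 G
  inv := (toUnit G ≫ n⁻¹) * 𝟙 G
  hom_inv_id := by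
    rw [MonObj.comp_mul, Category.comp_id, ← Category.assoc, toUnit_unique (_ ≫ toUnit G) (toUnit G),
      ← _root_.mul_assoc, ← MonObj.comp_mul, inv_mul_cancel, MonObj.comp_one, _root_.one_mul]
  inv_hom_id := by
    rw [MonObj.comp_mul, Category.comp_id, ← Category.assoc, toUnit_unique (_ ≫ toUnit G) (toUnit G),
      ← _root_.mul_assoc, ← MonObj.comp_mul, mul_inv_cancel, MonObj.comp_one, _root_.one_mul]

theorem comp_transIso {C : Type*} [Category C] [CartesianMonoidalCategory C] {X G : C} [GrpObj G] (n : 𝟙_ C ⟶ G)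
    (c : X ⟶ G) : c ≫ (transIso n).hom = (toUnit X ≫ n) * c := by
  rw [transIso, MonObj.comp_mul, Category.comp_id, ← Category.assoc, toUnit_unique (c ≫ toUnit G) (toUnit X)]

variable {S : Scheme.{u}} {G : Over S} [GrpObj G] (D : Red.SplitRed G)

/-- conjugation of root groups by a realising section is by isomorphisms -/
theorem Rl.exists_iso_conj {n : 𝟙_ (Over S) ⟶ G} {σ : D.P.Aut} (h : Rl D n σ) (h' : Rl D n⁻¹ σ⁻¹) (c : D.idx) :
    ∃ φ : Red.Ga S ≅ Red.Ga S, ∀ (X : Over S) (x : X ⟶ Red.Ga S),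
      (toUnit X ≫ n) * (x ≫ D.u c) * (toUnit X ≫ n)⁻¹ = (x ≫ φ.hom) ≫ D.u (σ • c) := by
  obtain ⟨φ, hφ⟩ := h.root c (Red.Ga S) (𝟙 _)
  obtain ⟨ψ, hψ⟩ := h'.root (σ • c) (Red.Ga S) (𝟙 _)
  rw [Category.id_comp] at hφ hψ
  rw [inv_smul_smul, GrpObj.comp_inv, _root_.inv_inv] at hψ
  haveI := mono_u D c
  haveI := mono_u D (σ • c)
  have e : ∀ {X : Over S} (y : X ⟶ Red.Ga S) (m : 𝟙_ (Over S) ⟶ G), y ≫ toUnit _ ≫ m = toUnit X ≫ m := fun y m => by
    rw [← Category.assoc, toUnit_unique (y ≫ toUnit _) (toUnit _)]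
  refine ⟨⟨φ, ψ, ?_, ?_⟩, fun X x => ?_⟩
  · rw [← cancel_mono (D.u c), Category.assoc, ← hψ, MonObj.comp_mul, MonObj.comp_mul, GrpObj.comp_inv, e, ← hφ,
      Category.id_comp]
    group
  · rw [← cancel_mono (D.u (σ • c)), Category.assoc, ← hφ, MonObj.comp_mul, MonObj.comp_mul, GrpObj.comp_inv, e, ← hψ,
      Category.id_comp]
    group
  · change _ = (x ≫ φ) ≫ _
    rw [Category.assoc, ← hφ, MonObj.comp_mul, MonObj.comp_mul, GrpObj.comp_inv, e]

variable (b : D.P.Base)

/-- the cell of a word is an immersion, closed in the translate of the big cell -/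
theorem bruhat_immersion {n m : ℕ} {en : Fin n → D.idx} {ep : Fin m → D.idx}
    (hneg : RedSub.Enumerates (RedSub.negRoots D.P b) en) (hpos : RedSub.Enumerates (RedSub.posRoots D.P b) ep)
    {nr : D.idx → (𝟙_ (Over S) ⟶ G)} (hnr : RedSub.RealisesReflections D nr) (l : List D.idx) {k : ℕ}
    {e : Fin k → D.idx} (he : RedSub.Enumerates (RedSub.negMeetNeg D.P b (RedSub.wordPerm D.P l)) e) :
    IsImmersion (RedSub.bruhatMap D nr l e ep).left ∧
      ∃ C : Set ↥G.left, IsClosed C ∧ Set.range (RedSub.bruhatMap D nr l e ep).left.base =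
        Set.range ((toUnit _ ≫ (l.map nr).prod) * RedSub.cellMap D en ep).left.base ∩ C := by
  haveI := isReduced' D b
  haveI := isAffineHom_hom D
  set N := (l.map nr).prod
  set σ := wl D.P l
  have hR : Rl D N σ := rl_prod l fun a _ => acts_of_realises D hnr a
  have hR' : Rl D N⁻¹ σ⁻¹ := rl_prod_inv l fun a _ => acts_of_realises D hnr a
  have hRR : Rl D N⁻¹⁻¹ σ⁻¹⁻¹ := by rwa [_root_.inv_inv, _root_.inv_inv]
  choose φ hφ using fun i => hR'.exists_iso_conj D hRR (e i)
  let e' : Fin k → D.idx := fun i => σ⁻¹ • e i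
  have hmem : ∀ i, e' i ∈ RedSub.negRoots D.P b := fun i =>
    ((mem_negMeetNeg D b l (e i)).mp (he.2.subset ⟨i, rfl⟩)).2
  obtain ⟨k₂, e₂, he₂, hr₂⟩ := exists_enum D (RedSub.negRoots D.P b \ Set.range e')
  let en' := Fin.append e' e₂
  have hneg' : RedSub.Enumerates (RedSub.negRoots D.P b) en' :=
    ⟨append_injective D (fun i j h => he.1 (MulAction.injective σ⁻¹ h)) he₂ fun i j h =>
      (hr₂.subset ⟨j, rfl⟩).2 ⟨i, h⟩,
    by
      rw [range_append, hr₂, Set.union_sdiff_cancel]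
      rintro _ ⟨i, rfl⟩
      exact hmem i⟩
  obtain ⟨hD, hbij⟩ := isCellData_of_base D b hneg hpos
  obtain ⟨hD', hbij'⟩ := isCellData_of_base D b hneg' hpos
  haveI := isOpenImmersion_cellMap D en' ep hD' hbij'
  haveI := isOpenImmersion_cellMap D en ep hD hbij
  let f : RedSub.pow (Red.Ga S) k ⟶ RedSub.pow (Red.Ga S) k := tuple k fun i => pr (Red.Ga S) k i ≫ (φ i).hom
  let f' : RedSub.pow (Red.Ga S) k ⟶ RedSub.pow (Red.Ga S) k := tuple k fun i => pr (Red.Ga S) k i ≫ (φ i).inv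
  have hff : f ≫ f' = 𝟙 _ := pow_hom_ext k fun i => by
    simp only [f, f', Category.assoc, tuple_pr, reassoc_of% (tuple_pr k fun i => pr (Red.Ga S) k i ≫ (φ i).hom),
      Iso.hom_inv_id, Category.comp_id, Category.id_comp]
  let J : RedSub.pow (Red.Ga S) k ⊗ (D.T ⊗ RedSub.pow (Red.Ga S) m) ⟶
      RedSub.pow (Red.Ga S) (k + k₂) ⊗ (D.T ⊗ RedSub.pow (Red.Ga S) m) :=
    lift (fst _ _ ≫ f ≫ leadEmb k k₂) (snd _ _)
  let r : RedSub.pow (Red.Ga S) (k + k₂) ⊗ (D.T ⊗ RedSub.pow (Red.Ga S) m) ⟶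
      RedSub.pow (Red.Ga S) k ⊗ (D.T ⊗ RedSub.pow (Red.Ga S) m) :=
    lift (fst _ _ ≫ tuple k (fun i => pr (Red.Ga S) (k + k₂) (Fin.castAdd k₂ i)) ≫ f') (snd _ _)
  have hlead : leadEmb k k₂ ≫ tuple k (fun i => pr (Red.Ga S) (k + k₂) (Fin.castAdd k₂ i)) = 𝟙 _ :=
    pow_hom_ext k fun i => by rw [Category.assoc, tuple_pr, leadEmb, tuple_pr, Fin.addCases_left, Category.id_comp]
  have hJr : J ≫ r = 𝟙 _ := by
    refine CartesianMonoidalCategory.hom_ext _ _ ?_ ?_
    · simp only [J, r, Category.assoc, lift_fst, lift_fst_assoc, reassoc_of% hlead, hff, Category.id_comp,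
        Category.comp_id]
    · simp only [J, r, Category.assoc, lift_snd, Category.id_comp]
  haveI : IsSeparated (RedSub.pow (Red.Ga S) (k + k₂) ⊗ (D.T ⊗ RedSub.pow (Red.Ga S) m)).hom := by
    haveI : IsSeparated G.hom := inferInstance
    rw [← Over.w (RedSub.cellMap D en' ep)]
    infer_instance
  haveI := H21Rank1.isClosedImmersion_of_section J r hJr
  have key : RedSub.bruhatMap D nr l e ep = J ≫ RedSub.cellMap D en' ep ≫ (transIso N).hom := by
    rw [← Category.assoc, comp_transIso]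
    have h1 : (J ≫ fst _ _) ≫ RedSub.prodMap (Red.Ga S) (k + k₂) (fun i => D.u (en' i)) =
        (toUnit _ ≫ N)⁻¹ * (fst _ _ ≫ RedSub.prodMap (Red.Ga S) k fun i => D.u (e i)) * (toUnit _ ≫ N) := by
      simp only [J, lift_fst, Category.assoc, en', leadEmb_comp]
      rw [← Category.assoc, comp_prodMap, comp_prodMap]
      have hinv : (toUnit (RedSub.pow (Red.Ga S) k ⊗ (D.T ⊗ RedSub.pow (Red.Ga S) m)) ≫ N⁻¹) = (toUnit _ ≫ N)⁻¹ :=
        GrpObj.comp_inv _ _
      conv_rhs => arg 2; rw [← _root_.inv_inv (toUnit _ ≫ N)]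
      rw [conj_prod_ofFn]
      congr
      funext i
      have := (hφ i _ (fst (RedSub.pow (Red.Ga S) k) (D.T ⊗ RedSub.pow (Red.Ga S) m) ≫ pr (Red.Ga S) k i)).symm
      simp only [Category.assoc, hinv] at this
      simp only [f, Category.assoc, reassoc_of% (tuple_pr k fun i => pr (Red.Ga S) k i ≫ (φ i).hom), e']
      exact this
    rw [RedSub.bruhatMap, RedSub.cellMap]
    simp only [MonObj.comp_mul]
    simp only [Category.assoc] at h1
    rw [h1]
    simp only [J, lift_snd_assoc, N]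
    group
  haveI : IsOpenImmersion (RedSub.cellMap D en' ep ≫ (transIso N).hom).left := by
    rw [Over.comp_left]
    infer_instance
  refine ⟨?_, closure (Set.range (RedSub.bruhatMap D nr l e ep).left.base), isClosed_closure, ?_⟩
  · rw [key, Over.comp_left]
    infer_instance
  have hΩ : Set.range ((toUnit _ ≫ N) * RedSub.cellMap D en ep).left.base =
      Set.range (RedSub.cellMap D en' ep ≫ (transIso N).hom).left.base := by
    rw [← comp_transIso]
    simp only [Over.comp_left, Scheme.Hom.comp_base, TopCat.coe_comp, Set.range_comp]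
    congr 1
    refine Set.Subset.antisymm (range_cellMap_subset D en' ep hD' (fun i => hneg'.2.superset (hneg.2.subset ⟨i, rfl⟩))
      fun i => ⟨i, rfl⟩) (range_cellMap_subset D en ep hD (fun i => hneg.2.superset (hneg'.2.subset ⟨i, rfl⟩))
      fun i => ⟨i, rfl⟩)
  rw [hΩ, key]
  set o := RedSub.cellMap D en' ep ≫ (transIso N).hom
  rw [Over.comp_left, Scheme.Hom.comp_base, TopCat.coe_comp, Set.range_comp]
  have hcl : IsClosed (Set.range J.left.base) := J.left.isClosedEmbedding.isClosed_range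
  refine Set.Subset.antisymm (fun x hx => ⟨Set.image_subset_range _ _ hx, subset_closure hx⟩) ?_
  rintro _ ⟨⟨y, rfl⟩, hy⟩
  refine ⟨y, ?_, rfl⟩
  rw [← hcl.closure_eq, o.left.isOpenEmbedding.isInducing.closure_eq_preimage_closure_image]
  exact hy

end Groth.Agent.H21Split
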