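import Groth.Agent.H21Split.Bru.Coradical

/-!
The big cell of the kernel of the projection modulo coroots.
-/

open CategoryTheory MonoidalCategory CartesianMonoidalCategory MonObj GrpObj AlgebraicGeometry

universe u

set_option backward.isDefEq.respectTransparency false
set_option linter.style.haveILetI false
set_option linter.unusedSectionVars false
set_option synthInstance.maxHeartbeats 400000

noncomputable section

namespace Groth.Agent.H21Split

variable {S : Scheme.{u}} {G : Over S} [GrpObj G] (D : Red.SplitRed G) (N : AddSubgroup D.M) {n m : ℕ}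
  (en : Fin n → D.idx) (ep : Fin m → D.idx)

/-- the big cell of the kernel -/
abbrev cellPrime : RedSub.pow (Red.Ga S) n ⊗ (Red.DS S (D.M ⧸ N) ⊗ RedSub.pow (Red.Ga S) m) ⟶ G :=
  (fst _ _ ≫ RedSub.prodMap (Red.Ga S) n (fun k => D.u (en k))) *
    ((snd _ _ ≫ fst _ _ ≫ Red.DSmap S (QuotientAddGroup.mk' N) ≫ D.split.inv.hom.hom ≫ D.i) *
      (snd _ _ ≫ snd _ _ ≫ RedSub.prodMap (Red.Ga S) m (fun k => D.u (ep k))))

/-- the projection kills the torus of the smaller cell -/
theorem mk'_coradT : (Red.DSmap S (QuotientAddGroup.mk' N) ≫ D.split.inv.hom.hom) ≫ coradT D N = 1 := by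
  rw [coradT, Category.assoc, reassoc_of% (split_inv_hom D), R2.DSmap_comp,
    show (QuotientAddGroup.mk' N).comp N.subtype = 0 from AddMonoidHom.ext fun x =>
      (QuotientAddGroup.eq_zero_iff _).mpr x.2, DSmap_zero]

variable {H : Over S} [GrpObj H] {fT : D.T ⟶ H} {f : G ⟶ H}

theorem prodMap_kill [IsMonHom f] (hu : ∀ c, D.u c ≫ f = 1) {X : Over S} {k : ℕ} (e : Fin k → D.idx)
    (x : X ⟶ RedSub.pow (Red.Ga S) k) :
    (x ≫ RedSub.prodMap (Red.Ga S) k fun i => D.u (e i)) ≫ f = 1 := by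
  let φ : (X ⟶ G) →* (X ⟶ H) := MonoidHom.mk' (· ≫ f) fun a b => MonObj.mul_comp a b f
  rw [comp_prodMap]
  change φ _ = 1
  rw [map_prod_ofFn]
  refine List.prod_eq_one fun z hz => ?_
  obtain ⟨i, rfl⟩ := List.mem_ofFn.mp hz
  change (_ ≫ _) ≫ f = 1
  rw [Category.assoc, hu, MonObj.comp_one]

/-- the projection on the big cell -/
theorem cell_corad [IsMonHom f] (hi : D.i ≫ f = fT) (hu : ∀ c, D.u c ≫ f = 1) {X : Over S}
    (z : X ⟶ RedSub.pow (Red.Ga S) n ⊗ (D.T ⊗ RedSub.pow (Red.Ga S) m)) :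
    (z ≫ RedSub.cellMap D en ep) ≫ f = (z ≫ snd _ _ ≫ fst _ _) ≫ fT := by
  rw [RedSub.cellMap, MonObj.comp_mul, MonObj.comp_mul, MonObj.mul_comp, MonObj.mul_comp]
  simp only [← Category.assoc]
  rw [prodMap_kill D hu, prodMap_kill D hu, _root_.one_mul, _root_.mul_one]
  simp only [Category.assoc, hi]

/-- the smaller cell lies in the kernel -/
theorem cellPrime_kill [IsMonHom f] (hi : D.i ≫ f = fT) (hu : ∀ c, D.u c ≫ f = 1)
    (hm : (Red.DSmap S (QuotientAddGroup.mk' N) ≫ D.split.inv.hom.hom) ≫ fT = 1) {X : Over S}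
    (z : X ⟶ RedSub.pow (Red.Ga S) n ⊗ (Red.DS S (D.M ⧸ N) ⊗ RedSub.pow (Red.Ga S) m)) :
    (z ≫ cellPrime D N en ep) ≫ f = 1 := by
  rw [MonObj.comp_mul, MonObj.comp_mul, MonObj.mul_comp, MonObj.mul_comp]
  simp only [← Category.assoc]
  rw [prodMap_kill D hu, prodMap_kill D hu, _root_.one_mul, _root_.mul_one]
  simp only [Category.assoc] at hm
  simp only [Category.assoc, hi, hm, MonObj.comp_one]

/-- a point of the big cell with trivial torus part modulo coroots lies in the smaller cell -/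
theorem exists_prime {X : Over S}
    (y : X ⟶ RedSub.pow (Red.Ga S) n ⊗ (D.T ⊗ RedSub.pow (Red.Ga S) m))
    (h : (y ≫ snd _ _ ≫ fst _ _) ≫ coradT D N = 1) :
    ∃ g', y ≫ RedSub.cellMap D en ep = g' ≫ cellPrime D N en ep := by
  obtain ⟨s, hs⟩ := exists_lift_coradT D _ h
  refine ⟨lift (y ≫ fst _ _) (lift s (y ≫ snd _ _ ≫ snd _ _)), ?_⟩
  rw [RedSub.cellMap, MonObj.comp_mul, MonObj.comp_mul, MonObj.comp_mul, MonObj.comp_mul]
  simp only [Category.assoc, lift_fst_assoc, lift_snd_assoc]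
  congr 1
  congr 1
  have h2 := congrArg (· ≫ D.i) hs
  simp only [Category.assoc] at h2
  exact h2.symm

end Groth.Agent.H21Split
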