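import Groth.Agent.H21Split.Bru.Cover

/-!
Covers by translates through simple unipotent sections.
-/

open CategoryTheory MonoidalCategory CartesianMonoidalCategory MonObj GrpObj AlgebraicGeometry
open Groth.Agent.H21Root (opp root_opp sr wl wl_cons)
open Groth.Agent.H27Witt.GaCoord (gaFn_comp)

universe u

set_option backward.isDefEq.respectTransparency false
set_option linter.style.haveILetI false
set_option linter.unusedSectionVars false
set_option synthInstance.maxHeartbeats 400000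

noncomputable section

namespace Groth.Agent.H21Split

variable {S : Scheme.{u}} {G : Over S} [GrpObj G] (D : Red.SplitRed G) (b : D.P.Base)

section

variable {R : Type u} [CommRing R] (g : Spec (CommRingCat.of R) ⟶ S)

theorem sec_ga (a : D.idx) (x : 𝟙_ (Over S) ⟶ Red.Ga S) :
    sec g (x ≫ D.u a) = uPt g D a (gv g (toUnit (pt g R) ≫ x)) := by
  rw [uPt, ga_gv, sec, Category.assoc]

end

variable {K : Type u} [Field K] (g : Spec (CommRingCat.of K) ⟶ S)

theorem gv_ne_zero {x : 𝟙_ (Over S) ⟶ Red.Ga S} (hx : IsUnit (Red.gaFn x)) : gv g (toUnit (pt g K) ≫ x) ≠ 0 := by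
  rw [gv_def, gaFn_comp]
  exact ((hx.map _).map _).ne_zero

/-- the union of the translates by a set of sections -/
def TU (M : Submonoid (𝟙_ (Over S) ⟶ G)) : Set (pt g K ⟶ G) := {z | ∃ w ∈ M, (sec g w)⁻¹ * z ∈ Om D g b}

theorem TU_bp {M : Submonoid (𝟙_ (Over S) ⟶ G)} {z p : pt g K ⟶ G} (hp : p ∈ Bp D b g) (hz : z ∈ TU D b g M) :
    z * p ∈ TU D b g M := by
  obtain ⟨w, hw, h⟩ := hz
  exact ⟨w, hw, by rw [← _root_.mul_assoc]; exact Om_bp_right D b g hp h⟩

theorem TU_neg {M : Submonoid (𝟙_ (Over S) ⟶ G)} {a : D.idx} (ha : a ∈ b.support) {x : 𝟙_ (Over S) ⟶ Red.Ga S}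
    (hx : IsUnit (Red.gaFn x)) (hxM : x ≫ D.u a ∈ M) {z : pt g K ⟶ G} (hz : z ∈ TU D b g M) (y : K) :
    z * uPt g D (opp D.P a) y ∈ TU D b g M := by
  obtain ⟨w, hw, h⟩ := hz
  rcases mul_neg_simple D b g ha h _ (gv_ne_zero g hx) y with h' | h'
  · exact ⟨w, hw, by rwa [← _root_.mul_assoc]⟩
  · refine ⟨w * (x ≫ D.u a), mul_mem hw hxM, ?_⟩
    rw [sec_mul, sec_ga, _root_.mul_inv_rev]
    rwa [_root_.mul_assoc, ← _root_.mul_assoc (sec g w)⁻¹ z]

/-- the monoid of the elements preserving the union on the right -/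
def stabTU (M : Submonoid (𝟙_ (Over S) ⟶ G)) : Submonoid (pt g K ⟶ G) where
  carrier := {h | ∀ z ∈ TU D b g M, z * h ∈ TU D b g M}
  one_mem' := fun z hz => by simpa using hz
  mul_mem' := fun {h h'} hh hh' z hz => by rw [← _root_.mul_assoc]; exact hh' _ (hh z hz)

variable [D.P.IsReduced]

theorem BCell_mem_stabTU {M : Submonoid (𝟙_ (Over S) ⟶ G)} {x : D.idx → (𝟙_ (Over S) ⟶ Red.Ga S)}
    (hx : ∀ a ∈ b.support, IsUnit (Red.gaFn (x a))) (hM : ∀ a ∈ b.support, x a ≫ D.u a ∈ M) {l : List D.idx}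
    (hl : ∀ a ∈ l, a ∈ b.support) {z : pt g K ⟶ G} (hz : z ∈ BCell D b g l) : z ∈ stabTU D b g M := by
  obtain ⟨p, hp, q, hq, rfl⟩ := hz
  have hB : ∀ p ∈ Bp D b g, p ∈ stabTU D b g M := fun p hp z hz => TU_bp D b g hp hz
  refine mul_mem (mul_mem (hB p hp) ?_) (hB q hq)
  induction l with
  | nil => simp [nW, sec, one_mem]
  | cons a l ih =>
    rw [nW_cons]
    refine mul_mem ?_ (ih fun c hc => hl c (List.mem_cons_of_mem a hc))
    have ha := hl a List.mem_cons_self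
    obtain ⟨p, q, r, h⟩ := exists_nS D a
    rw [h, sec_mul, sec_mul, sec_ga, sec_ga, sec_ga]
    exact mul_mem (mul_mem (hB _ (uPt_mem_Bp D b g (simple_mem_pos D b ha) _))
      fun z hz => TU_neg D b g ha (hx a ha) (hM a ha) hz _) (hB _ (uPt_mem_Bp D b g (simple_mem_pos D b ha) _))

/-- translates by the monoid of simple unipotent sections cover -/
theorem exists_translate_monoid {n m : ℕ} {en : Fin n → D.idx} {ep : Fin m → D.idx}
    (hneg : RedSub.Enumerates (RedSub.negRoots D.P b) en) (hpos : RedSub.Enumerates (RedSub.posRoots D.P b) ep)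
    (M : Submonoid (𝟙_ (Over S) ⟶ G)) (x : D.idx → (𝟙_ (Over S) ⟶ Red.Ga S))
    (hx : ∀ a ∈ b.support, IsUnit (Red.gaFn (x a))) (hM : ∀ a ∈ b.support, x a ≫ D.u a ∈ M) (p : ↥G.left) :
    ∃ w ∈ M, p ∈ Set.range ((toUnit _ ≫ w) * RedSub.cellMap D en ep).left.base := by
  obtain ⟨K, _, g, j, hj, -, l, hl, hjl⟩ := exists_point_BU D b p
  have h1 : (1 : pt g K ⟶ G) ∈ TU D b g M := ⟨1, one_mem _, by
    rw [sec, MonObj.comp_one, inv_one, _root_.one_mul]; exact one_mem_Om D b g⟩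
  obtain ⟨w, hw, h⟩ := BCell_mem_stabTU D b g hx hM hl hjl 1 h1
  rw [_root_.one_mul] at h
  exact ⟨w, hw, mem_range_translate D hneg hpos hj h⟩

/-- in semisimple rank one two translates cover -/
theorem two_translates {n m : ℕ} {en : Fin n → D.idx} {ep : Fin m → D.idx}
    (hneg : RedSub.Enumerates (RedSub.negRoots D.P b) en) (hpos : RedSub.Enumerates (RedSub.posRoots D.P b) ep)
    {a : D.idx} (ha : a ∈ b.support) (hR : RedSub.negRoots D.P b ⊆ {opp D.P a}) {x : 𝟙_ (Over S) ⟶ Red.Ga S}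
    (hx : IsUnit (Red.gaFn x)) (p : ↥G.left) :
    p ∈ Set.range (RedSub.cellMap D en ep).left.base ∨
      p ∈ Set.range ((toUnit _ ≫ x ≫ D.u a) * RedSub.cellMap D en ep).left.base := by
  obtain ⟨K, _, g, j, hj, ⟨ω, hω, ω', hω', rfl⟩, -⟩ := exists_point_BU D b p
  obtain ⟨v, hv, t, ht, w, hw, rfl⟩ := hω'
  have hv' : v ∈ Ur D g (opp D.P a) := Ug_le D g (fun c hc y => by
    rw [Set.mem_singleton_iff.mp (hR hc)]; exact uPt_mem_Ur D g _ y) hv
  obtain ⟨y, rfl⟩ := (mem_Ur D g).mp hv'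
  have htw : t * w ∈ Bp D b g := mul_mem (Tg_le_Bp D b g ht) (Ug_le_Bp D b g hw)
  have e : ω * (uPt g D (opp D.P a) y * t * w) = ω * uPt g D (opp D.P a) y * (t * w) := by group
  rcases mul_neg_simple D b g ha hω _ (gv_ne_zero g hx) y with h | h
  · refine Or.inl (mem_range_cellMap D hneg hpos hj ?_)
    rw [e]
    exact Om_bp_right D b g htw h
  · refine Or.inr (mem_range_translate D hneg hpos hj (w := x ≫ D.u a) ?_)
    rw [sec_ga, e, ← _root_.mul_assoc]
    exact Om_bp_right D b g htw h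

end Groth.Agent.H21Split
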