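import Groth.Agent.H21Split.Bru.Cover
import Groth.Agent.H21Split.R2.ChevExist

/-!
Generation of the sections over a local base.
-/

open CategoryTheory MonoidalCategory CartesianMonoidalCategory MonObj GrpObj AlgebraicGeometry
open Groth.Agent.H21Root (opp root_opp sr wl wl_cons)
open Groth.Agent.H27Witt.GaCoord (gaFn_comp)

universe u

set_option backward.isDefEq.respectTransparency false
set_option linter.style.haveILetI false
set_option linter.unusedSectionVars false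
set_option synthInstance.maxHeartbeats 400000

noncomputable section

namespace Groth.Agent.H21Split

variable {S : Scheme.{u}} {G : Over S} [GrpObj G] (D : Red.SplitRed G) (b : D.P.Base)

theorem toUnit_sec (n : 𝟙_ (Over S) ⟶ G) : toUnit (𝟙_ (Over S)) ≫ n = n := by
  rw [toUnit_unique (toUnit (𝟙_ (Over S))) (𝟙 _), Category.id_comp]

/-- the group of sections generated by the root groups of simple roots and their opposites -/
def SG : Subgroup (𝟙_ (Over S) ⟶ G) :=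
  Subgroup.closure {g | ∃ a : D.idx, (a ∈ b.support ∨ D.P.reflectionPerm a a ∈ b.support) ∧
    ∃ x : 𝟙_ _ ⟶ Red.Ga S, g = x ≫ D.u a}

theorem simple_mem_SG {a : D.idx} (ha : a ∈ b.support) (x : 𝟙_ (Over S) ⟶ Red.Ga S) :
    x ≫ D.u a ∈ SG D b ∧ x ≫ D.u (opp D.P a) ∈ SG D b := by
  refine ⟨Subgroup.subset_closure ⟨a, Or.inl ha, x, rfl⟩, Subgroup.subset_closure ⟨opp D.P a, Or.inr ?_, x, rfl⟩⟩
  rw [show D.P.reflectionPerm (opp D.P a) (opp D.P a) = a from opp_opp' D a]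
  exact ha

variable [D.P.IsReduced]

theorem nS_mem_SG {a : D.idx} (ha : a ∈ b.support) : nS D a ∈ SG D b := by
  obtain ⟨p, q, r, h⟩ := exists_nS D a
  rw [h]
  exact mul_mem (mul_mem (simple_mem_SG D b ha p).1 (simple_mem_SG D b ha q).2) (simple_mem_SG D b ha r).1

theorem nW_mem_SG {l : List D.idx} (hl : ∀ a ∈ l, a ∈ b.support) : nW D l ∈ SG D b :=
  Subgroup.list_prod_mem _ fun z hz => by
    obtain ⟨a, ha, rfl⟩ := List.mem_map.mp hz
    exact nS_mem_SG D b (hl a ha)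

theorem root_mem_SG (c : D.idx) (x : 𝟙_ (Over S) ⟶ Red.Ga S) : x ≫ D.u c ∈ SG D b := by
  haveI := D.fintypeIdx
  haveI : Finite D.idx := Finite.of_fintype _
  have hind : RootD.IsIndiv D.P c := fun j hj => by
    refine two_smul_notMem D j ⟨c, ?_⟩
    rw [← hj]
  obtain ⟨w, hw, a, ha, h⟩ := (H21Root.simpleZ_base (P := D.P) b).exists_smul_eq hind
  obtain ⟨l, hl, rfl⟩ := H21Root.exists_word D.P hw
  obtain ⟨y, hy⟩ := (rl_nW_inv D l).root c _ x
  rw [← h, inv_smul_smul, h, toUnit_sec] at hy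
  have e : x ≫ D.u c = nW D l * (y ≫ D.u a) * (nW D l)⁻¹ := by rw [← hy]; group
  rw [e]
  exact mul_mem (mul_mem (nW_mem_SG D b hl) (simple_mem_SG D b ha y).1) (inv_mem (nW_mem_SG D b hl))

theorem xProd_mem_SG {m : ℕ} (e : Fin m → D.idx) (v : Fin m → (𝟙_ (Over S) ⟶ Red.Ga S)) :
    xProd D e v ∈ SG D b :=
  Subgroup.list_prod_mem _ fun z hz => by
    obtain ⟨k, rfl⟩ := List.mem_ofFn.mp hz
    exact root_mem_SG D b _ _

theorem comp_mul3 {X Y Z W V : Over S} [GrpObj Z] [GrpObj W] [GrpObj V] (z : X ⟶ Y) (a b : Y ⟶ Z) (f : Z ⟶ W)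
    [IsMonHom f] (h : W ⟶ V) [IsMonHom h] :
    z ≫ ((a * b) ≫ f) ≫ h = (z ≫ (a ≫ f) ≫ h) * (z ≫ (b ≫ f) ≫ h) := by
  rw [MonObj.mul_comp, MonObj.mul_comp, MonObj.comp_mul]

theorem comp_one3 {X Y Z W V : Over S} [GrpObj Z] [GrpObj W] [GrpObj V] (z : X ⟶ Y) (f : Z ⟶ W)
    [IsMonHom f] (h : W ⟶ V) [IsMonHom h] : z ≫ ((1 : Y ⟶ Z) ≫ f) ≫ h = 1 := by
  rw [MonObj.one_comp, MonObj.one_comp, MonObj.comp_one]

theorem comp_inv3 {X Y Z W V : Over S} [GrpObj Z] [GrpObj W] [GrpObj V] (z : X ⟶ Y) (a : Y ⟶ Z) (f : Z ⟶ W)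
    [IsMonHom f] (h : W ⟶ V) [IsMonHom h] : z ≫ (a⁻¹ ≫ f) ≫ h = (z ≫ (a ≫ f) ≫ h)⁻¹ := by
  rw [GrpObj.inv_comp, GrpObj.inv_comp, GrpObj.comp_inv]

set_option maxHeartbeats 1600000 in
theorem av_mem_SG {a : D.idx} (ha : a ∈ b.support) (z : 𝟙_ (Over S) ⟶ Red.Gm S) :
    z ≫ avc D a ≫ D.i ∈ SG D b := by
  have h := @H21Rank1.data_V S G D.T _ _ D.i _ (alc D a) _ (D.u a) (pmc D a) _ _ (hpp_root D a) (hpm_pmc D a)
  have e : z ≫ avc D a ≫ D.i = (r1 D a (𝟙_ (Over S))).C ((r1 D a (𝟙_ (Over S))).V (H21Rank1.gmU z)) :=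
    (h (H21Rank1.val_gmU z).symm).symm
  refine e ▸ ?_
  refine ((r1 D a (𝟙_ (Over S))).V_eq (H21Rank1.gmU z)).symm ▸ ?_
  have hP : ∀ f, (r1 D a (𝟙_ (Over S))).P f ∈ SG D b := fun f => (simple_mem_SG D b ha (H21Rank1.gaPt f)).1
  have hN : ∀ f, (r1 D a (𝟙_ (Over S))).N f ∈ SG D b := fun f => by
    have := (simple_mem_SG D b ha (H21Rank1.gaPt f ≫ H21Rank1.powScale 1 (kap D a))).2
    rw [Category.assoc] at this
    exact this
  exact mul_mem (mul_mem (mul_mem (hN _) (hP _)) (hN _)) (hP _)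

/-- the section of a cocharacter at a unit -/
def cPt (φ : D.M →+ ℤ) (z : 𝟙_ (Over S) ⟶ Red.Gm S) : 𝟙_ (Over S) ⟶ G :=
  z ≫ (Red.DSmap S φ ≫ D.split.inv.hom.hom) ≫ D.i

omit [D.P.IsReduced] in
theorem cPt_zero (z : 𝟙_ (Over S) ⟶ Red.Gm S) : cPt D 0 z = 1 := by
  rw [cPt, DSmap_zero]
  exact comp_one3 z D.split.inv.hom.hom D.i

omit [D.P.IsReduced] in
theorem cPt_add (φ φ' : D.M →+ ℤ) (z : 𝟙_ (Over S) ⟶ Red.Gm S) :
    cPt D (φ + φ') z = cPt D φ z * cPt D φ' z := by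
  rw [cPt, DSmap_add]
  exact comp_mul3 z _ _ D.split.inv.hom.hom D.i

omit [D.P.IsReduced] in
theorem cPt_neg (φ : D.M →+ ℤ) (z : 𝟙_ (Over S) ⟶ Red.Gm S) : cPt D (-φ) z = (cPt D φ z)⁻¹ :=
  grp_inv (by rw [← cPt_add, neg_add_cancel, cPt_zero])

set_option maxHeartbeats 3200000 in
/-- the cocharacters whose sections lie in a subgroup -/
theorem cochar_mem_SG (hsc : Submodule.span ℤ (Set.range D.P.coroot) = ⊤) (ψ : Module.Dual ℤ D.M)
    (z : 𝟙_ (Over S) ⟶ Red.Gm S) :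
    z ≫ (Red.DSmap S ψ.toAddMonoidHom ≫ D.split.inv.hom.hom) ≫ D.i ∈ SG D b := by
  let N' : AddSubgroup (Module.Dual ℤ D.M) :=
    { carrier := {ψ | ∀ z : 𝟙_ (Over S) ⟶ Red.Gm S, cPt D ψ.toAddMonoidHom z ∈ SG D b}
      zero_mem' := fun z => (cPt_zero D z).symm ▸ one_mem _
      add_mem' := fun {ψ ψ'} h h' z => (cPt_add D ψ.toAddMonoidHom ψ'.toAddMonoidHom z).symm ▸ mul_mem (h z) (h' z)
      neg_mem' := fun {ψ} h z => (cPt_neg D ψ.toAddMonoidHom z).symm ▸ inv_mem (h z) }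
  suffices h : ψ ∈ N' from h z
  have hsimple : ∀ a ∈ b.support, D.P.coroot a ∈ N' := fun a ha z => by
    rw [cPt, ← avc]
    exact av_mem_SG D b ha z
  have hall : ∀ c, D.P.coroot c ∈ N' := fun c => by
    have hcl : AddSubmonoid.closure (D.P.coroot '' (b.support : Set D.idx)) ≤ N'.toAddSubmonoid :=
      AddSubmonoid.closure_le.mpr (by rintro _ ⟨a, ha, rfl⟩; exact hsimple a ha)
    rcases b.coroot_mem_or_neg_mem c with h | h
    · exact hcl h
    · simpa using N'.neg_mem (hcl h)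
  have : Submodule.span ℤ (Set.range D.P.coroot) ≤ AddSubgroup.toIntSubmodule N' :=
    Submodule.span_le.mpr (by rintro _ ⟨c, rfl⟩; exact hall c)
  exact this (hsc.symm ▸ Submodule.mem_top)

theorem torus_mem_SG (hsc : Submodule.span ℤ (Set.range D.P.coroot) = ⊤) (t : 𝟙_ (Over S) ⟶ D.T) :
    t ≫ D.i ∈ SG D b := by
  let bM := Module.finBasis ℤ D.M
  let φ : Fin (Module.finrank ℤ D.M) → (D.M →+ D.M) := fun j =>
    (zmultiplesHom D.M (bM j)).comp (bM.coord j).toAddMonoidHom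
  have hsum : ∑ j, φ j = AddMonoidHom.id D.M := AddMonoidHom.ext fun m => by
    simp only [φ, AddMonoidHom.finsetSum_apply, AddMonoidHom.id_apply, AddMonoidHom.comp_apply,
      zmultiplesHom_apply]
    exact bM.sum_repr m
  have hid : Red.DSmap S (AddMonoidHom.id D.M) = 𝟙 _ := hom_ext_pt fun R _ g j => by
    obtain ⟨χ, rfl⟩ := ds_surjective g j
    rw [ds_DSmap, Category.comp_id]; congr 1
  have hfin : ∀ s : Finset (Fin (Module.finrank ℤ D.M)),
      t ≫ D.split.hom.hom.hom ≫ Red.DSmap S (∑ j ∈ s, φ j) ≫ D.split.inv.hom.hom ≫ D.i ∈ SG D b := by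
    intro s
    induction s using Finset.induction_on with
    | empty =>
      rw [Finset.sum_empty, DSmap_zero, ← Category.assoc t, ← Category.assoc (1 : Red.DS S D.M ⟶ Red.DS S D.M)]
      exact (comp_one3 (t ≫ D.split.hom.hom.hom) D.split.inv.hom.hom D.i).symm ▸ one_mem _
    | insert j s hj ih =>
      rw [Finset.sum_insert hj, DSmap_add, ← Category.assoc t, ← Category.assoc (Red.DSmap S (φ j) * _)]
      refine (comp_mul3 (t ≫ D.split.hom.hom.hom) (Red.DSmap S (φ j)) _ D.split.inv.hom.hom D.i).symm ▸ mul_mem ?_ ?_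
      swap
      · simp only [Category.assoc]; exact ih
      simp only [Category.assoc]
      have := cochar_mem_SG D b hsc (bM.coord j) (t ≫ D.split.hom.hom.hom ≫ Red.chi S (bM j))
      simp only [Category.assoc] at this
      rw [show Red.DSmap S (φ j) = Red.chi S (bM j) ≫ Red.DSmap S (bM.coord j).toAddMonoidHom from
        (R2.DSmap_comp (bM.coord j).toAddMonoidHom (zmultiplesHom D.M (bM j))).symm, Category.assoc]
      exact this
  have := hfin Finset.univ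
  rwa [hsum, hid, Category.id_comp, reassoc_of% (split_hom_inv D)] at this

/-- a section over a local base is a word in the torus and root sections -/
theorem exists_section_word {A : Type u} [CommRing A] [IsLocalRing A] {G : Over (Spec (CommRingCat.of A))}
    [GrpObj G] (D : Red.SplitRed G) (b : D.P.Base) [D.P.IsReduced] (z : 𝟙_ (Over (Spec (CommRingCat.of A))) ⟶ G) :
    ∃ n ∈ SG D b, ∃ v ∈ SG D b, ∃ t : 𝟙_ _ ⟶ D.T, ∃ w ∈ SG D b, z = n * (v * ((t ≫ D.i) * w)) := by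
  haveI := smooth_hom D
  obtain ⟨n, en, hen⟩ := exists_enum D (RedSub.negRoots D.P b)
  obtain ⟨m, ep, hep⟩ := exists_enum D (RedSub.posRoots D.P b)
  obtain ⟨hD, hbij⟩ := isCellData_of_base D b hen hep
  haveI := isOpenImmersion_cellMap D en ep hD hbij
  let c := RedSub.cellMap D en ep
  let pt0 : ↥(𝟙_ (Over (Spec (CommRingCat.of A)))).left := IsLocalRing.closedPoint A
  obtain ⟨l, hl, q, hq⟩ := exists_translate_nW D b hen hep (z.left pt0)
  have hr : Set.range ((nW D l)⁻¹ * z).left ⊆ Set.range c.left := by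
    let U : (Spec (CommRingCat.of A)).Opens := ((nW D l)⁻¹ * z).left ⁻¹ᵁ c.left.opensRange
    have hcl : IsLocalRing.closedPoint A ∈ U := by
      change ((nW D l)⁻¹ * z).left pt0 ∈ Set.range c.left
      refine ⟨q, ?_⟩
      have e1 : (nW D l)⁻¹ * z = z ≫ ((toUnit G ≫ (nW D l)⁻¹) * 𝟙 G) := by
        rw [MonObj.comp_mul, Category.comp_id, ← Category.assoc, toUnit_unique (z ≫ toUnit G) (𝟙 _), Category.id_comp]
      have e2 : ((toUnit _ ≫ nW D l) * c) ≫ ((toUnit G ≫ (nW D l)⁻¹) * 𝟙 G) = c := by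
        rw [MonObj.comp_mul, Category.comp_id, ← Category.assoc, toUnit_unique (_ ≫ toUnit G) (toUnit _),
          GrpObj.comp_inv, inv_mul_cancel_left]
      rw [e1]
      refine (congrArg (fun f : _ ⟶ G => f.left q) e2).symm.trans ?_
      exact congrArg ((toUnit G ≫ (nW D l)⁻¹) * 𝟙 G).left hq
    have htop : U = ⊤ := (IsLocalRing.closedPoint_mem_iff U).mp hcl
    rintro _ ⟨s, rfl⟩
    exact (show s ∈ U from htop ▸ trivial)
  obtain ⟨ω, hω⟩ := H21Rank1.exists_lift_of_range_subset c _ hr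
  refine ⟨nW D l, nW_mem_SG D b hl, _, xProd_mem_SG D b en (fun k => (ω ≫ fst _ _) ≫ pr _ n k),
    ω ≫ snd _ _ ≫ fst _ _, _, xProd_mem_SG D b ep (fun k => (ω ≫ snd _ _ ≫ snd _ _) ≫ pr _ m k), ?_⟩
  rw [← cell_point D en ep ω, hω, mul_inv_cancel_left]

end Groth.Agent.H21Split
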