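import Groth.Agent.H21Split.R3.Engine
import Groth.Agent.H21Split.Bru.Sections
import Groth.Agent.H21Split.Bru.BorelSub
import Groth.Agent.H21Diag.DSKernel
import Groth.Agent.H18Torsor.DiagExact

/-!
The homomorphism to the torus modulo coroots, and the big cell of the kernel.
-/

open CategoryTheory MonoidalCategory CartesianMonoidalCategory MonObj GrpObj AlgebraicGeometry
open Groth.Agent.H21Root (opp root_opp wl)

universe u

set_option backward.isDefEq.respectTransparency false
set_option linter.style.haveILetI false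
set_option linter.unusedSectionVars false
set_option synthInstance.maxHeartbeats 400000

noncomputable section

namespace Groth.Agent.H21Split

variable {S : Scheme.{u}} {G : Over S} [GrpObj G] (D : Red.SplitRed G) (N : AddSubgroup D.M)

/-- the projection of the torus modulo the coroots -/
def coradT : D.T ⟶ Red.DS S ↥N := D.split.hom.hom.hom ≫ Red.DSmap S N.subtype

theorem isMonHom_coradT : IsMonHom (coradT D N) :=
  haveI : IsMonHom (Red.DSmap S N.subtype) := H21Diag.isMonHom_DSmap S _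
  inferInstanceAs (IsMonHom (D.split.hom.hom.hom ≫ Red.DSmap S N.subtype))

theorem avc_coradT [D.P.IsReduced] {N : AddSubgroup D.M} (hN : ∀ x ∈ N, ∀ c : D.idx, D.P.coroot c x = 0)
    (a : D.idx) : avc D a ≫ coradT D N = 1 := by
  rw [avc, coradT, Category.assoc, reassoc_of% (split_inv_hom D), R2.DSmap_comp,
    show (D.P.coroot a).toAddMonoidHom.comp N.subtype = 0 from AddMonoidHom.ext fun x => hN x.1 x.2 a, DSmap_zero]

variable {H : Over S} [GrpObj H] (fT : D.T ⟶ H) [IsMonHom fT]

/-- the pairs with trivial root components -/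
def killSys : R3.Sys D H where
  φ _ := 1
  hφ _ := H21Diag.isMonHom_of_mul _ fun x y => by rw [MonObj.comp_one, MonObj.comp_one, MonObj.comp_one, _root_.one_mul]
  fT := fT
  hfT := inferInstance

theorem killSys_snd {Ψ : Set D.idx} {X : Over S} {z : (X ⟶ G) × (X ⟶ H)}
    (hz : z ∈ (killSys D fT).grp Ψ X) : z.2 = 1 := by
  induction hz using Subgroup.closure_induction with
  | mem z hz => obtain ⟨c, -, x, rfl⟩ := hz; exact MonObj.comp_one x
  | one => rfl
  | mul a b _ _ ha hb => rw [Prod.snd_mul, ha, hb, _root_.one_mul]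
  | inv a _ ha => rw [Prod.snd_inv, ha, inv_one]

variable (b : D.P.Base)

variable [D.P.IsReduced]

include b in
theorem killSys_rel (hfT : ∀ a ∈ b.support, avc D a ≫ fT = 1) (hpair : ∀ a ∈ b.support, ∀ (X : Over S) (x y : X ⟶ Red.Ga S),
    IsUnit (1 + Red.gaFn x * Red.gaFn y) → ∃ (x' y' : X ⟶ Red.Ga S) (z : X ⟶ Red.Gm S),
      (x ≫ D.u a) * (y ≫ D.u (D.P.reflectionPerm a a)) =
        (y' ≫ D.u (D.P.reflectionPerm a a)) * ((z ≫ avc D a) ≫ D.i) * (x' ≫ D.u a)) :
    (killSys D fT).Rel b := by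
  haveI := D.fintypeIdx
  haveI : Finite D.idx := Finite.of_fintype _
  refine ⟨fun c X t x x' h => ?_, fun X z hz h1 => Prod.ext h1 (killSys_snd D fT hz),
    fun X z hz h1 => Prod.ext h1 (killSys_snd D fT hz), fun a _ X z hz h1 => Prod.ext h1 (killSys_snd D fT hz),
    fun a ha X x y hu => ?_, fun c hc X x => ?_⟩
  · obtain ⟨y, hy, hy2⟩ := hpp_root D c X t x
    obtain rfl : x' = y := H27Witt.GaCoord.gaFn_injective (h.trans hy2.symm)
    refine Prod.ext ?_ ?_
    · change (t ≫ D.i) * (x ≫ D.u c) = (x' ≫ D.u c) * (t ≫ D.i)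
      rw [hy, inv_mul_cancel_right]
    · change (t ≫ fT) * (x ≫ (1 : Red.Ga S ⟶ _)) = (x' ≫ (1 : Red.Ga S ⟶ _)) * (t ≫ fT)
      rw [MonObj.comp_one, MonObj.comp_one, _root_.one_mul, _root_.mul_one]
  · obtain ⟨x', y', z, e⟩ := hpair a ha X x y hu
    refine ⟨x', y', z ≫ avc D a, Prod.ext e ?_⟩
    change (x ≫ (1 : Red.Ga S ⟶ _)) * (y ≫ (1 : Red.Ga S ⟶ _)) =
      (y' ≫ (1 : Red.Ga S ⟶ _)) * ((z ≫ avc D a) ≫ fT) * (x' ≫ (1 : Red.Ga S ⟶ _))
    rw [Category.assoc z, hfT a ha]
    simp only [MonObj.comp_one, _root_.mul_one]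
  · let C := Submonoid.closure ((killSys D fT).gen b X)
    let M : Subgroup (X ⟶ G) := Subgroup.closure {g | ∃ c : D.idx,
      (c ∈ RedSub.posRoots D.P b ∨ ∃ a ∈ b.support, D.P.reflectionPerm a a = c) ∧
        ∃ x : X ⟶ Red.Ga S, x ≫ D.u c = g}
    have hM : ∀ g ∈ M, ((g, 1) : (X ⟶ G) × (X ⟶ H)) ∈ C ∧ ((g⁻¹, 1) : _ × _) ∈ C := by
      intro g hg
      induction hg using Subgroup.closure_induction with
      | mem g hg =>
        obtain ⟨c, hc, x, rfl⟩ := hg
        haveI : IsMonHom (D.u c) := (D.rootHom c).1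
        have : ∀ x : X ⟶ Red.Ga S, ((x ≫ D.u c, 1) : (X ⟶ G) × (X ⟶ H)) ∈ C := fun x => by
          have e : ((x ≫ D.u c, 1) : (X ⟶ G) × (X ⟶ H)) = (killSys D fT).U c x :=
            Prod.ext rfl (MonObj.comp_one x).symm
          rw [e]
          refine Submonoid.subset_closure ?_
          rcases hc with hc | ⟨a, ha, rfl⟩
          exacts [Or.inr (Or.inl ⟨c, hc, x, rfl⟩), Or.inr (Or.inr ⟨a, ha, x, rfl⟩)]
        exact ⟨this x, by
          have h2 := this x⁻¹
          rw [GrpObj.inv_comp] at h2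
          exact h2⟩
      | one => exact ⟨one_mem _, by rw [inv_one]; exact one_mem _⟩
      | mul g g' _ _ hg hg' =>
        refine ⟨?_, ?_⟩
        · have := C.mul_mem hg.1 hg'.1
          rwa [Prod.mk_mul_mk, _root_.mul_one] at this
        · have := C.mul_mem hg'.2 hg.2
          rwa [Prod.mk_mul_mk, _root_.mul_one, ← _root_.mul_inv_rev] at this
      | inv g _ hg => exact ⟨hg.2, by rw [_root_.inv_inv]; exact hg.1⟩
    have hgen : ∀ (c : D.idx) (x : X ⟶ Red.Ga S),
        (c ∈ RedSub.posRoots D.P b ∨ ∃ a ∈ b.support, D.P.reflectionPerm a a = c) → x ≫ D.u c ∈ M :=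
      fun c x hc => Subgroup.subset_closure ⟨c, hc, x, rfl⟩
    have hW : ∀ l : List D.idx, (∀ a ∈ l, a ∈ b.support) → toUnit X ≫ nW D l ∈ M := by
      intro l hl
      induction l with
      | nil => simp [nW, one_mem]
      | cons a l ih =>
        rw [show nW D (a :: l) = nS D a * nW D l from rfl, MonObj.comp_mul]
        refine mul_mem ?_ (ih fun c hc => hl c (List.mem_cons_of_mem a hc))
        obtain ⟨p, q, r, h⟩ := exists_nS D a
        have ha' := hl a List.mem_cons_self
        simp only [h, MonObj.comp_mul, ← Category.assoc]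
        exact mul_mem (mul_mem (hgen a _ (Or.inl (simple_mem_pos D b ha'))) (hgen _ _ (Or.inr ⟨a, ha', rfl⟩)))
          (hgen a _ (Or.inl (simple_mem_pos D b ha')))
    have hind : RootD.IsIndiv D.P c := fun j hj => by
      refine two_smul_notMem D j ⟨c, ?_⟩
      rw [← hj]
    obtain ⟨w, hw, a, ha, h⟩ := (H21Root.simpleZ_base (P := D.P) b).exists_smul_eq hind
    obtain ⟨l, hl, rfl⟩ := H21Root.exists_word D.P hw
    obtain ⟨y, hy⟩ := (rl_nW_inv D l).root c X x
    rw [← h, inv_smul_smul, h, GrpObj.comp_inv, _root_.inv_inv] at hy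
    have e : x ≫ D.u c = (toUnit X ≫ nW D l) * (y ≫ D.u a) * (toUnit X ≫ nW D l)⁻¹ := by rw [← hy]; group
    have := (hM _ (e ▸ mul_mem (mul_mem (hW l hl) (hgen a y (Or.inl (simple_mem_pos D b ha))))
      (inv_mem (hW l hl)))).1
    rwa [show (killSys D fT).U c x = ((x ≫ D.u c, 1) : _ × _) from Prod.ext rfl (MonObj.comp_one x)]

open scoped Classical in
/-- the splitting with all opposite simple root homomorphisms put in duality -/
def dualAll : Red.SplitRed G :=
  { D with
    u := fun c => if D.P.reflectionPerm c c ∈ b.support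
      then H21Rank1.powScale 1 (kap D (D.P.reflectionPerm c c)) ≫ D.u c else D.u c
    rootHom := fun c => by
      by_cases h : D.P.reflectionPerm c c ∈ b.support
      · simp only [if_pos h]
        exact isRootHom_scale D c _
      · simp only [if_neg h]
        exact D.rootHom c }

include b in
/-- the homomorphism to the torus modulo coroots -/
theorem exists_hom_kill (hfT : ∀ a ∈ b.support, avc D a ≫ fT = 1) :
    ∃ f : G ⟶ H, IsMonHom f ∧ D.i ≫ f = fT ∧ ∀ c, D.u c ≫ f = 1 := by
  classical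
  let D' := dualAll D b
  let b' : D'.P.Base := b
  haveI : D'.P.IsReduced := ‹D.P.IsReduced›
  have hu : ∀ c, D'.u c = if D.P.reflectionPerm c c ∈ b.support
      then H21Rank1.powScale 1 (kap D (D.P.reflectionPerm c c)) ≫ D.u c else D.u c := fun c => rfl
  have hpair : ∀ a ∈ b'.support, ∀ (X : Over S) (x y : X ⟶ Red.Ga S),
      IsUnit (1 + Red.gaFn x * Red.gaFn y) → ∃ (x' y' : X ⟶ Red.Ga S) (z : X ⟶ Red.Gm S),
      (x ≫ D'.u a) * (y ≫ D'.u (D'.P.reflectionPerm a a)) =
        (y' ≫ D'.u (D'.P.reflectionPerm a a)) * ((z ≫ avc D' a) ≫ D'.i) * (x' ≫ D'.u a) := by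
    intro a ha X x y hu'
    obtain ⟨x', y', z, -, -, -, e⟩ := kap_spec D a X x y hu'
    refine ⟨x', y', z, ?_⟩
    have h1 : D'.u a = D.u a := by
      rw [hu, if_neg]
      intro h
      exact notMem_neg_of_mem_pos b (simple_mem_pos D b ha)
        ((neg_iff_opp_pos D b a).mpr (simple_mem_pos D b h))
    have h2 : D'.u (D'.P.reflectionPerm a a) = H21Rank1.powScale 1 (kap D a) ≫ D.u (D.P.reflectionPerm a a) := by
      have hoo : D.P.reflectionPerm (D.P.reflectionPerm a a) (D.P.reflectionPerm a a) = a := opp_opp' D a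
      change D'.u (D.P.reflectionPerm a a) = _
      rw [hu, hoo, if_pos (show a ∈ b.support from ha)]
    rw [h1, h2, Category.assoc z]
    exact e
  have hfT' : ∀ a ∈ b'.support, avc D' a ≫ fT = 1 := hfT
  obtain ⟨f, ⟨hf, hT, hc⟩, -⟩ := (killSys_rel D' fT b' hfT' hpair).existsUnique_hom
  refine ⟨f, hf, hT, fun c => ?_⟩
  have h := hc c
  rw [hu] at h
  split_ifs at h with hs
  · haveI := (H21Rank1.isIso_powScale (kap D (D.P.reflectionPerm c c))).1
    rw [← cancel_epi (H21Rank1.powScale 1 (kap D (D.P.reflectionPerm c c))), MonObj.comp_one, ← Category.assoc]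
    exact h
  · exact h

variable {N}

include b in
/-- the homomorphism to the torus modulo coroots -/
theorem exists_corad (hN : ∀ x ∈ N, ∀ c : D.idx, D.P.coroot c x = 0) :
    ∃ f : G ⟶ Red.DS S ↥N, IsMonHom f ∧ D.i ≫ f = coradT D N ∧ ∀ c, D.u c ≫ f = 1 :=
  haveI := isMonHom_coradT D N
  exists_hom_kill D (coradT D N) b fun a _ => avc_coradT D hN a

omit [D.P.IsReduced] in
/-- a point of the torus killed modulo the coroots comes from the smaller torus -/
theorem exists_lift_coradT {X : Over S} (t : X ⟶ D.T) (h : t ≫ coradT D N = 1) :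
    ∃ s : X ⟶ Red.DS S (D.M ⧸ N), s ≫ Red.DSmap S (QuotientAddGroup.mk' N) ≫ D.split.inv.hom.hom = t := by
  haveI : Mono (Red.DSmap S (QuotientAddGroup.mk' N)) :=
    H18Torsor.DiagExact.mono_DSmap _ (QuotientAddGroup.mk'_surjective N)
  obtain ⟨s, hs⟩ := exists_lift_of_pts (Red.DSmap S (QuotientAddGroup.mk' N)) (t ≫ D.split.hom.hom.hom)
    fun R _ g j => by
      obtain ⟨χ, hχ⟩ := ds_surjective g (j ≫ t ≫ D.split.hom.hom.hom)
      have h1 : ds g (χ.comp (AddMonoidHom.toMultiplicative N.subtype)) = 1 := by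
        rw [← ds_DSmap, hχ]
        simp only [Category.assoc]
        rw [coradT] at h
        simp only [h, MonObj.comp_one]
      have h2 : ∀ x ∈ N, χ (Multiplicative.ofAdd x) = 1 := fun x hx =>
        DFunLike.congr_fun (ds_injective g (h1.trans (ds_one g).symm)) (Multiplicative.ofAdd ⟨x, hx⟩)
      let a : D.M →+ Additive Rˣ := MonoidHom.toAdditiveRight χ.toHomUnits
      let a' : D.M ⧸ N →+ Additive Rˣ := QuotientAddGroup.lift N a fun x hx => by
        change Additive.ofMul (χ.toHomUnits (Multiplicative.ofAdd x)) = 0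
        rw [show χ.toHomUnits (Multiplicative.ofAdd x) = 1 from Units.ext (h2 x hx)]
        rfl
      refine ⟨ds g ((Units.coeHom R).comp (AddMonoidHom.toMultiplicativeLeft a')), ?_⟩
      rw [ds_DSmap, ← hχ]
      congr 1
  refine ⟨s, ?_⟩
  rw [← Category.assoc, hs, Category.assoc, split_hom_inv, Category.comp_id]

end Groth.Agent.H21Split
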