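import Groth.Agent.H21Split.Normalizer
import Groth.Agent.H21Split.Sandwich
import Groth.Agent.H21Split.FFPoint
import Groth.Agent.H21Split.RootLemmas

/-!
Sections of a split group normalising the torus; the torus is its own centraliser.
-/

open CategoryTheory MonoidalCategory CartesianMonoidalCategory MonObj GrpObj AlgebraicGeometry
open Groth.Agent.H27Witt.GaCoord (gaFn_comp gaFn_surjective gaFn_injective gaFn_one)

universe u

set_option backward.isDefEq.respectTransparency false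
set_option linter.style.haveILetI false
set_option linter.unusedSectionVars false
set_option synthInstance.maxHeartbeats 400000

noncomputable section

namespace Groth.Agent.H21Split

variable {S : Scheme.{u}} {G : Over S} [GrpObj G] (D : Red.SplitRed G)

/-- a section normalising the torus and acting on the characters by an additive map -/
def Acts (n : 𝟙_ (Over S) ⟶ G) (φ : D.M →+ D.M) : Prop :=
  ∀ (R : Type u) [CommRing R] (g : Spec (CommRingCat.of R) ⟶ S) (B : Type u) [CommRing B] [Algebra R B]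
    (χ : Multiplicative D.M →* B),
    (toUnit (pt g B) ≫ n) * tPt g D χ * (toUnit (pt g B) ≫ n)⁻¹ =
      tPt g D (χ.comp (AddMonoidHom.toMultiplicative φ))

theorem conj_mul' {H : Type*} [Group H] (a b x : H) : a * b * x * (a * b)⁻¹ = a * (b * x * b⁻¹) * a⁻¹ := by group

variable {D}

theorem Acts.mul {n₁ n₂ : 𝟙_ (Over S) ⟶ G} {φ₁ φ₂ : D.M →+ D.M} (h₁ : Acts D n₁ φ₁) (h₂ : Acts D n₂ φ₂) :
    Acts D (n₁ * n₂) (φ₂.comp φ₁) := fun R _ g B _ _ χ => by
  rw [MonObj.comp_mul, conj_mul', h₂ R g B χ, h₁ R g B]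
  rfl

theorem acts_one : Acts D (1 : 𝟙_ (Over S) ⟶ G) (AddMonoidHom.id D.M) := fun R _ g B _ _ χ => by
  rw [MonObj.comp_one, inv_one, _root_.one_mul, _root_.mul_one]
  rfl

theorem Acts.inv {n : 𝟙_ (Over S) ⟶ G} {φ ψ : D.M →+ D.M} (h : Acts D n φ) (hψ : φ.comp ψ = AddMonoidHom.id D.M)
    (hψ' : ψ.comp φ = AddMonoidHom.id D.M) : Acts D n⁻¹ ψ := fun R _ g B _ _ χ => by
  have h1 := h R g B (χ.comp (AddMonoidHom.toMultiplicative ψ))
  have e : (χ.comp (AddMonoidHom.toMultiplicative ψ)).comp (AddMonoidHom.toMultiplicative φ) = χ := by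
    refine MonoidHom.ext fun m => ?_
    have := DFunLike.congr_fun hψ' m.toAdd
    exact congrArg χ (congrArg Multiplicative.ofAdd this)
  rw [e] at h1
  rw [GrpObj.comp_inv, ← h1]
  group

/-- the reflection hypothesis in the form used by the definitions -/
theorem acts_reflection_iff {a : D.idx} {n : 𝟙_ (Over S) ⟶ G} :
    Acts D n (sMap D a) ↔ ∀ (X : Over S) (t : X ⟶ D.T), (toUnit X ≫ n) * (t ≫ D.i) * (toUnit X ≫ n)⁻¹ =
      t ≫ D.split.hom.hom.hom ≫ Red.DSmap S (D.P.reflection a).toLinearMap.toAddMonoidHom ≫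
        D.split.inv.hom.hom ≫ D.i := by
  constructor
  · intro h X t
    refine hom_ext_pt fun R _ g j => ?_
    obtain ⟨χ, hχ⟩ := ds_surjective g ((j ≫ t) ≫ D.split.hom.hom.hom)
    have ht : (j ≫ t) = ds g χ ≫ D.split.inv.hom.hom := by
      rw [hχ, Category.assoc, split_hom_inv, Category.comp_id]
    rw [MonObj.comp_mul, MonObj.comp_mul, GrpObj.comp_inv, ← Category.assoc j (toUnit X),
      toUnit_unique (j ≫ toUnit X) (toUnit _), ← Category.assoc j t, ← Category.assoc j t, ht, Category.assoc,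
      ← tPt, h R g R χ, Category.assoc, reassoc_of% (split_inv_hom D), ← Category.assoc, ds_DSmap]
    rfl
  · intro h R _ g B _ _ χ
    have := actsBy_of_global g D a n h B χ
    rwa [← Category.assoc (pmap g (toBase R B)), toUnit_unique (pmap g (toBase R B) ≫ toUnit _) (toUnit _)] at this

theorem sMap_comp_self (a : D.idx) : (sMap D a).comp (sMap D a) = AddMonoidHom.id D.M :=
  AddMonoidHom.ext fun m => sMap_sMap D a m

theorem Acts.inv_refl {a : D.idx} {n : 𝟙_ (Over S) ⟶ G} (h : Acts D n (sMap D a)) : Acts D n⁻¹ (sMap D a) :=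
  h.inv (sMap_comp_self a) (sMap_comp_self a)

/-- the action is determined by the section, over a non-trivial test algebra -/
theorem Acts.unique {n : 𝟙_ (Over S) ⟶ G} {φ ψ : D.M →+ D.M} (h : Acts D n φ) (h' : Acts D n ψ) {K : Type u}
    [CommRing K] [Nontrivial K] (g : Spec (CommRingCat.of K) ⟶ S) : φ = ψ := by
  let χ : Multiplicative D.M →* MonoidAlgebra K (Multiplicative D.M) := MonoidAlgebra.of K _
  have e := tPt_injective g D ((h K g _ χ).symm.trans (h' K g _ χ))
  refine AddMonoidHom.ext fun m => ?_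
  have e1 := DFunLike.congr_fun e (Multiplicative.ofAdd m)
  exact Multiplicative.ofAdd.injective (MonoidAlgebra.of_injective e1)

/-- conjugation by a section acting as a reflection permutes the root groups -/
theorem Acts.exists_conj_root [D.P.IsReduced] {a : D.idx} {n : 𝟙_ (Over S) ⟶ G} (h : Acts D n (sMap D a)) (d : D.idx)
    {X : Over S} (x : X ⟶ Red.Ga S) : ∃ y : X ⟶ Red.Ga S,
      (toUnit X ≫ n) * (x ≫ D.u d) * (toUnit X ≫ n)⁻¹ = y ≫ D.u (D.P.reflectionPerm a d) := by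
  obtain ⟨c, hc, -⟩ := existsUnique_conj D a d (two_smul_notMem D _) n (acts_reflection_iff.mp h)
  obtain ⟨y, hy⟩ := gaFn_surjective (X := X) (X.hom.appTop c * Red.gaFn x)
  exact ⟨y, hc X x y hy⟩

/-- a section centralising the torus normalises every root group -/
theorem Acts.exists_conj_id [D.P.IsReduced] {z : 𝟙_ (Over S) ⟶ G} (h : Acts D z (AddMonoidHom.id D.M)) (c : D.idx)
    {X : Over S} (x : X ⟶ Red.Ga S) : ∃ y : X ⟶ Red.Ga S,
      (toUnit X ≫ z) * (x ≫ D.u c) * (toUnit X ≫ z)⁻¹ = y ≫ D.u c := by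
  obtain ⟨n, hn⟩ := D.refl c
  have hn' : Acts D n (sMap D c) := acts_reflection_iff.mpr hn
  have hzn : Acts D (n * z) (sMap D c) := by
    have := hn'.mul h
    rwa [AddMonoidHom.id_comp] at this
  obtain ⟨y, hy⟩ := hzn.exists_conj_root c x
  obtain ⟨y', hy'⟩ := hn'.inv_refl.exists_conj_root (D.P.reflectionPerm c c) y
  rw [(D.P.reflectionPerm_self c c)] at hy'
  refine ⟨y', ?_⟩
  rw [← hy', ← hy, MonObj.comp_mul, GrpObj.comp_inv]
  group

theorem conj_inv_eq {H : Type*} [Group H] {N v v₂ C w v' C' w' : H} (e₁ : N * (v * (C * w)) = v' * (C' * w'))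
    (e₂ : N * v * N⁻¹ = v₂) {w₄ : H} (e₃ : C * (w' * w⁻¹) * C⁻¹ = w₄) : N = v₂⁻¹ * v' * (C' * C⁻¹ * w₄) := by
  subst e₂ e₃
  rw [← mul_left_inj (C * w)]
  calc N * (C * w) = (N * v * N⁻¹)⁻¹ * (N * (v * (C * w))) := by group
    _ = (N * v * N⁻¹)⁻¹ * (v' * (C' * w')) := by rw [e₁]
    _ = _ := by group

theorem Acts.exists_conj_xProd [D.P.IsReduced] {z : 𝟙_ (Over S) ⟶ G} (h : Acts D z (AddMonoidHom.id D.M))
    {m : ℕ} (e : Fin m → D.idx) {X : Over S} (v : Fin m → (X ⟶ Red.Ga S)) :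
    ∃ w : Fin m → (X ⟶ Red.Ga S), (toUnit X ≫ z) * xProd D e v * (toUnit X ≫ z)⁻¹ = xProd D e w := by
  choose w hw using fun k => h.exists_conj_id (e k) (v k)
  refine ⟨w, ?_⟩
  rw [xProd, ← MulAut.conj_apply, ← MulEquiv.coe_toMonoidHom, map_prod_ofFn, xProd]
  congr
  funext k
  rw [MulEquiv.coe_toMonoidHom, MulAut.conj_apply, hw]

set_option maxHeartbeats 1600000 in
/-- the torus is its own centraliser, on sections -/
theorem Acts.exists_torus [D.P.IsReduced] {z : 𝟙_ (Over S) ⟶ G} (h : Acts D z (AddMonoidHom.id D.M)) :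
    ∃ t : 𝟙_ (Over S) ⟶ D.T, t ≫ D.i = z := by
  haveI := isAffineHom_hom D
  haveI := smooth_hom D
  haveI := H21Rank1.geometricallyIrreducible_of_isReductive D.reductive
  obtain ⟨n, m, en, ep, hD, hbij⟩ := exists_cell D
  haveI := isOpenImmersion_cellMap D en ep hD hbij
  let c := RedSub.cellMap D en ep
  have hrange : Set.range z.left ⊆ Set.range c.left := by
    rintro _ ⟨s, rfl⟩
    let K := S.residueField s
    let g : Spec (CommRingCat.of K) ⟶ S := S.fromSpecResidueField s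
    obtain ⟨R', _, _, hff, za, zb, hz⟩ := exists_ff_translate c (eta_mem_range D en ep) g z
    let g' := Spec.map (CommRingCat.ofHom (algebraMap K R')) ≫ g
    rw [show za ≫ c = _ from cell_point D en ep za, show zb ≫ c = _ from cell_point D en ep zb] at hz
    obtain ⟨v₂, hv₂⟩ := h.exists_conj_xProd en fun k => (za ≫ fst _ _) ≫ pr (Red.Ga S) n k
    obtain ⟨vi, hvi⟩ := exists_inverse D hD.posn en hD.hn rfl v₂
    obtain ⟨v, hv⟩ := exists_mul D hD.posn en hD.hn rfl vi fun k => (zb ≫ fst _ _) ≫ pr (Red.Ga S) n k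
    obtain ⟨wi, hwi⟩ := exists_inverse D hD.posp ep hD.hp rfl fun k => (za ≫ snd _ _ ≫ snd _ _) ≫ pr (Red.Ga S) m k
    obtain ⟨w₀, hw₀⟩ := exists_mul D hD.posp ep hD.hp rfl (fun k => (zb ≫ snd _ _ ≫ snd _ _) ≫ pr (Red.Ga S) m k) wi
    let ta := za ≫ snd _ _ ≫ fst _ _
    let tb := zb ≫ snd _ _ ≫ fst _ _
    obtain ⟨w, hw⟩ := exists_torus_conj D ep ta w₀
    have e := conj_inv_eq hz hv₂ (w₄ := xProd D ep w) (by rw [hw, hw₀, hwi])
    let ω : pt g' R' ⟶ RedSub.pow (Red.Ga S) n ⊗ (D.T ⊗ RedSub.pow (Red.Ga S) m) :=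
      lift (tuple n v) (lift (tb * ta⁻¹) (tuple m w))
    have hω : ω ≫ c = toUnit _ ≫ z := by
      rw [e, show ω ≫ c = _ from cell_point D en ep ω]
      simp only [ω, lift_fst, lift_snd_assoc, lift_snd, tuple_pr]
      rw [hv, hvi, MonObj.mul_comp, GrpObj.inv_comp]
    haveI : Nontrivial R' := (FaithfulSMul.algebraMap_injective K R').nontrivial
    obtain ⟨q⟩ := (inferInstance : Nonempty (PrimeSpectrum R'))
    refine ⟨ω.left q, ?_⟩
    have h1 : (ω ≫ c).left q = (toUnit (pt g' R') ≫ z).left q := by rw [hω]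
    refine h1.trans ?_
    change z.left ((toUnit (pt g' R')).left q) = z.left s
    congr 1
    change (pt g' R').hom q = s
    change (Spec.map (CommRingCat.ofHom (algebraMap R' R')) ≫ Spec.map (CommRingCat.ofHom (algebraMap K R')) ≫ g) q = s
    simp only [Scheme.Hom.comp_apply]
    exact Scheme.fromSpecResidueField_apply _ _
  obtain ⟨ω, hω⟩ := H21Rank1.exists_lift_of_range_subset c z hrange
  refine ⟨ω ≫ snd _ _ ≫ fst _ _, ?_⟩
  rw [← cell_eq_torus_of_normalizes D hD ω fun X' y t => ⟨t, ?_⟩, hω]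
  rw [hω, toUnit_unique y (toUnit X')]
  refine hom_ext_pt fun R _ g j => ?_
  obtain ⟨χ, hχ⟩ := exists_tPt g D (j ≫ t)
  rw [MonObj.comp_mul, MonObj.comp_mul, GrpObj.comp_inv, ← Category.assoc j (toUnit X'),
    toUnit_unique (j ≫ toUnit X') (toUnit _), ← Category.assoc j t, ← hχ, h R g R χ]
  rfl

end Groth.Agent.H21Split
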