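import Groth.Agent.H21Split.Bru.Cover

/-!
The points whose conjugates by a regular cocharacter extend to the affine line form the Borel group.
-/

open CategoryTheory MonoidalCategory CartesianMonoidalCategory MonObj GrpObj AlgebraicGeometry
open Groth.Agent.H21Root (opp root_opp sr wl wl_cons smul_opp)

universe u

set_option backward.isDefEq.respectTransparency false
set_option linter.style.haveILetI false
set_option linter.unusedSectionVars false
set_option synthInstance.maxHeartbeats 400000

noncomputable section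

namespace Groth.Agent.H21Split

variable {S : Scheme.{u}} {G : Over S} [GrpObj G] (D : Red.SplitRed G) (b : D.P.Base)

section Ring

variable {R : Type u} [CommRing R] (g : Spec (CommRingCat.of R) ⟶ S) (h : D.M →+ ℤ)

/-- conjugation by a cocharacter on constant points -/
def conjL : (pt g R ⟶ G) →* (pt g (LaurentPolynomial R) ⟶ G) :=
  (MulAut.conj (tPt g D (cz R D h))).toMonoidHom.comp (preHom (pmap g (lconst R R)))

theorem conjL_apply (z : pt g R ⟶ G) :
    conjL D g h z = tPt g D (cz R D h) * (pmap g (lconst R R) ≫ z) * (tPt g D (cz R D h))⁻¹ := rfl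

/-- the points whose conjugates extend to the affine line -/
def Att : Subgroup (pt g R ⟶ G) :=
  ((preHom (G := G) (pmap g (polyL R R))).range).comap (conjL D g h)

theorem mem_Att {z : pt g R ⟶ G} :
    z ∈ Att D g h ↔ ∃ P : pt g (Polynomial R) ⟶ G, pmap g (polyL R R) ≫ P = conjL D g h z := Iff.rfl

theorem uPt_mem_Att {c : D.idx} (hc : 0 ≤ h (D.P.root c)) (x : R) : uPt g D c x ∈ Att D g h := by
  refine ⟨uProd g D (fun _ : Fin 1 => c) fun _ => Polynomial.C x * Polynomial.X ^ (h (D.P.root c)).toNat, ?_⟩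
  rw [conjL_apply, preHom_apply]
  refine (polyL_prod g D h (fun _ : Fin 1 => c) (fun _ => hc) (fun _ => x)).trans ?_
  rw [← conj_cz_prod]
  simp

theorem tPt_mem_Att (χ : Multiplicative D.M →* R) : tPt g D χ ∈ Att D g h := by
  refine ⟨tPt g D ((pconst R R).toRingHom.toMonoidHom.comp χ), ?_⟩
  rw [conjL_apply, preHom_apply, pmap_tPt, pmap_tPt, (tPt_commute g D (cz R D h) _).eq, mul_inv_cancel_right]
  congr 1
  refine MonoidHom.ext fun m => ?_
  change polyL R R (pconst R R (χ m)) = lconst R R (χ m)
  rw [pconst_apply, polyL_apply, Polynomial.toLaurent_C, lconst_apply]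

theorem Bp_le_Att (hp : ∀ c ∈ RedSub.posRoots D.P b, 0 < h (D.P.root c)) : Bp D b g ≤ Att D g h :=
  sup_le (by rintro _ ⟨χ, rfl⟩; exact tPt_mem_Att D g h χ)
    (Ug_le D g fun c hc x => uPt_mem_Att D g h (hp c hc).le x)

end Ring

variable {K : Type u} [Field K] (g : Spec (CommRingCat.of K) ⟶ S)

/-- the squaring endomorphism of the Laurent polynomials -/
theorem mulLeft_two_T (k : ℤ) :
    AddMonoidAlgebra.mapDomainAlgHom K K (AddMonoidHom.mulLeft (2 : ℤ)) (LaurentPolynomial.T k) =
      (LaurentPolynomial.T (2 * k) : LaurentPolynomial K) := by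
  rw [AddMonoidAlgebra.mapDomainAlgHom_apply]
  exact AddMonoidAlgebra.mapDomain_single

/-- a cocharacter extending to the affine line is trivial -/
theorem cochar_eq_zero (ν : D.M →+ ℤ) (P : pt g (Polynomial K) ⟶ G)
    (hP : pmap g (polyL K K) ≫ P = tPt g D (cz K D ν)) : ν = 0 := by
  haveI := isAffineHom_hom D
  haveI := smooth_hom D
  obtain ⟨n, m, en, ep, hD, hbij⟩ := exists_cell D
  haveI := isOpenImmersion_cellMap D en ep hD hbij
  let sq : Polynomial K →ₐ[K] Polynomial K := Polynomial.aeval (Polynomial.X ^ 2)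
  let sqL : LaurentPolynomial K →ₐ[K] LaurentPolynomial K :=
    AddMonoidAlgebra.mapDomainAlgHom K K (AddMonoidHom.mulLeft (2 : ℤ))
  have hsq : sqL.comp (polyL K K) = (polyL K K).comp sq := Polynomial.algHom_ext (by
    simp only [AlgHom.comp_apply, sq, Polynomial.aeval_X, polyL_apply, map_pow, Polynomial.toLaurent_X]
    rw [LaurentPolynomial.T_pow]
    simp only [sqL, mulLeft_two_T]
    rfl)
  have e2 : pmap g sq ≫ P = P * P := by
    refine ext_of_injective g (polyL K K) (polyL_injective) ?_
    rw [MonObj.comp_mul, ← Category.assoc, pmap_comp, ← hsq, ← pmap_comp, Category.assoc, hP, ← tPt_mul, pmap_tPt]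
    congr 1
    refine MonoidHom.ext fun x => ?_
    change sqL (LaurentPolynomial.T (ν x.toAdd)) = LaurentPolynomial.T (ν x.toAdd) * LaurentPolynomial.T (ν x.toAdd)
    rw [← LaurentPolynomial.T_add, ← two_mul]
    exact mulLeft_two_T _
  set e := pmap g (pev K K 0) ≫ P
  have he : e = 1 := by
    refine grp_idem ?_
    have h3 := congrArg (pmap g (pev K K 0) ≫ ·) e2
    simp only [MonObj.comp_mul, ← Category.assoc, pmap_comp] at h3
    rw [show (pev K K 0).comp sq = pev K K 0 from Polynomial.algHom_ext (by simp [sq, pev_apply])] at h3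
    exact h3.symm
  have hrange : Set.range P.left ⊆ Set.range (RedSub.cellMap D en ep).left := by
    rintro _ ⟨q, rfl⟩
    by_cases hq : Polynomial.X ∈ q.asIdeal
    · have hq0 : q = (pmap g (pev K K 0)).left (IsLocalRing.closedPoint K) := by
        refine PrimeSpectrum.ext ?_
        have hmax : (RingHom.ker (pev K K 0).toRingHom).IsMaximal :=
          RingHom.ker_isMaximal_of_surjective _ fun x => ⟨Polynomial.C x, by simp [pev_apply]⟩
        have hle : RingHom.ker (pev K K 0).toRingHom ≤ q.asIdeal := fun f hf => by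
          have hf0 : f.eval 0 = 0 := by simpa [RingHom.mem_ker, pev_apply] using hf
          obtain ⟨f', rfl⟩ := Polynomial.X_dvd_iff.mpr ((Polynomial.coeff_zero_eq_eval_zero f).trans hf0)
          exact q.asIdeal.mul_mem_right _ hq
        refine (hmax.eq_of_le q.isPrime.ne_top hle).symm.trans ?_
        change _ = Ideal.comap (pev K K 0).toRingHom (IsLocalRing.maximalIdeal K)
        rw [IsLocalRing.maximalIdeal_eq_bot]
        rfl
      rw [hq0]
      change (pmap g (pev K K 0) ≫ P).left (IsLocalRing.closedPoint K) ∈ _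
      rw [show pmap g (pev K K 0) ≫ P = 1 from he, H21Rank1.one_left_apply]
      exact eta_mem_range D en ep _
    · have h4 : q ∈ Set.range (PrimeSpectrum.comap (algebraMap (Polynomial K) (LaurentPolynomial K))) := by
        rw [PrimeSpectrum.localization_away_comap_range (LaurentPolynomial K) (Polynomial.X : Polynomial K)]
        exact hq
      obtain ⟨q', rfl⟩ := h4
      change P.left ((pmap g (polyL K K)).left q') ∈ _
      change (pmap g (polyL K K) ≫ P).left q' ∈ _
      rw [hP]
      refine ⟨((lift (gas g (0 : Fin n → LaurentPolynomial K)) (lift (ds g (cz K D ν) ≫ D.split.inv.hom.hom)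
        (gas g (0 : Fin m → LaurentPolynomial K))) : pt g (LaurentPolynomial K) ⟶ _)).left q', ?_⟩
      change ((_ : pt g (LaurentPolynomial K) ⟶ _) ≫ RedSub.cellMap D en ep).left q' = _
      rw [comp_cellMap g D en ep _ (cz K D ν) (by simp [tPt]), lift_fst, lift_snd_assoc, lift_snd, gvs_gas, gvs_gas,
        cellPt, uProd_zero, uProd_zero, _root_.one_mul, _root_.mul_one]
  obtain ⟨ω, hω⟩ := H21Rank1.exists_lift_of_range_subset _ P hrange
  obtain ⟨χ, hχ⟩ := exists_tPt g D (ω ≫ snd _ _ ≫ fst _ _)
  have e3 := congrArg (pmap g (polyL K K) ≫ ·) (hω.symm.trans (comp_cellMap g D en ep ω χ hχ))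
  simp only [hP, pmap_cellPt] at e3
  rw [show tPt g D (cz K D ν) = cellPt g D en ep 0 (cz K D ν) 0 by
    rw [cellPt, uProd_zero, uProd_zero, _root_.one_mul, _root_.mul_one]] at e3
  obtain ⟨-, e4, -⟩ := cellPt_injective g D hD e3
  refine AddMonoidHom.ext fun x => ?_
  have hu : IsUnit (χ (Multiplicative.ofAdd x)) := (Group.isUnit _).map χ
  obtain ⟨r, hr, hr'⟩ := Polynomial.isUnit_iff.mp hu
  have e5 := DFunLike.congr_fun e4 (Multiplicative.ofAdd x)
  change LaurentPolynomial.T (ν x) = polyL K K (χ (Multiplicative.ofAdd x)) at e5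
  rw [← hr', polyL_apply, Polynomial.toLaurent_C] at e5
  have e6 := congrArg (fun z : LaurentPolynomial K => z.coeff (ν x)) e5
  by_contra hne
  simp only [LaurentPolynomial.T_apply, LaurentPolynomial.C_apply, if_true] at e6
  rw [if_neg (by simpa using hne)] at e6
  exact one_ne_zero e6

variable [D.P.IsReduced] {h : D.M →+ ℤ}

/-- an attracted point of the union of the Bruhat sets lies in the Borel group -/
theorem mem_Bp_of_mem_Att (hp : ∀ c ∈ RedSub.posRoots D.P b, 0 < h (D.P.root c))
    (hn : ∀ c ∈ RedSub.negRoots D.P b, h (D.P.root c) < 0) {j : pt g K ⟶ G} (hj : j ∈ BU D b g)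
    (hA : j ∈ Att D g h) : j ∈ Bp D b g := by
  haveI := D.fintypeIdx
  haveI : Finite D.idx := Finite.of_fintype _
  haveI := isAffineHom_hom D
  obtain ⟨l, hl, p, hp', q, hq, rfl⟩ := hj
  set σ := wl D.P l
  set N := sec g (nW D l)
  have hN : N ∈ Att D g h := by
    have := mul_mem (mul_mem (inv_mem (Bp_le_Att D b g h hp hp')) hA) (inv_mem (Bp_le_Att D b g h hp hq))
    rwa [show p⁻¹ * (p * N * q) * q⁻¹ = N by group] at this
  obtain ⟨P, hP⟩ := (mem_Att D g h).mp hN
  let ν : D.M →+ ℤ := h.comp (wMap D σ⁻¹) - h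
  have e1 : pmap g (lconst K K) ≫ N = toUnit (pt g (LaurentPolynomial K)) ≫ nW D l := by
    change pmap g (lconst K K) ≫ toUnit _ ≫ nW D l = _
    rw [← Category.assoc, toUnit_unique (pmap g (lconst K K) ≫ toUnit _) (toUnit _)]
  have e2 : conjL D g h N = (pmap g (lconst K K) ≫ N) * tPt g D (cz K D ν) := by
    rw [conjL_apply, e1]
    have h3 := (rl_nW_inv D l).acts K g (LaurentPolynomial K) (cz K D h)
    rw [GrpObj.comp_inv, _root_.inv_inv] at h3
    set M := toUnit (pt g (LaurentPolynomial K)) ≫ nW D l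
    have h4 : tPt g D (cz K D ν) * tPt g D (cz K D h) = M⁻¹ * tPt g D (cz K D h) * M := by
      rw [h3, ← tPt_mul]
      congr 1
      refine MonoidHom.ext fun x => ?_
      rw [MonoidHom.mul_apply]
      change LaurentPolynomial.T _ * LaurentPolynomial.T _ = LaurentPolynomial.T _
      rw [← LaurentPolynomial.T_add]
      congr 1
      change h (wMap D σ⁻¹ x.toAdd) - h x.toAdd + h x.toAdd = _
      rw [sub_add_cancel]
      rfl
    rw [eq_mul_inv_iff_mul_eq.mpr h4]
    group
  have e3 : pmap g (polyL K K) ≫ ((pmap g (pconst K K) ≫ N)⁻¹ * P) = tPt g D (cz K D ν) := by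
    rw [MonObj.comp_mul, GrpObj.comp_inv, hP, e2, ← Category.assoc, pmap_comp,
      show (polyL K K).comp (pconst K K) = lconst K K from Algebra.ext_id _ _ _, inv_mul_cancel_left]
  have hν := cochar_eq_zero D g ν _ e3
  have hσ : σ = 1 := by
    have hΔ := H21Root.simpleZ_base (P := D.P) b
    refine hΔ.eq_one_of_preserves ?_ fun a ha => ?_
    · rw [← hΔ.closure_eq_weylGroup]
      exact H21Root.wl_mem_WOf D.P hl
    · have hh := DFunLike.congr_fun hν (D.P.root a)
      simp only [ν, AddMonoidHom.sub_apply, AddMonoidHom.zero_apply, sub_eq_zero, AddMonoidHom.comp_apply] at hh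
      rw [wMap_apply, _root_.inv_inv, ← H21Root.root_smul] at hh
      refine (mem_pos_or_neg b _).resolve_right fun hneg => ?_
      have := hn _ hneg
      rw [hh] at this
      exact lt_asymm this (hp a (simple_mem_pos D b ha))
  obtain ⟨t, ht⟩ := exists_torus_of_rl (rl_nW D l) (n' := 1) (by
    rw [show wl D.P l = 1 from hσ, inv_one, inv_one]; exact rl_one)
  rw [_root_.one_mul] at ht
  have : N ∈ Bp D b g := by
    simp only [N, ht]
    exact Tg_le_Bp D b g (sec_torus D g t)
  exact mul_mem (mul_mem hp' this) hq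

end Groth.Agent.H21Split
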