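import Groth.Agent.H21Split.Bru.BorelSub
import Groth.Agent.H13AlgSp.EtaleLocally
import Mathlib.AlgebraicGeometry.AlgClosed.Basic

/-!
The fibres of the Borel group over algebraically closed fields are Borel subgroups.
-/

open CategoryTheory MonoidalCategory CartesianMonoidalCategory MonObj GrpObj AlgebraicGeometry
open CategoryTheory.Limits

universe u

set_option backward.isDefEq.respectTransparency false
set_option linter.style.haveILetI false
set_option linter.unusedSectionVars false
set_option synthInstance.maxHeartbeats 400000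

noncomputable section

namespace Groth.Agent.H21Split

theorem smooth_borelDom {S : Scheme.{u}} {G : Over S} [GrpObj G] (D : Red.SplitRed G) (m : ℕ) :
    Smooth (D.T ⊗ RedSub.pow (Red.Ga S) m).hom := by
  have hT : Smooth D.T.hom := by
    let e := (Over.forget S).mapIso ((Grp.forget (Over S)).mapIso D.split)
    rw [show D.T.hom = e.hom ≫ (Red.DS S D.M).hom from (Over.w D.split.hom.hom.hom).symm]
    haveI := smooth_DS (S := S) D.M
    infer_instance
  exact smooth_tensor' hT (smooth_pow H21Rank1.smooth_Ga m)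

theorem exists_unit_sq_ne_one (Ω : Type u) [Field Ω] [IsAlgClosed Ω] : ∃ u : Ωˣ, (u : Ω) * u ≠ 1 := by
  classical
  obtain ⟨x, hx⟩ := Infinite.exists_notMem_finset ({0, 1, -1} : Finset Ω)
  simp only [Finset.mem_insert, Finset.mem_singleton, not_or] at hx
  refine ⟨Units.mk0 x hx.1, fun h => ?_⟩
  rcases mul_self_eq_one_iff.mp h with h' | h'
  exacts [hx.2.1 h', hx.2.2 h']

variable {S : Scheme.{u}} {G : Over S} [GrpObj G] (D : Red.SplitRed G) (b : D.P.Base) {m : ℕ} {ep : Fin m → D.idx}
  (hpos : RedSub.Enumerates (RedSub.posRoots D.P b) ep)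
  [GrpObj (D.T ⊗ RedSub.pow (Red.Ga S) m)] [IsMonHom (RedSub.borelMap D ep)]
include hpos

theorem isBorelOver_borel {Ω : Type u} [Field Ω] [IsAlgClosed Ω] (g : Spec (CommRingCat.of Ω) ⟶ S) :
    Red.IsBorelOver Ω ((Over.pullback g).map (RedSub.borelMap D ep) :
      Red.bc g (D.T ⊗ RedSub.pow (Red.Ga S) m) ⟶ Red.bc g G) := by
  haveI := isReduced' D b
  haveI := isClosedImmersion_borelMap D b hpos
  haveI := smooth_borelDom D m
  let Z := D.T ⊗ RedSub.pow (Red.Ga S) m
  have hcl : IsClosedImmersion ((Over.pullback g).map (RedSub.borelMap D ep)).left :=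
    MorphismProperty.overPullbackMap (P := @IsClosedImmersion) _ _ inferInstance
  have hsm : Smooth (Red.bc g Z).hom :=
    MorphismProperty.pullback_snd (P := @Smooth) _ _ inferInstance
  haveI hmon : IsMonHom ((Over.pullback g).map (RedSub.borelMap D ep) : Red.bc g Z ⟶ Red.bc g G) :=
    H21Diag.isMonHom_bcMap g _
  refine ⟨hmon, hcl, hsm, connected_fib_cell D g m, ?_, ?_⟩
  · obtain ⟨N, hN⟩ := isSolvable_borel D b hpos
    refine ⟨N, fun X => (Subgroup.eq_bot_iff_forall _).mpr fun x hx => ?_⟩
    refine (H21Diag.bcEquiv g Z X).symm.injective ?_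
    change H21Diag.bcHom g Z X x = H21Diag.bcHom g Z X 1
    have := map_derivedSeries_le_derivedSeries (H21Diag.bcHom g Z X) N (Subgroup.mem_map_of_mem _ hx)
    rw [hN, Subgroup.mem_bot] at this
    rw [this, map_one]
  intro B' _ i' _ f hi' hsm' _ hsol hf
  haveI := hi'
  haveI := hsm'
  haveI := hcl
  haveI : IsClosedImmersion f.left := by
    have : IsClosedImmersion (f.left ≫ i'.left) := by rw [← Over.comp_left, hf]; exact hcl
    exact IsClosedImmersion.of_comp _ i'.left
  haveI : Mono i' := Over.mono_of_mono_left _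
  let ψ : (affO Ω ⟶ B') →* (pt g Ω ⟶ G) :=
    (fibHom g Ω G).comp (MonoidHom.mk' (fun a => a ≫ i') fun a a' => MonObj.mul_comp _ _ _)
  have hψ : ∀ a : affO Ω ⟶ Red.bc g Z, ψ (a ≫ f) = fibEquiv g Ω Z a ≫ RedSub.borelMap D ep := fun a => by
    change fibEquiv g Ω G ((a ≫ f) ≫ i') = _
    rw [Category.assoc, hf, fibEquiv_comp]
  have hB : Bp D b g ≤ ψ.range := fun j hj => by
    obtain ⟨z, hz⟩ := exists_lift_borel D g b hpos hj
    exact ⟨(fibEquiv g Ω Z).symm z ≫ f, by rw [hψ, Equiv.apply_symm_apply, hz]⟩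
  obtain ⟨u, hu⟩ := exists_unit_sq_ne_one Ω
  have hle : ψ.range ≤ Bp D b g := range_le_Bp D b g ψ hu hB (by
    obtain ⟨N, hN⟩ := hsol
    exact ⟨N, by rw [hN, Subgroup.map_bot]⟩)
  haveI : Surjective f.left := ⟨by
    haveI : JacobsonSpace B'.left := LocallyOfFiniteType.jacobsonSpace B'.hom
    intro x
    suffices h : closedPoints B'.left ⊆ Set.range f.left by
      have := closure_minimal h f.left.isClosedEmbedding.isClosed_range
      rw [closure_closedPoints] at this
      exact this (Set.mem_univ x)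
    intro y hy
    obtain ⟨p, hp⟩ := (pointEquivClosedPoint B'.hom).surjective ⟨y, hy⟩
    let a : affO Ω ⟶ B' := Over.homMk p.1 (p.2.trans (Spec.map_id _).symm)
    obtain ⟨z, hz⟩ := exists_lift_borel D g b hpos (hle ⟨a, rfl⟩)
    have : (fibEquiv g Ω Z).symm z ≫ f = a := by
      rw [← cancel_mono i']
      refine (fibEquiv g Ω G).injective ?_
      exact ((hψ _).trans (by rw [Equiv.apply_symm_apply, hz]; rfl))
    refine ⟨((fibEquiv g Ω Z).symm z).left (IsLocalRing.closedPoint Ω), ?_⟩
    rw [← Scheme.Hom.comp_apply, ← Over.comp_left, this]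
    exact congrArg Subtype.val hp⟩
  haveI : IsReduced B'.left := H13AlgSp.isReduced_of_smooth_mor B'.hom
  haveI := isIso_of_isClosedImmersion_of_surjective f.left
  haveI : IsIso ((Over.forget _).map f) := ‹IsIso f.left›
  exact isIso_of_reflects_iso f (Over.forget _)

end Groth.Agent.H21Split
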