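import Groth.Agent.H21Split.Bru.Groups

/-!
Points of the underlying space through field valued points.
-/

open CategoryTheory MonoidalCategory CartesianMonoidalCategory MonObj GrpObj AlgebraicGeometry

universe u

set_option backward.isDefEq.respectTransparency false
set_option linter.style.haveILetI false
set_option linter.unusedSectionVars false
set_option synthInstance.maxHeartbeats 400000

noncomputable section

namespace Groth.Agent.H21Split

variable {S : Scheme.{u}} {G : Over S} [GrpObj G] (D : Red.SplitRed G)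

/-- a point lies on a field valued point, which extends to larger fields -/
theorem exists_field_point (X : Over S) (q : ↥X.left) :
    ∃ (K : Type u) (_ : Field K) (g : Spec (CommRingCat.of K) ⟶ S) (j : pt g K ⟶ X),
      ∀ s, j.left.base s = q := by
  let f : Spec (X.left.residueField q) ⟶ X.left := X.left.fromSpecResidueField q
  have hA : Spec.map (CommRingCat.ofHom (algebraMap (X.left.residueField q) (X.left.residueField q))) = 𝟙 _ :=
    Spec.map_id (X.left.residueField q)
  refine ⟨X.left.residueField q, inferInstance, f ≫ X.hom, Over.homMk f (by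
    change f ≫ X.hom = Spec.map (CommRingCat.ofHom (algebraMap (X.left.residueField q) (X.left.residueField q))) ≫ _
    rw [hA]; exact (Category.id_comp _).symm), fun s => ?_⟩
  exact Scheme.fromSpecResidueField_apply _ _

theorem mem_range_of_eq {X Y : Over S} {K : Type u} [Field K] {g : Spec (CommRingCat.of K) ⟶ S} (f : X ⟶ Y)
    {j : pt g K ⟶ Y} {p : ↥Y.left} (hj : ∀ s, j.left.base s = p) (z : pt g K ⟶ X) (h : z ≫ f = j) :
    p ∈ Set.range f.left.base := by
  refine ⟨z.left.base (IsLocalRing.closedPoint K), ?_⟩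
  rw [← hj (IsLocalRing.closedPoint K), ← h]
  rfl

theorem comp_translate {X : Over S} {K : Type u} [Field K] {g : Spec (CommRingCat.of K) ⟶ S} (f : X ⟶ G)
    (w : 𝟙_ (Over S) ⟶ G) (z : pt g K ⟶ X) : z ≫ ((toUnit _ ≫ w) * f) = sec g w * (z ≫ f) := by
  rw [MonObj.comp_mul, ← Category.assoc, toUnit_unique (z ≫ toUnit X) (toUnit _)]

variable {b : D.P.Base} {n m : ℕ} {en : Fin n → D.idx} {ep : Fin m → D.idx}
variable (hneg : RedSub.Enumerates (RedSub.negRoots D.P b) en) (hpos : RedSub.Enumerates (RedSub.posRoots D.P b) ep)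
include hneg hpos

theorem mem_range_cellMap {K : Type u} [Field K] {g : Spec (CommRingCat.of K) ⟶ S} {j : pt g K ⟶ G} {p : ↥G.left}
    (hj : ∀ s, j.left.base s = p) (h : j ∈ Om D g b) : p ∈ Set.range (RedSub.cellMap D en ep).left.base := by
  obtain ⟨ω, hω⟩ := (mem_Om_iff_lift D g hneg hpos).mp h
  exact mem_range_of_eq _ hj ω hω

theorem mem_range_translate {K : Type u} [Field K] {g : Spec (CommRingCat.of K) ⟶ S} {j : pt g K ⟶ G} {p : ↥G.left}
    (hj : ∀ s, j.left.base s = p) {w : 𝟙_ (Over S) ⟶ G} (h : (sec g w)⁻¹ * j ∈ Om D g b) :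
    p ∈ Set.range ((toUnit _ ≫ w) * RedSub.cellMap D en ep).left.base := by
  obtain ⟨ω, hω⟩ := (mem_Om_iff_lift D g hneg hpos).mp h
  refine mem_range_of_eq _ hj ω ?_
  rw [comp_translate, hω, mul_inv_cancel_left]

end Groth.Agent.H21Split
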