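import Groth.Agent.H21Split.Bru.Simple
import Groth.Agent.H21Split.Bru.Points

/-!
The Bruhat decomposition of the field valued points of a split group.
-/

open CategoryTheory MonoidalCategory CartesianMonoidalCategory MonObj GrpObj AlgebraicGeometry
open Groth.Agent.H21Root (opp root_opp sr wl wl_cons smul_opp)
open Groth.Agent.H27Witt.GaCoord (gaFn_comp gaFn_surjective gaFn_injective gaFn_one)

universe u

set_option backward.isDefEq.respectTransparency false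
set_option linter.style.haveILetI false
set_option linter.unusedSectionVars false
set_option synthInstance.maxHeartbeats 400000

noncomputable section

namespace Groth.Agent.H21Split

variable {S : Scheme.{u}} {G : Over S} [GrpObj G] (D : Red.SplitRed G) (b : D.P.Base)

local notation "Δp" => RedSub.posRoots D.P b
local notation "Δn" => RedSub.negRoots D.P b

theorem opp_opp' (c : D.idx) : opp D.P (opp D.P c) = c := D.P.root.injective (by rw [root_opp, root_opp, neg_neg])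

section Ring

variable {R : Type u} [CommRing R] (g : Spec (CommRingCat.of R) ⟶ S)

/-- the points of the positive Borel group -/
abbrev Bp : Subgroup (pt g R ⟶ G) := Tg D g ⊔ Ug D g Δp

theorem Tg_le_Bp : Tg D g ≤ Bp D b g := le_sup_left

theorem Ug_le_Bp : Ug D g Δp ≤ Bp D b g := le_sup_right

theorem uPt_mem_Bp {c : D.idx} (hc : c ∈ Δp) (x : R) : uPt g D c x ∈ Bp D b g :=
  Ug_le_Bp D b g (uPt_mem_Ug D g hc x)

theorem one_mem_Om : (1 : pt g R ⟶ G) ∈ Om D g b :=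
  ⟨1, one_mem _, 1, one_mem _, 1, one_mem _, by simp⟩

theorem Om_tg_left {t z : pt g R ⟶ G} (ht : t ∈ Tg D g) (hz : z ∈ Om D g b) : t * z ∈ Om D g b := by
  obtain ⟨v, hv, t', ht', w, hw, rfl⟩ := hz
  exact ⟨t * v * t⁻¹, Tg_conj_mem D g ht hv, t * t', mul_mem ht ht', w, hw, by group⟩

theorem Om_neg_left {v z : pt g R ⟶ G} (hv : v ∈ Ug D g Δn) (hz : z ∈ Om D g b) : v * z ∈ Om D g b := by
  obtain ⟨v', hv', t', ht', w, hw, rfl⟩ := hz
  exact ⟨v * v', mul_mem hv hv', t', ht', w, hw, by group⟩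

theorem Om_bp_right {p z : pt g R ⟶ G} (hp : p ∈ Bp D b g) (hz : z ∈ Om D g b) : z * p ∈ Om D g b := by
  obtain ⟨t, ht, u, hu, rfl⟩ := (mem_TU D g).mp hp
  obtain ⟨v, hv, t', ht', w, hw, rfl⟩ := hz
  refine ⟨v, hv, t' * t, mul_mem ht' ht, t⁻¹ * w * t * u, mul_mem ?_ hu, by group⟩
  have := Tg_conj_mem D g (inv_mem ht) hw
  rwa [_root_.inv_inv] at this

theorem mem_Ug_split {Ψ A : Set D.idx} (hΨ : IsPosSet D.P Ψ) {z : pt g R ⟶ G} (hz : z ∈ Ug D g Ψ) :
    ∃ p ∈ Ug D g (Ψ ∩ A), ∃ q ∈ Ug D g (Ψ \ A), p * q = z := by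
  obtain ⟨m₁, e₁, he₁, hr₁⟩ := exists_enum D (Ψ ∩ A)
  obtain ⟨m₂, e₂, he₂, hr₂⟩ := exists_enum D (Ψ \ A)
  have hinj : Function.Injective (Fin.append e₁ e₂) := by
    intro i j hij
    induction i using Fin.addCases with
    | left i =>
      induction j using Fin.addCases with
      | left j => rw [Fin.append_left, Fin.append_left] at hij; rw [he₁ hij]
      | right j =>
        rw [Fin.append_left, Fin.append_right] at hij
        exact absurd (hr₁ ▸ ⟨i, rfl⟩ : e₁ i ∈ Ψ ∩ A).2 (hij ▸ (hr₂ ▸ ⟨j, rfl⟩ : e₂ j ∈ Ψ \ A).2)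
    | right i =>
      induction j using Fin.addCases with
      | left j =>
        rw [Fin.append_left, Fin.append_right] at hij
        exact absurd (hr₁ ▸ ⟨j, rfl⟩ : e₁ j ∈ Ψ ∩ A).2 (hij ▸ (hr₂ ▸ ⟨i, rfl⟩ : e₂ i ∈ Ψ \ A).2)
      | right j => rw [Fin.append_right, Fin.append_right] at hij; rw [he₂ hij]
  have hr : Set.range (Fin.append e₁ e₂) = Ψ := by
    rw [show Set.range (Fin.append e₁ e₂) = Set.range e₁ ∪ Set.range e₂ from ?_, hr₁, hr₂, Set.inter_union_sdiff]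
    ext c
    simp only [Set.mem_range, Set.mem_union]
    constructor
    · rintro ⟨k, rfl⟩
      induction k using Fin.addCases with
      | left k => exact Or.inl ⟨k, (Fin.append_left e₁ e₂ k).symm⟩
      | right k => exact Or.inr ⟨k, (Fin.append_right e₁ e₂ k).symm⟩
    · rintro (⟨k, rfl⟩ | ⟨k, rfl⟩)
      exacts [⟨_, Fin.append_left e₁ e₂ k⟩, ⟨_, Fin.append_right e₁ e₂ k⟩]
  obtain ⟨x, rfl⟩ := (mem_Ug_iff D g hΨ _ hinj hr).mp hz
  refine ⟨uProd g D e₁ fun k => x (Fin.castAdd m₂ k),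
    uProd_mem_Ug D g (fun k => hr₁ ▸ ⟨k, rfl⟩) _, uProd g D e₂ fun k => x (Fin.natAdd m₁ k),
    uProd_mem_Ug D g (fun k => hr₂ ▸ ⟨k, rfl⟩) _, ?_⟩
  rw [uProd, uProd, uProd, ← List.prod_append, ← List.ofFn_fin_append]
  congr 2
  funext k
  induction k using Fin.addCases with
  | left k => rw [Fin.append_left, Fin.append_left]
  | right k => rw [Fin.append_right, Fin.append_right]

variable [D.P.IsReduced]

/-- the Bruhat set of a word -/
def BCell (l : List D.idx) : Set (pt g R ⟶ G) :=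
  {z | ∃ p ∈ Bp D b g, ∃ q ∈ Bp D b g, p * sec g (nW D l) * q = z}

/-- the union of the Bruhat sets -/
def BU : Set (pt g R ⟶ G) := {z | ∃ l : List D.idx, (∀ a ∈ l, a ∈ b.support) ∧ z ∈ BCell D b g l}

theorem BU_left {p z : pt g R ⟶ G} (hp : p ∈ Bp D b g) (hz : z ∈ BU D b g) : p * z ∈ BU D b g := by
  obtain ⟨l, hl, p', hp', q, hq, rfl⟩ := hz
  exact ⟨l, hl, p * p', mul_mem hp hp', q, hq, by group⟩

theorem BU_right {q z : pt g R ⟶ G} (hq : q ∈ Bp D b g) (hz : z ∈ BU D b g) : z * q ∈ BU D b g := by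
  obtain ⟨l, hl, p, hp, q', hq', rfl⟩ := hz
  exact ⟨l, hl, p, hp, q' * q, mul_mem hq' hq, by group⟩

theorem sec_sq_mem (a : D.idx) : sec g (nS D a) * sec g (nS D a) ∈ Tg D g := by
  have h := (rl_of_acts (acts_nS D a)).mul (rl_of_acts (acts_nS D a))
  rw [H21Root.sr_mul_self] at h
  obtain ⟨t, ht⟩ := exists_torus_of_rl h (n' := 1) (by rw [inv_one, inv_one]; exact rl_one)
  rw [← sec_mul, ht, _root_.one_mul]
  exact sec_torus D g t

theorem conj_nW_inv (l : List D.idx) (c : D.idx) (x : R) :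
    ∃ y, uPt g D c x * sec g (nW D l) = sec g (nW D l) * uPt g D ((wl D.P l)⁻¹ • c) y := by
  obtain ⟨y, hy⟩ := (rl_nW_inv D l).conj_uPt D g c x
  refine ⟨y, ?_⟩
  rw [← hy, GrpObj.comp_inv]
  group

theorem conj_nS (a c : D.idx) (x : R) :
    ∃ y, sec g (nS D a) * uPt g D c x = uPt g D (D.P.reflectionPerm a c) y * sec g (nS D a) := by
  obtain ⟨y, hy⟩ := (rl_of_acts (acts_nS D a)).conj_uPt D g c x
  rw [H21Root.sr_smul] at hy
  exact ⟨y, by rw [← hy]; group⟩

theorem nW_cons (a : D.idx) (l : List D.idx) : sec g (nW D (a :: l)) = sec g (nS D a) * sec g (nW D l) := by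
  rw [nW, List.map_cons, List.prod_cons, sec_mul]; rfl

end Ring

variable {K : Type u} [Field K] (g : Spec (CommRingCat.of K) ⟶ S) [D.P.IsReduced]

theorem regroup_nn {H : Type*} [Group H] (n w x l : H) : n * w * (x * l) = n * w * n⁻¹ * (n * x * l) := by group

set_option maxHeartbeats 1600000 in
/-- the reflection of a simple root times a root element times a word -/
theorem step_aux {a : D.idx} (ha : a ∈ b.support) {l : List D.idx} (hl : ∀ c ∈ l, c ∈ b.support) (x : K) :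
    sec g (nS D a) * uPt g D a x * sec g (nW D l) ∈ BU D b g := by
  set n := sec g (nS D a)
  set N := sec g (nW D l)
  have hal : ∀ c ∈ a :: l, c ∈ b.support := fun c hc => by
    rcases List.mem_cons.mp hc with rfl | hc
    exacts [ha, hl c hc]
  have hne : ∀ {q : pt g K ⟶ G}, q ∈ Bp D b g → n * N * q ∈ BU D b g := fun {q} hq =>
    ⟨a :: l, hal, 1, one_mem _, q, hq, by rw [nW_cons, _root_.one_mul]⟩
  by_cases hc : (wl D.P l)⁻¹ • a ∈ Δp
  · obtain ⟨y, hy⟩ := conj_nW_inv D g l a x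
    rw [_root_.mul_assoc, hy, ← _root_.mul_assoc]
    exact hne (uPt_mem_Bp D b g hc _)
  rcases eq_or_ne x 0 with rfl | hx
  · rw [uPt_zero, _root_.mul_one]
    simpa using hne (one_mem _)
  -- a non-zero coordinate
  obtain ⟨y, hy⟩ := conj_nS D g a a x
  have hy0 : y ≠ 0 := by
    rintro rfl
    rw [uPt_zero, _root_.one_mul] at hy
    exact hx (uPt_injective g D a ((mul_eq_left.mp hy).trans (uPt_zero g D a).symm))
  obtain ⟨f, hf⟩ := exists_uPt_opp D a g y
  have hfu : IsUnit f := (H21Rank1.field_zero_or_unit (Scheme.ΓSpecIso (CommRingCat.of K)) f).resolve_left fun e =>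
    hy0 (uPt_injective g D (opp D.P a) (by rw [hf, e, H21Rank1.R1.N_zero, uPt_zero]))
  obtain ⟨p, hp, t, ht, q, hq, hw⟩ := exists_neg_word D a g hfu.unit
  rw [IsUnit.unit_spec, ← hf] at hw
  obtain ⟨s, rfl⟩ := (mem_Ur D g).mp hq
  obtain ⟨s', hs'⟩ := conj_nS D g a a s
  rw [show uPt g D (D.P.reflectionPerm a a) y = uPt g D (opp D.P a) y from rfl] at hy
  rw [show uPt g D (D.P.reflectionPerm a a) s' = uPt g D (opp D.P a) s' from rfl] at hs'
  have ht2 := sec_sq_mem D g a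
  obtain ⟨χ, hχ⟩ := ht2
  have e : n * uPt g D a x * N = p * t * (uPt g D (opp D.P a) s' * (tPt g D χ * N)) := by
    rw [hy, hw, show p * (t * sec g (nS D a)) * uPt g D a s * sec g (nS D a) * N =
      p * t * (sec g (nS D a) * uPt g D a s) * sec g (nS D a) * N by group, hs', hχ]
    group
  rw [e]
  obtain ⟨χi, hχi⟩ := exists_tPt_inv D g χ
  obtain ⟨s'', hs''⟩ : ∃ s'', uPt g D (opp D.P a) s' * tPt g D χ = tPt g D χ * uPt g D (opp D.P a) s'' := by
    refine ⟨χi (Multiplicative.ofAdd (D.P.root (opp D.P a))) * s', ?_⟩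
    rw [← tPt_conj, hχi]
    group
  obtain ⟨s3, hs3⟩ := conj_nW_inv D g l (opp D.P a) s''
  have e2 : uPt g D (opp D.P a) s' * (tPt g D χ * N) =
      tPt g D χ * N * uPt g D ((wl D.P l)⁻¹ • opp D.P a) s3 := by
    rw [← _root_.mul_assoc, hs'', _root_.mul_assoc, hs3, ← _root_.mul_assoc]
  rw [e2]
  have hpB : p ∈ Bp D b g := by
    obtain ⟨s, rfl⟩ := (mem_Ur D g).mp hp
    exact uPt_mem_Bp D b g (simple_mem_pos D b ha) s
  refine BU_left D b g (mul_mem hpB (Tg_le_Bp D b g ht)) ⟨l, hl, tPt g D χ, Tg_le_Bp D b g (tPt_mem_Tg D g χ),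
    _, uPt_mem_Bp D b g ?_ s3, rfl⟩
  rw [smul_opp, ← opp_neg_iff D b, opp_opp']
  exact (mem_pos_or_neg b _).resolve_left hc

/-- the union is stable under the simple reflection sections -/
theorem BU_nS {a : D.idx} (ha : a ∈ b.support) {z : pt g K ⟶ G} (hz : z ∈ BU D b g) :
    sec g (nS D a) * z ∈ BU D b g := by
  obtain ⟨l, hl, p, hp, q, hq, rfl⟩ := hz
  obtain ⟨t, ht, u, hu, rfl⟩ := (mem_TU D g).mp hp
  obtain ⟨x, w, hw, rfl⟩ := (mem_pos_split D b g ha).mp hu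
  set n := sec g (nS D a)
  set ua := uPt g D a x
  have hw' : ua * w * ua⁻¹ ∈ Ug D g (Δp \ {a}) := (conj_pos_mem D b g ha hw x).1
  have e : n * (t * (ua * w) * sec g (nW D l) * q) =
      (n * t * n⁻¹) * (n * (ua * w * ua⁻¹) * n⁻¹) * (n * ua * sec g (nW D l)) * q := by group
  rw [e]
  refine BU_right D b g hq (BU_left D b g (mul_mem (Tg_le_Bp D b g ?_) (Ug_le_Bp D b g ?_)) (step_aux D b g ha hl x))
  · exact (rl_of_acts (acts_nS D a)).conj_Tg D g ht
  · refine (rl_of_acts (acts_nS D a)).conj_Ug D g (Φ := Δp) (fun c hc => ?_) hw'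
    rw [H21Root.sr_smul]
    exact refl_simple_pos D b ha hc.1 hc.2

theorem one_mem_BU : (1 : pt g K ⟶ G) ∈ BU D b g :=
  ⟨[], by simp, 1, one_mem _, 1, one_mem _, by simp [nW, sec]⟩

/-- the elements preserving the union -/
def stabBU : Subgroup (pt g K ⟶ G) where
  carrier := {h | ∀ z, z ∈ BU D b g → h * z ∈ BU D b g ∧ h⁻¹ * z ∈ BU D b g}
  one_mem' := fun z hz => by simp [hz]
  mul_mem' := fun {h h'} hh hh' z hz => by
    rw [_root_.mul_assoc, _root_.mul_inv_rev, _root_.mul_assoc]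
    exact ⟨(hh _ (hh' z hz).1).1, (hh' _ (hh z hz).2).2⟩
  inv_mem' := fun {h} hh z hz => by rw [_root_.inv_inv]; exact (hh z hz).symm

theorem Bp_le_stabBU : Bp D b g ≤ stabBU D b g := fun _ hp _ hz =>
  ⟨BU_left D b g hp hz, BU_left D b g (inv_mem hp) hz⟩

theorem nS_mem_stabBU {a : D.idx} (ha : a ∈ b.support) : sec g (nS D a) ∈ stabBU D b g := fun z hz => by
  refine ⟨BU_nS D b g ha hz, ?_⟩
  have h2 := BU_left D b g (Tg_le_Bp D b g (inv_mem (sec_sq_mem D g a))) (BU_nS D b g ha hz)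
  rwa [show (sec g (nS D a) * sec g (nS D a))⁻¹ * (sec g (nS D a) * z) = (sec g (nS D a))⁻¹ * z by group] at h2

theorem nW_mem_stabBU : ∀ l : List D.idx, (∀ a ∈ l, a ∈ b.support) → sec g (nW D l) ∈ stabBU D b g
  | [], _ => by simp [nW, sec, one_mem]
  | a :: l, h => by
    rw [nW_cons]
    exact mul_mem (nS_mem_stabBU D b g (h a List.mem_cons_self))
      (nW_mem_stabBU l fun c hc => h c (List.mem_cons_of_mem a hc))

theorem uPt_mem_stabBU (c : D.idx) (x : K) : uPt g D c x ∈ stabBU D b g := by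
  haveI := D.fintypeIdx
  haveI : Finite D.idx := Finite.of_fintype _
  by_cases hc : c ∈ Δp
  · exact Bp_le_stabBU D b g (uPt_mem_Bp D b g hc x)
  obtain ⟨w₀, a, ha, hw₀, hwa⟩ : ∃ l a, a ∈ b.support ∧ (∀ d ∈ l, d ∈ b.support) ∧ wl D.P l • a = c := by
    have hind : RootD.IsIndiv D.P c := fun j hj => by
      refine two_smul_notMem D j ⟨c, ?_⟩
      rw [← hj]
    obtain ⟨w, hw, a, ha, h⟩ := (H21Root.simpleZ_base (P := D.P) b).exists_smul_eq hind
    obtain ⟨l, hl, rfl⟩ := H21Root.exists_word D.P hw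
    exact ⟨l, a, ha, hl, h⟩
  obtain ⟨y, hy⟩ := conj_nW_inv D g w₀ c x
  rw [← hwa, inv_smul_smul, hwa] at hy
  rw [show uPt g D c x = sec g (nW D w₀) * uPt g D a y * (sec g (nW D w₀))⁻¹ from eq_mul_inv_iff_mul_eq.mpr hy]
  exact mul_mem (mul_mem (nW_mem_stabBU D b g w₀ hw₀) (Bp_le_stabBU D b g (uPt_mem_Bp D b g (simple_mem_pos D b ha) y)))
    (inv_mem (nW_mem_stabBU D b g w₀ hw₀))

theorem Om_subset_stabBU {z : pt g K ⟶ G} (hz : z ∈ Om D g b) : z ∈ stabBU D b g := by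
  obtain ⟨v, hv, t, ht, w, hw, rfl⟩ := hz
  refine mul_mem (mul_mem ?_ (Bp_le_stabBU D b g (Tg_le_Bp D b g ht))) (Bp_le_stabBU D b g (Ug_le_Bp D b g hw))
  exact Ug_le D g (fun c _ x => uPt_mem_stabBU D b g c x) hv

/-- a Bruhat set lies in a translate of the big cell -/
theorem BCell_subset {l : List D.idx} {z : pt g K ⟶ G} (hz : z ∈ BCell D b g l) :
    (sec g (nW D l))⁻¹ * z ∈ Om D g b := by
  obtain ⟨p, hp, q, hq, rfl⟩ := hz
  obtain ⟨t, ht, u, hu, rfl⟩ := (mem_TU D g).mp hp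
  set N := sec g (nW D l)
  obtain ⟨u1, hu1, u2, hu2, rfl⟩ :=
    mem_Ug_split D g (A := {c | (wl D.P l)⁻¹ • c ∈ Δn}) (isPosSet_posRoots b) hu
  have key : ∀ {Φ A : Set D.idx}, (∀ c ∈ A, (wl D.P l)⁻¹ • c ∈ Φ) → ∀ {w : pt g K ⟶ G}, w ∈ Ug D g A →
      N⁻¹ * w * N ∈ Ug D g Φ := fun h w hw => by
    have := (rl_nW_inv D l).conj_Ug D g h hw
    rwa [sec_inv, _root_.inv_inv] at this
  have h1 : N⁻¹ * u1 * N ∈ Ug D g Δn := key (fun c hc => hc.2) hu1
  have h2 : N⁻¹ * u2 * N ∈ Ug D g Δp := key (fun c hc => (mem_pos_or_neg b _).resolve_right hc.2) hu2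
  have ht' : N⁻¹ * t * N ∈ Tg D g := by
    have := (rl_nW_inv D l).conj_Tg D g ht
    rwa [sec_inv, _root_.inv_inv] at this
  have e : N⁻¹ * (t * (u1 * u2) * N * q) = (N⁻¹ * t * N) * ((N⁻¹ * u1 * N) * ((1 : pt g K ⟶ G) * (N⁻¹ * u2 * N * q))) := by
    group
  rw [e]
  exact Om_tg_left D b g ht' (Om_neg_left D b g h1
    (Om_bp_right D b g (mul_mem (Ug_le_Bp D b g h2) hq) (one_mem_Om D b g)))

end Groth.Agent.H21Split
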