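import Groth.Agent.H21Split.Bru.CellPrime
import Groth.Agent.H21Split.HomExt

/-!
Products landing in the big cell have the expected component modulo coroots.
-/

open CategoryTheory MonoidalCategory CartesianMonoidalCategory MonObj GrpObj AlgebraicGeometry

universe u

set_option backward.isDefEq.respectTransparency false
set_option linter.style.haveILetI false
set_option linter.unusedSectionVars false
set_option synthInstance.maxHeartbeats 400000

noncomputable section

namespace Groth.Agent.H21Split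

theorem kill_conj {C : Type*} [Category C] [CartesianMonoidalCategory C] {X G H : C} [GrpObj G] [GrpObj H] (f : G ⟶ H)
    [IsMonHom f] (w z : X ⟶ G) (h : z ≫ f = 1) : (w * z * w⁻¹) ≫ f = 1 := by
  rw [MonObj.mul_comp, MonObj.mul_comp, h, _root_.mul_one, ← MonObj.mul_comp, mul_inv_cancel, MonObj.one_comp]

theorem kill_mul {C : Type*} [Category C] [CartesianMonoidalCategory C] {X G H : C} [GrpObj G] [GrpObj H] (f : G ⟶ H)
    [IsMonHom f] (x y : X ⟶ G) (hx : x ≫ f = 1) (hy : y ≫ f = 1) : (x * y) ≫ f = 1 := by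
  rw [MonObj.mul_comp, hx, hy, _root_.mul_one]

theorem eq_mul_of_cell {C : Type*} [Category C] [CartesianMonoidalCategory C] {X G H : C} [GrpObj G] [GrpObj H]
    (f : G ⟶ H) [IsMonHom f] {z x y : X ⟶ G} {a b c : X ⟶ H} (h : z = x * y) (ha : z ≫ f = a) (hb : x ≫ f = b)
    (hc : y ≫ f = c) : a = b * c := by
  rw [← ha, ← hb, ← hc, h, MonObj.mul_comp]

/-- the open set on which a morphism to the group factors through the big cell -/
theorem exists_lift_range {S : Scheme.{u}} {P G C : Over S} (F : P ⟶ G) (c : C ⟶ G) [IsOpenImmersion c.left]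
    {X : Over S} (j : X ⟶ P) (h : Set.range j.left.base ⊆ F.left.base ⁻¹' Set.range c.left.base) :
    ∃ z, z ≫ c = j ≫ F := H21Rank1.exists_lift_of_range_subset c _ (by
  rintro _ ⟨s, rfl⟩
  exact h ⟨s, rfl⟩)

variable {S : Scheme.{u}} {G : Over S} [GrpObj G] (D : Red.SplitRed G) (b : D.P.Base) {N : AddSubgroup D.M}
  (hN : ∀ x : D.M, x ∈ N ↔ ∀ c : D.idx, D.P.coroot c x = 0) {n m : ℕ} (en : Fin n → D.idx) (ep : Fin m → D.idx)
include b hN

/-- a product of root groups in the big cell lies in the smaller cell -/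
theorem prime_of_prod {X : Over S} (x : X ⟶ RedSub.pow (Red.Ga S) m) (v : X ⟶ RedSub.pow (Red.Ga S) n)
    (y : X ⟶ RedSub.pow (Red.Ga S) n ⊗ (D.T ⊗ RedSub.pow (Red.Ga S) m))
    (h : y ≫ RedSub.cellMap D en ep = (x ≫ RedSub.prodMap (Red.Ga S) m (fun k => D.u (ep k))) *
      (v ≫ RedSub.prodMap (Red.Ga S) n (fun k => D.u (en k)))) :
    ∃ g', y ≫ RedSub.cellMap D en ep = g' ≫ cellPrime D N en ep := by
  haveI := isReduced' D b
  obtain ⟨f, hf, hi, hu⟩ := exists_corad D b fun x hx => (hN x).mp hx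
  haveI := hf
  refine exists_prime D N en ep y ((cell_corad D en ep hi hu y).symm.trans ?_)
  rw [h]
  exact kill_mul f _ _ (prodMap_kill D hu ep x) (prodMap_kill D hu en v)

/-- a conjugate of a point of the smaller cell which is in the big cell lies in the smaller cell -/
theorem prime_of_conj {X : Over S} (w : X ⟶ G)
    (g : X ⟶ RedSub.pow (Red.Ga S) n ⊗ (Red.DS S (D.M ⧸ N) ⊗ RedSub.pow (Red.Ga S) m))
    (y : X ⟶ RedSub.pow (Red.Ga S) n ⊗ (D.T ⊗ RedSub.pow (Red.Ga S) m))
    (h : w * (g ≫ cellPrime D N en ep) * w⁻¹ = y ≫ RedSub.cellMap D en ep) :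
    ∃ g', w * (g ≫ cellPrime D N en ep) * w⁻¹ = g' ≫ cellPrime D N en ep := by
  haveI := isReduced' D b
  obtain ⟨f, hf, hi, hu⟩ := exists_corad D b fun x hx => (hN x).mp hx
  haveI := hf
  obtain ⟨g', hg'⟩ := exists_prime D N en ep y ((cell_corad D en ep hi hu y).symm.trans (by
    rw [← h]
    exact kill_conj f w _ (cellPrime_kill D N en ep hi hu (mk'_coradT D N) g)))
  exact ⟨g', h.trans hg'⟩

/-- the component modulo coroots is multiplicative on the big cell -/
theorem corad_mul {X : Over S} (z x y : X ⟶ RedSub.pow (Red.Ga S) n ⊗ (D.T ⊗ RedSub.pow (Red.Ga S) m))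
    (h : z ≫ RedSub.cellMap D en ep = (x ≫ RedSub.cellMap D en ep) * (y ≫ RedSub.cellMap D en ep)) :
    (z ≫ snd _ _ ≫ fst _ _) ≫ coradT D N =
      ((x ≫ snd _ _ ≫ fst _ _) ≫ coradT D N) * ((y ≫ snd _ _ ≫ fst _ _) ≫ coradT D N) := by
  haveI := isReduced' D b
  obtain ⟨f, hf, hi, hu⟩ := exists_corad D b fun x hx => (hN x).mp hx
  haveI := hf
  exact eq_mul_of_cell f h (cell_corad D en ep hi hu z) (cell_corad D en ep hi hu x) (cell_corad D en ep hi hu y)

end Groth.Agent.H21Split
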