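import Groth.Agent.H21Split.Bru.Bruhat
import Groth.Agent.H21Rank1.Generate

/-!
Every point of a split group lies in a Bruhat set.
-/

open CategoryTheory MonoidalCategory CartesianMonoidalCategory MonObj GrpObj AlgebraicGeometry
open Groth.Agent.H21Root (opp root_opp sr wl wl_cons)

universe u

set_option backward.isDefEq.respectTransparency false
set_option linter.style.haveILetI false
set_option linter.unusedSectionVars false
set_option synthInstance.maxHeartbeats 400000

noncomputable section

namespace Groth.Agent.H21Split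

variable {S : Scheme.{u}} {G : Over S} [GrpObj G] (D : Red.SplitRed G) (b : D.P.Base)

include b in
theorem isReduced' : D.P.IsReduced := by
  haveI := D.fintypeIdx
  haveI : Finite D.idx := Finite.of_fintype _
  exact isReduced_of_base D.P b

variable [D.P.IsReduced]

/-- a point of a split group lies on a field valued point in a product of two cells, and in a Bruhat set -/
theorem exists_point_BU (p : ↥G.left) :
    ∃ (K : Type u) (_ : Field K) (g : Spec (CommRingCat.of K) ⟶ S) (j : pt g K ⟶ G),
      (∀ s, j.left.base s = p) ∧ (∃ a ∈ Om D g b, ∃ a' ∈ Om D g b, a * a' = j) ∧ j ∈ BU D b g := by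
  haveI := smooth_hom D
  haveI := H21Rank1.geometricallyIrreducible_of_isReductive D.reductive
  obtain ⟨n, en, hen⟩ := exists_enum D (RedSub.negRoots D.P b)
  obtain ⟨m, ep, hep⟩ := exists_enum D (RedSub.posRoots D.P b)
  obtain ⟨hD, hbij⟩ := isCellData_of_base D b hen hep
  haveI := isOpenImmersion_cellMap D en ep hD hbij
  obtain ⟨K₀, _, g₀, j₀, hj₀⟩ := exists_field_point G p
  obtain ⟨Y, q, a, a', hq, hq', ha, ha', hab⟩ := H21Rank1.exists_split (G := G)
    (RedSub.cellMap D en ep).left.opensRange (eta_mem_range D en ep) j₀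
  haveI := hq'
  obtain ⟨y, -⟩ := q.left.surjective (IsLocalRing.closedPoint K₀)
  obtain ⟨K, _, g, j, hj⟩ := exists_field_point Y y
  obtain ⟨za, hza⟩ := H21Rank1.exists_lift_of_range_subset (RedSub.cellMap D en ep) a ha
  obtain ⟨za', hza'⟩ := H21Rank1.exists_lift_of_range_subset (RedSub.cellMap D en ep) a' ha'
  have h1 : j ≫ a ∈ Om D g b := (mem_Om_iff_lift D g hen hep).mpr ⟨j ≫ za, by rw [Category.assoc, hza]⟩
  have h2 : j ≫ a' ∈ Om D g b := (mem_Om_iff_lift D g hen hep).mpr ⟨j ≫ za', by rw [Category.assoc, hza']⟩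
  have e : (j ≫ a) * (j ≫ a') = j ≫ q ≫ j₀ := by rw [hab, MonObj.comp_mul]
  refine ⟨K, inferInstance, g, j ≫ q ≫ j₀, fun s => hj₀ (q.left (j.left s)), ⟨_, h1, _, h2, e⟩, ?_⟩
  rw [← e]
  have := ((mul_mem (Om_subset_stabBU D b g h1) (Om_subset_stabBU D b g h2)) 1 (one_mem_BU D b g)).1
  rwa [_root_.mul_one] at this

/-- the chosen sections of the simple words give a cover by translates of the big cell -/
theorem exists_translate_nW {n m : ℕ} {en : Fin n → D.idx} {ep : Fin m → D.idx}
    (hneg : RedSub.Enumerates (RedSub.negRoots D.P b) en) (hpos : RedSub.Enumerates (RedSub.posRoots D.P b) ep)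
    (p : ↥G.left) : ∃ l : List D.idx, (∀ a ∈ l, a ∈ b.support) ∧
      p ∈ Set.range ((toUnit _ ≫ nW D l) * RedSub.cellMap D en ep).left.base := by
  obtain ⟨K, _, g, j, hj, -, l, hl, hjl⟩ := exists_point_BU D b p
  exact ⟨l, hl, mem_range_translate D hneg hpos hj (BCell_subset D b g hjl)⟩

/-- any family realising the reflections gives a cover -/
theorem exists_translate_realises {n m : ℕ} {en : Fin n → D.idx} {ep : Fin m → D.idx}
    (hneg : RedSub.Enumerates (RedSub.negRoots D.P b) en) (hpos : RedSub.Enumerates (RedSub.posRoots D.P b) ep)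
    {nr : D.idx → (𝟙_ (Over S) ⟶ G)} (hnr : RedSub.RealisesReflections D nr) (p : ↥G.left) :
    ∃ l : List D.idx, p ∈ Set.range ((toUnit _ ≫ (l.map nr).prod) * RedSub.cellMap D en ep).left.base := by
  obtain ⟨K, _, g, j, hj, -, l, hl, hjl⟩ := exists_point_BU D b p
  refine ⟨l, mem_range_translate D hneg hpos hj ?_⟩
  obtain ⟨t, ht⟩ := exists_torus_of_rl (rl_nW D l) (rl_prod_inv (nr := nr) l fun a _ => acts_of_realises D hnr a)
  have h1 := BCell_subset D b g hjl
  rw [ht, sec_mul] at h1
  have h2 := Om_tg_left D b g (sec_torus D g t) h1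
  rwa [show sec g (t ≫ D.i) * ((sec g (l.map nr).prod * sec g (t ≫ D.i))⁻¹ * j) = (sec g (l.map nr).prod)⁻¹ * j by
    group] at h2

end Groth.Agent.H21Split
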