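import Groth.Agent.H21Split.Bru.Unique

/-!
The Bruhat decomposition.
-/

open CategoryTheory MonoidalCategory CartesianMonoidalCategory MonObj GrpObj AlgebraicGeometry
open Groth.Agent.H21Root (opp root_opp sr wl wl_cons wl_append smul_opp)

universe u

set_option backward.isDefEq.respectTransparency false
set_option linter.style.haveILetI false
set_option linter.unusedSectionVars false
set_option synthInstance.maxHeartbeats 400000

noncomputable section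

namespace Groth.Agent.H21Split

variable {S : Scheme.{u}} {G : Over S} [GrpObj G] (D : Red.SplitRed G) (b : D.P.Base)

local notation "Δp" => RedSub.posRoots D.P b
local notation "Δn" => RedSub.negRoots D.P b

theorem mem_negMeetNeg (l : List D.idx) (c : D.idx) :
    c ∈ RedSub.negMeetNeg D.P b (RedSub.wordPerm D.P l) ↔ c ∈ Δn ∧ (wl D.P l)⁻¹ • c ∈ Δn := by
  haveI := D.fintypeIdx
  haveI : Finite D.idx := Finite.of_fintype _
  rw [RedSub.negMeetNeg, Set.mem_ofPred_eq, H21Root.wordPerm_symm_apply]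

variable {K : Type u} [Field K] (g : Spec (CommRingCat.of K) ⟶ S)

theorem comp_bruhatMap {nr : D.idx → (𝟙_ (Over S) ⟶ G)} {l : List D.idx} {k m : ℕ} (e : Fin k → D.idx)
    (ep : Fin m → D.idx) (z : pt g K ⟶ RedSub.pow (Red.Ga S) k ⊗ (D.T ⊗ RedSub.pow (Red.Ga S) m)) :
    z ≫ RedSub.bruhatMap D nr l e ep = uProd g D e (gvs g (z ≫ fst _ _)) *
      (sec g (l.map nr).prod * (((z ≫ snd _ _ ≫ fst _ _) ≫ D.i) * uProd g D ep (gvs g (z ≫ snd _ _ ≫ snd _ _)))) := by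
  rw [RedSub.bruhatMap, MonObj.comp_mul, MonObj.comp_mul, MonObj.comp_mul, ← Category.assoc z (toUnit _),
    toUnit_unique (z ≫ toUnit _) (toUnit _), ← comp_prodMap_u, ← comp_prodMap_u]
  simp only [Category.assoc]

variable [D.P.IsReduced]

theorem conj_back {n : 𝟙_ (Over S) ⟶ G} {σ : D.P.Aut} (h : Rl D n⁻¹ σ) {Ψ Φ : Set D.idx}
    (hΦ : ∀ c ∈ Ψ, σ • c ∈ Φ) {z : pt g K ⟶ G} (hz : z ∈ Ug D g Ψ) :
    (sec g n)⁻¹ * z * sec g n ∈ Ug D g Φ := by
  have := h.conj_Ug D g hΦ hz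
  rwa [sec_inv, _root_.inv_inv] at this

theorem conj_back_T {n : 𝟙_ (Over S) ⟶ G} {σ : D.P.Aut} (h : Rl D n⁻¹ σ) {z : pt g K ⟶ G} (hz : z ∈ Tg D g) :
    (sec g n)⁻¹ * z * sec g n ∈ Tg D g := by
  have := h.conj_Tg D g hz
  rwa [sec_inv, _root_.inv_inv] at this

theorem cell_algebra {H : Type*} [Group H] {v1 v2 Nr τ N N0 t u n1 q : H} (hN' : Nr * τ = N)
    (hv : v1 * v2 = N0 * t * N0⁻¹ * (N0 * u * N0⁻¹) * (N0 * t * N0⁻¹)⁻¹) (hN : N = N0 * n1) :
    v1 * (Nr * (τ * (N⁻¹ * v2 * N * (N⁻¹ * (N0 * t * N0⁻¹) * N) * q))) = N0 * (t * u * n1 * q) := by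
  calc _ = v1 * ((Nr * τ) * (N⁻¹ * v2 * N * (N⁻¹ * (N0 * t * N0⁻¹) * N) * q)) := by group
    _ = (v1 * v2) * (N0 * t * N0⁻¹) * N * q := by rw [hN']; group
    _ = _ := by rw [hv, hN]; group

/-- assembling a cell point -/
theorem mem_range_bruhatMap {nr : D.idx → (𝟙_ (Over S) ⟶ G)} {m : ℕ} {ep : Fin m → D.idx}
    (hpos : RedSub.Enumerates (RedSub.posRoots D.P b) ep) {l : List D.idx} {k : ℕ} {e : Fin k → D.idx} {jx : pt g K ⟶ G} {x : ↥G.left}
    (hjx : ∀ s, jx.left.base s = x) {q' : pt g K ⟶ G} (hq' : q' ∈ Bp D b g) (v : Fin k → K)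
    (h : jx = uProd g D e v * (sec g (l.map nr).prod * q')) :
    x ∈ Set.range (RedSub.bruhatMap D nr l e ep).left.base := by
  obtain ⟨t₁, ht₁, u₁, hu₁, rfl⟩ := (mem_TU D g).mp hq'
  obtain ⟨y, rfl⟩ := (mem_Ug_iff D g (isPosSet_posRoots b) ep hpos.1 hpos.2).mp hu₁
  obtain ⟨χ, rfl⟩ := ht₁
  refine mem_range_of_eq _ hjx (lift (gas g v) (lift (ds g χ ≫ D.split.inv.hom.hom) (gas g y))) ?_
  rw [comp_bruhatMap, h, tPt]
  simp only [lift_fst, lift_snd_assoc, lift_snd, gvs_gas, Category.assoc]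

variable {nr : D.idx → (𝟙_ (Over S) ⟶ G)} (hnr : RedSub.RealisesReflections D nr) {m : ℕ} {ep : Fin m → D.idx}
  (hpos : RedSub.Enumerates (RedSub.posRoots D.P b) ep)
include hnr hpos

set_option maxHeartbeats 1600000 in
/-- every point lies in a cell -/
theorem exists_cell_point (x : ↥G.left) : ∃ (l : List D.idx) (k : ℕ) (e : Fin k → D.idx),
    RedSub.Enumerates (RedSub.negMeetNeg D.P b (RedSub.wordPerm D.P l)) e ∧
      x ∈ Set.range (RedSub.bruhatMap D nr l e ep).left.base := by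
  obtain ⟨l₀, hl₀⟩ := exists_longest D b
  let L : G ⟶ G := (toUnit G ≫ (nW D l₀)⁻¹) * 𝟙 G
  let L' : G ⟶ G := (toUnit G ≫ nW D l₀) * 𝟙 G
  obtain ⟨K, _, g, j, hj, -, l₁, -, hjl⟩ := exists_point_BU D b (L.left x)
  have hj' : ∀ s, (j ≫ L').left.base s = x := fun s => by
    have e : L ≫ L' = 𝟙 G := by
      rw [MonObj.comp_mul, Category.comp_id, ← Category.assoc, toUnit_unique (L ≫ toUnit G) (toUnit G),
        ← _root_.mul_assoc, ← MonObj.comp_mul, mul_inv_cancel, MonObj.comp_one, _root_.one_mul]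
    rw [show (j ≫ L').left.base s = L'.left (j.left.base s) from rfl, hj s]
    exact congrArg (fun f : G ⟶ G => f.left x) e
  have hL' : j ≫ L' = sec g (nW D l₀) * j := by
    rw [MonObj.comp_mul, Category.comp_id, ← Category.assoc, toUnit_unique (j ≫ toUnit G) (toUnit _)]
  obtain ⟨p, hp, q, hq, rfl⟩ := hjl
  obtain ⟨t, ht, u, hu, rfl⟩ := (mem_TU D g).mp hp
  set l := l₀ ++ l₁
  obtain ⟨k, e, he, hrange⟩ := exists_enum D (RedSub.negMeetNeg D.P b (RedSub.wordPerm D.P l))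
  refine ⟨l, k, e, ⟨he, hrange⟩, ?_⟩
  obtain ⟨τ, hτ⟩ := exists_torus_of_rl (rl_nW D l) (rl_prod_inv (nr := nr) l fun a _ => acts_of_realises D hnr a)
  set N₀ := sec g (nW D l₀)
  set N := sec g (nW D l)
  have hN : N = N₀ * sec g (nW D l₁) := by
    simp only [N, N₀, l, nW, List.map_append, List.prod_append, sec_mul]
  have hN' : N = sec g (l.map nr).prod * sec g (τ ≫ D.i) := by rw [← sec_mul, ← hτ]
  have hu' : N₀ * u * N₀⁻¹ ∈ Ug D g Δn := (rl_nW D l₀).conj_Ug D g (fun c hc => (hl₀ c).mpr hc) hu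
  have ht' : N₀ * t * N₀⁻¹ ∈ Tg D g := (rl_nW D l₀).conj_Tg D g ht
  obtain ⟨v1, hv1, v2, hv2, hv⟩ := mem_Ug_split D g (A := {c | (wl D.P l)⁻¹ • c ∈ Δn}) (isPosSet_negRoots b)
    (Tg_conj_mem D g ht' hu')
  have hv2' : N⁻¹ * v2 * N ∈ Bp D b g := Ug_le_Bp D b g
    (conj_back D g (rl_nW_inv D l) (fun c hc => (mem_pos_or_neg b _).resolve_right hc.2) hv2)
  have hT : N⁻¹ * (N₀ * t * N₀⁻¹) * N ∈ Bp D b g := Tg_le_Bp D b g (conj_back_T D g (rl_nW_inv D l) ht')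
  obtain ⟨v, rfl⟩ : ∃ y, uProd g D e y = v1 := by
    refine (mem_Ug_iff D g ?_ e he hrange).mp ?_
    · exact ⟨fun c d f hc hd h => by
        rw [mem_negMeetNeg] at hc hd ⊢
        refine ⟨(isPosSet_negRoots b).closed c d f hc.1 hd.1 h, (isPosSet_negRoots b).closed _ _ _ hc.2 hd.2 ?_⟩
        rw [H21Root.root_smul, H21Root.root_smul, H21Root.root_smul, ← smul_add, h],
        fun c d hc h hd => by
          rw [mem_negMeetNeg] at hc hd
          exact (isPosSet_negRoots b).noNeg c d hc.1 h hd.1⟩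
    · exact Ug_mono D g (fun c hc => (mem_negMeetNeg D b l c).mpr hc) hv1
  have hq' := mul_mem (Tg_le_Bp D b g (sec_torus D g τ)) (mul_mem (mul_mem hv2' hT) hq)
  have key := @mem_range_bruhatMap S G _ D b K _ g _ nr m ep hpos l k e
  refine key (jx := _ ≫ L') hj' hq' v ?_
  rw [hL']
  exact (cell_algebra hN'.symm hv hN).symm

set_option maxHeartbeats 1600000 in
theorem wl_eq_of_common (l l' : List D.idx) {k k' : ℕ} {e : Fin k → D.idx} {e' : Fin k' → D.idx} (x : ↥G.left)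
    (he : RedSub.Enumerates (RedSub.negMeetNeg D.P b (RedSub.wordPerm D.P l)) e)
    (he' : RedSub.Enumerates (RedSub.negMeetNeg D.P b (RedSub.wordPerm D.P l')) e')
    (h : x ∈ Set.range (RedSub.bruhatMap D nr l e ep).left.base)
    (h' : x ∈ Set.range (RedSub.bruhatMap D nr l' e' ep).left.base) : wl D.P l = wl D.P l' := by
  obtain ⟨w, hw⟩ := h
  obtain ⟨w', hw'⟩ := h'
  obtain ⟨K, _, g, j, j', hjj⟩ := exists_common_point _ _ w w' (hw.trans hw'.symm)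
  replace hjj := (comp_bruhatMap D g e ep j).symm.trans (hjj.trans (comp_bruhatMap D g e' ep j'))
  obtain ⟨l₀, hl₀⟩ := exists_longest D b
  have hB : ∀ (χ : pt g K ⟶ D.T) (y : Fin m → K), (χ ≫ D.i) * uProd g D ep y ∈ Bp D b g := fun χ y =>
    mul_mem (Tg_le_Bp D b g (pt_mem_Tg D g χ))
      (Ug_le_Bp D b g (uProd_mem_Ug D g (fun i => hpos.2.subset ⟨i, rfl⟩) y))
  have hl₀' : ∀ c ∈ Δn, (wl D.P l₀)⁻¹ • c ∈ Δp := fun c hc => (hl₀ _).mp (by rwa [smul_inv_smul])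
  have hP : ∀ {l : List D.idx} {k : ℕ} {e : Fin k → D.idx} (v : Fin k → K),
      RedSub.Enumerates (RedSub.negMeetNeg D.P b (RedSub.wordPerm D.P l)) e →
      (sec g (nW D l₀))⁻¹ * uProd g D e v * sec g (nW D l₀) ∈ Bp D b g := fun v he => Ug_le_Bp D b g
    (conj_back D g (rl_nW_inv D l₀) hl₀' (uProd_mem_Ug D g (fun i => ((mem_negMeetNeg D b _ _).mp
      (he.2.subset ⟨i, rfl⟩)).1) v))
  have hr : ∀ l : List D.idx, Rl D ((nW D l₀)⁻¹ * (l.map nr).prod) ((wl D.P l₀)⁻¹ * wl D.P l) := fun l =>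
    (rl_nW_inv D l₀).mul (rl_prod l fun a _ => acts_of_realises D hnr a)
  have hr' : Rl D ((nW D l₀)⁻¹ * (l'.map nr).prod)⁻¹ ((wl D.P l₀)⁻¹ * wl D.P l')⁻¹ := by
    rw [_root_.mul_inv_rev, _root_.mul_inv_rev, _root_.inv_inv, _root_.inv_inv]
    exact (rl_prod_inv l' fun a _ => acts_of_realises D hnr a).mul (rl_nW D l₀)
  refine mul_left_cancel (eq_of_cells D b g (hr l) hr' (hP (gvs g (j ≫ fst _ _)) he)
    (hB (j ≫ snd _ _ ≫ fst _ _) (gvs g (j ≫ snd _ _ ≫ snd _ _))) (hP (gvs g (j' ≫ fst _ _)) he')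
    (hB (j' ≫ snd _ _ ≫ fst _ _) (gvs g (j' ≫ snd _ _ ≫ snd _ _))) ?_)
  rw [sec_mul, sec_mul, sec_inv]
  have h0 : ∀ (N a c d : pt g K ⟶ G), N⁻¹ * a * N * (N⁻¹ * c) * d = N⁻¹ * (a * (c * d)) := fun N a c d => by group
  rw [h0, h0]
  exact congrArg (fun z => (sec g (nW D l₀))⁻¹ * z) hjj

end Groth.Agent.H21Split
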