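import Groth.Agent.H21Split.Bru.Filtration

/-!
One step of the filtration: the quotient is the product of the root groups of that level.
-/

open CategoryTheory MonoidalCategory CartesianMonoidalCategory MonObj GrpObj AlgebraicGeometry

universe u

set_option backward.isDefEq.respectTransparency false
set_option linter.style.haveILetI false
set_option linter.unusedSectionVars false
set_option synthInstance.maxHeartbeats 400000

noncomputable section

namespace Groth.Agent.H21Split

variable {S : Scheme.{u}}

/-- a power splits as a product of powers -/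
def powAddIso (A : Over S) (m k : ℕ) : RedSub.pow A m ⊗ RedSub.pow A k ≅ RedSub.pow A (m + k) where
  hom := tuple (m + k) (Fin.addCases (fun i => fst _ _ ≫ pr A m i) fun j => snd _ _ ≫ pr A k j)
  inv := lift (tuple m fun i => pr A (m + k) (Fin.castAdd k i)) (tuple k fun j => pr A (m + k) (Fin.natAdd m j))
  hom_inv_id := by
    refine CartesianMonoidalCategory.hom_ext _ _ (pow_hom_ext m fun i => ?_) (pow_hom_ext k fun j => ?_)
    · simp only [Category.assoc, lift_fst_assoc, Category.id_comp]
      rw [tuple_pr, tuple_pr, Fin.addCases_left]
    · simp only [Category.assoc, lift_snd_assoc, Category.id_comp]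
      rw [tuple_pr, tuple_pr, Fin.addCases_right]
  inv_hom_id := by
    refine pow_hom_ext (m + k) fun i => ?_
    rw [Category.assoc, tuple_pr, Category.id_comp]
    induction i using Fin.addCases with
    | left i => rw [Fin.addCases_left, lift_fst_assoc, tuple_pr]
    | right i => rw [Fin.addCases_right, lift_snd_assoc, tuple_pr]

variable {G : Over S} [GrpObj G] (D : Red.SplitRed G)

theorem powAddIso_comp {m k : ℕ} (e : Fin m → D.idx) (e' : Fin k → D.idx) :
    (powAddIso (Red.Ga S) m k).hom ≫ RedSub.prodMap (Red.Ga S) (m + k) (fun i => D.u (Fin.append e e' i)) =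
      (fst _ _ ≫ RedSub.prodMap (Red.Ga S) m fun i => D.u (e i)) *
        (snd _ _ ≫ RedSub.prodMap (Red.Ga S) k fun i => D.u (e' i)) := by
  refine hom_ext_pt fun R _ g z => ?_
  have hz : gvs g (z ≫ (powAddIso (Red.Ga S) m k).hom) = Fin.append (gvs g (z ≫ fst _ _)) (gvs g (z ≫ snd _ _)) := by
    funext i
    induction i using Fin.addCases with
    | left i =>
      rw [gvs, Category.assoc, powAddIso, tuple_pr, Fin.addCases_left, Fin.append_left, gvs, Category.assoc]
    | right i =>
      rw [gvs, Category.assoc, powAddIso, tuple_pr, Fin.addCases_right, Fin.append_right, gvs, Category.assoc]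
  rw [← Category.assoc, comp_prodMap_u, MonObj.comp_mul, ← Category.assoc, ← Category.assoc, comp_prodMap_u,
    comp_prodMap_u, hz, uProd,
    show (fun i => uPt g D (Fin.append e e' i) (Fin.append (gvs g (z ≫ fst _ _)) (gvs g (z ≫ snd _ _)) i)) =
      Fin.append (fun i => uPt g D (e i) (gvs g (z ≫ fst _ _) i)) (fun i => uPt g D (e' i) (gvs g (z ≫ snd _ _) i)) from
      funext fun i => by
      induction i using Fin.addCases with
      | left i => rw [Fin.append_left, Fin.append_left, Fin.append_left]
      | right i => rw [Fin.append_right, Fin.append_right, Fin.append_right],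
    List.ofFn_fin_append, List.prod_append, ← uProd, ← uProd]

end Groth.Agent.H21Split
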