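import Groth.Agent.H21Split.Bru.UPsi
import Groth.Agent.H21Split.Commutator

/-!
The filtration of a closed set of roots without opposite roots by a functional.
-/

open CategoryTheory MonoidalCategory CartesianMonoidalCategory MonObj GrpObj AlgebraicGeometry

universe u

set_option backward.isDefEq.respectTransparency false
set_option linter.style.haveILetI false
set_option linter.unusedSectionVars false
set_option synthInstance.maxHeartbeats 400000

noncomputable section

namespace Groth.Agent.H21Split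

variable {S : Scheme.{u}} {G : Over S} [GrpObj G] (D : Red.SplitRed G) (h : D.M →+ ℤ)

theorem pairing_comb (p q : ℤ) (a b c : D.idx) :
    D.P.coroot' c (p • D.P.root a + q • D.P.root b) = p * D.P.pairing a c + q * D.P.pairing b c := by
  rw [map_add, map_smul, map_smul, D.P.root_coroot'_eq_pairing, D.P.root_coroot'_eq_pairing, smul_eq_mul, smul_eq_mul]

/-- a root is at most twice another root -/
theorem le_two_of_multiple {c b : D.idx} {k : ℕ} (hk : D.P.root c = (k : ℤ) • D.P.root b) : k ≤ 2 := by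
  have h1 := congrArg (D.P.coroot' c) hk
  rw [D.P.root_coroot'_eq_pairing, D.P.pairing_same, map_smul, D.P.root_coroot'_eq_pairing, smul_eq_mul] at h1
  have h3 : (k : ℤ) ∣ 2 := ⟨_, h1⟩
  have h4 := Int.le_of_dvd (by norm_num) h3
  omega

/-- two dependent roots on the positive side -/
theorem dependent_cases {a b : D.idx} (ha : 0 < h (D.P.root a)) (hb : 0 < h (D.P.root b)) {s t : ℤ}
    (hst : s • D.P.root a + t • D.P.root b = 0) (hne : ¬(s = 0 ∧ t = 0)) :
    a = b ∨ D.P.root a = (2 : ℤ) • D.P.root b ∨ D.P.root b = (2 : ℤ) • D.P.root a := by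
  have h0 := congrArg h hst
  rw [map_add, map_zsmul, map_zsmul, map_zero, smul_eq_mul, smul_eq_mul] at h0
  have e1 := congrArg (D.P.coroot' b) hst
  have e2 := congrArg (D.P.coroot' a) hst
  rw [pairing_comb, map_zero, D.P.pairing_same] at e1 e2
  set P := D.P.pairing a b
  set Q := D.P.pairing b a
  have hs : s ≠ 0 := fun hs => hne ⟨hs, by
    rw [hs, zero_mul, zero_add] at h0
    exact (mul_eq_zero.mp h0).resolve_right hb.ne'⟩
  have ht : t ≠ 0 := fun ht => hs (by
    rw [ht, zero_mul, add_zero] at h0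
    exact (mul_eq_zero.mp h0).resolve_right ha.ne')
  have hst' : s * t < 0 := by
    by_contra hn
    push Not at hn
    have h1 : (0 : ℤ) < s * s * h (D.P.root a) := mul_pos (mul_self_pos.mpr hs) ha
    have h2 : 0 ≤ s * t * h (D.P.root b) := mul_nonneg hn hb.le
    have h3 := congrArg (s * ·) h0
    simp only [mul_zero] at h3
    nlinarith
  have hPQ : P * Q = 4 := by
    have : s * (P * Q - 4) = 0 := by linear_combination Q * e1 - 2 * e2
    linarith [(mul_eq_zero.mp this).resolve_left hs]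
  have hP : 0 < P := by
    by_contra hn
    push Not at hn
    have h1 : s * s * P ≤ 0 := mul_nonpos_of_nonneg_of_nonpos (mul_self_nonneg s) hn
    have h3 := congrArg (s * ·) e1
    simp only [mul_zero] at h3
    nlinarith
  have hdvd : P ≤ 4 := Int.le_of_dvd (by norm_num) ⟨Q, hPQ.symm⟩
  have key : ∀ (k : ℤ) (u v : D.M) (w : ℤ), w ≠ 0 → w • (u - k • v) = 0 → u = k • v := fun k u v w hw huv =>
    sub_eq_zero.mp ((smul_eq_zero.mp huv).resolve_left hw)
  interval_cases hPv : P
  · refine Or.inr (Or.inr (key 2 _ _ t ht ?_))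
    rw [show s = -(2 * t) by omega, neg_smul] at hst
    rw [smul_sub, smul_smul, mul_comm t, ← hst]
    abel
  · refine Or.inl (D.P.root.injective ((key 1 _ _ s hs ?_).trans (one_smul ℤ _)))
    rw [show t = -s by omega, neg_smul] at hst
    rw [smul_sub, one_smul, ← hst]
    abel
  · omega
  · refine Or.inr (Or.inl (key 2 _ _ s hs ?_))
    rw [show t = -(2 * s) by omega, neg_smul] at hst
    rw [smul_sub, smul_smul, mul_comm s, ← hst]
    abel

/-- the roots which are proper positive combinations of two roots -/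
def Comb (a b : D.idx) : Set D.idx :=
  {c | ∃ p q : ℕ, 1 ≤ p ∧ 1 ≤ q ∧ D.P.root c = (p : ℤ) • D.P.root a + (q : ℤ) • D.P.root b}

variable {R : Type u} [CommRing R] (g : Spec (CommRingCat.of R) ⟶ S)

/-- conjugation of a root point by another one on the same side -/
theorem exists_conj_comb {a b : D.idx} (ha : 0 < h (D.P.root a)) (hb : 0 < h (D.P.root b)) (x y : R) :
    ∃ P ∈ Ug D g (Comb D a b), uPt g D a x * uPt g D b y * (uPt g D a x)⁻¹ = uPt g D b y * P := by
  rcases eq_or_ne a b with rfl | hab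
  · exact ⟨1, one_mem _, by rw [← uPt_add, add_comm, uPt_add, mul_inv_cancel_right, _root_.mul_one]⟩
  haveI := isAffineHom_hom D
  have hne : ∀ p q : ℕ, 1 ≤ p → 1 ≤ q → (p : ℤ) • D.P.root a + (q : ℤ) • D.P.root b ≠ 0 := fun p q hp hq h0 => by
    have := congrArg h h0
    rw [map_add, map_zsmul, map_zsmul, map_zero, smul_eq_mul, smul_eq_mul] at this
    have h1 : (0 : ℤ) < p * h (D.P.root a) := mul_pos (by exact_mod_cast hp) ha
    have h2 : (0 : ℤ) < q * h (D.P.root b) := mul_pos (by exact_mod_cast hq) hb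
    omega
  by_cases hind : ∀ s t : ℤ, s • D.P.root a + t • D.P.root b = 0 → s = 0 ∧ t = 0
  · obtain ⟨n, e, he, hrange⟩ := exists_enum D (Comb D a b)
    choose i j hi hj hij using fun k => hrange.subset ⟨k, rfl⟩
    obtain ⟨C, hC, -⟩ := existsUnique_comm_core D g a b hne e i j he (fun k => ⟨hi k, hj k, hij k⟩)
      (fun c p q hp hq hc => by
        obtain ⟨k, rfl⟩ := hrange.symm.subset ⟨p, q, hp, hq, hc⟩
        obtain ⟨h1, h2⟩ := hind ((i k : ℤ) - p) ((j k : ℤ) - q) (by
          rw [sub_smul, sub_smul, sub_add_sub_comm, ← hij k, ← hc, sub_self])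
        exact ⟨k, rfl, by omega, by omega⟩)
    refine ⟨_, Subgroup.list_prod_mem _ fun z hz => ?_, hC R x y⟩
    obtain ⟨k, rfl⟩ := List.mem_ofFn.mp hz
    exact uPt_mem_Ug D g (hrange.subset ⟨k, rfl⟩) _
  · push Not at hind
    obtain ⟨s, t, hst, hne'⟩ := hind
    have hdep := (dependent_cases D h ha hb hst fun h' => hne' h'.1 h'.2).resolve_left hab
    have hno : ∀ (c : D.idx) (p q : ℕ), 1 ≤ p → 1 ≤ q →
        D.P.root c ≠ (p : ℤ) • D.P.root a + (q : ℤ) • D.P.root b := by
      intro c p q hp hq hc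
      rcases hdep with hd | hd
      · rw [hd, smul_smul, ← add_smul] at hc
        have := le_two_of_multiple D (k := p * 2 + q) (hc.trans (by push_cast; rfl))
        omega
      · rw [hd, smul_smul, ← add_smul] at hc
        have := le_two_of_multiple D (k := p + q * 2) (hc.trans (by push_cast; rfl))
        omega
    obtain ⟨C, hC, -⟩ := existsUnique_comm_core D g a b hne (Fin.elim0 : Fin 0 → D.idx) Fin.elim0 Fin.elim0
      (fun i => i.elim0) (fun i => i.elim0) (fun c p q hp hq hc => absurd hc (hno c p q hp hq))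
    refine ⟨1, one_mem _, ?_⟩
    rw [hC R x y, List.ofFn_zero, List.prod_nil]

variable {Ψ : Set D.idx} (hΨ : IsPosSet D.P Ψ) (hpos : ∀ a ∈ Ψ, 0 < h (D.P.root a))
include hΨ hpos

/-- combinations stay in the set and go up in the filtration -/
theorem comb_subset {a b : D.idx} (ha : a ∈ Ψ) (hb : b ∈ Ψ) :
    Comb D a b ⊆ {c | c ∈ Ψ ∧ h (D.P.root a) + h (D.P.root b) ≤ h (D.P.root c)} := by
  haveI := D.fintypeIdx
  haveI : Finite D.idx := Finite.of_fintype _
  rintro c ⟨p, q, hp, hq, hc⟩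
  refine ⟨hΨ.root_mem_of_sum _ (List.replicate p a ++ List.replicate q b) rfl ?_ c ?_, ?_⟩
  · intro z hz
    rcases List.mem_append.mp hz with hz | hz <;> rw [List.eq_of_mem_replicate hz]
    exacts [ha, hb]
  · rw [hc, List.map_append, List.map_replicate, List.map_replicate, List.sum_append, List.sum_replicate,
      List.sum_replicate, natCast_zsmul, natCast_zsmul]
  · rw [hc, map_add, map_zsmul, map_zsmul, smul_eq_mul, smul_eq_mul]
    have h1 : h (D.P.root a) ≤ p * h (D.P.root a) := le_mul_of_one_le_left (hpos a ha).le (by exact_mod_cast hp)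
    have h2 : h (D.P.root b) ≤ q * h (D.P.root b) := le_mul_of_one_le_left (hpos b hb).le (by exact_mod_cast hq)
    exact add_le_add h1 h2

/-- the steps of the filtration are normal -/
theorem conj_mem_level {k : ℤ} {p z : pt g R ⟶ G} (hp : p ∈ Ug D g Ψ)
    (hz : z ∈ Ug D g {c | c ∈ Ψ ∧ k ≤ h (D.P.root c)}) :
    p * z * p⁻¹ ∈ Ug D g {c | c ∈ Ψ ∧ k ≤ h (D.P.root c)} := by
  set Φ : Set D.idx := {c | c ∈ Ψ ∧ k ≤ h (D.P.root c)}
  have key : Ug D g Ψ ≤ Subgroup.normalizer (Ug D g Φ : Set _) := by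
    refine Ug_le D g fun a ha x => ?_
    rw [Subgroup.mem_normalizer_iff]
    have h0 : ∀ (y : R), ∀ z ∈ Ug D g Φ, uPt g D a y * z * (uPt g D a y)⁻¹ ∈ Ug D g Φ := fun y z hz =>
      conj_Ug_le D g _ (fun c hc w => by
        obtain ⟨P, hP, e⟩ := exists_conj_comb D h g (hpos a ha) (hpos c hc.1) y w
        rw [e]
        refine mul_mem (uPt_mem_Ug D g hc w) (Ug_mono D g (fun d hd => ?_) hP)
        obtain ⟨hd1, hd2⟩ := comb_subset D h hΨ hpos ha hc.1 hd
        exact ⟨hd1, hc.2.trans (le_trans (le_add_of_nonneg_left (hpos a ha).le) hd2)⟩) hz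
    refine fun z => ⟨fun hz => h0 x z hz, fun hz => ?_⟩
    have := h0 (-x) _ hz
    rwa [uPt_neg, show (uPt g D a x)⁻¹ * (uPt g D a x * z * (uPt g D a x)⁻¹) * (uPt g D a x)⁻¹⁻¹ = z by group] at this
  exact (Subgroup.mem_normalizer_iff.mp (key hp) z).mp hz

/-- root points of the same level commute modulo the next one -/
theorem comm_mem_level {k : ℤ} {a b : D.idx} (ha : a ∈ Ψ) (hb : b ∈ Ψ)
    (hk : k ≤ h (D.P.root a) + h (D.P.root b)) (x y : R) :
    uPt g D a x * uPt g D b y * (uPt g D a x)⁻¹ * (uPt g D b y)⁻¹ ∈ Ug D g {c | c ∈ Ψ ∧ k ≤ h (D.P.root c)} := by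
  obtain ⟨P, hP, e⟩ := exists_conj_comb D h g (hpos a ha) (hpos b hb) x y
  rw [e]
  refine conj_mem_level D h g hΨ hpos (uPt_mem_Ug D g hb y) (Ug_mono D g (fun d hd => ?_) hP)
  obtain ⟨hd1, hd2⟩ := comb_subset D h hΨ hpos ha hb hd
  exact ⟨hd1, hk.trans hd2⟩

omit hpos in
theorem isPosSet_level (k : ℤ) : IsPosSet D.P {c | c ∈ Ψ ∧ k ≤ h (D.P.root c)} ↔
    ∀ a b c, a ∈ Ψ → b ∈ Ψ → k ≤ h (D.P.root a) → k ≤ h (D.P.root b) →
      D.P.root a + D.P.root b = D.P.root c → k ≤ h (D.P.root c) :=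
  ⟨fun H a b c ha hb hka hkb hc => (H.closed a b c ⟨ha, hka⟩ ⟨hb, hkb⟩ hc).2,
    fun H => ⟨fun a b c ha hb hc => ⟨hΨ.closed a b c ha.1 hb.1 hc, H a b c ha.1 hb.1 ha.2 hb.2 hc⟩,
      fun a b ha hab hb => hΨ.noNeg a b ha.1 hab hb.1⟩⟩

end Groth.Agent.H21Split
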