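import Groth.Agent.H21Split.DualLocal
import Groth.Agent.H21Root.Inversions

/-!
Functionals adapted to a simple root.
-/

open CategoryTheory MonoidalCategory CartesianMonoidalCategory MonObj GrpObj AlgebraicGeometry
open Groth.Agent.H21Root (opp root_opp sr wl)

universe u

set_option backward.isDefEq.respectTransparency false
set_option linter.style.haveILetI false
set_option linter.unusedSectionVars false
set_option synthInstance.maxHeartbeats 400000

noncomputable section

namespace Groth.Agent.H21Split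

variable {S : Scheme.{u}} {G : Over S} [GrpObj G] (D : Red.SplitRed G) (b : D.P.Base)

local notation "Δp" => RedSub.posRoots D.P b
local notation "Δn" => RedSub.negRoots D.P b

theorem simple_mem_pos {a : D.idx} (ha : a ∈ b.support) : a ∈ Δp :=
  AddSubmonoid.subset_closure ⟨a, ha, rfl⟩

theorem neg_iff_opp_pos (a : D.idx) : a ∈ Δn ↔ opp D.P a ∈ Δp := mem_negRoots_iff b a

theorem pos_iff_not_neg (a : D.idx) : a ∈ Δp ↔ a ∉ Δn :=
  ⟨notMem_neg_of_mem_pos b, fun h => (mem_pos_or_neg b a).resolve_right h⟩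

theorem opp_neg_iff (a : D.idx) : opp D.P a ∈ Δn ↔ a ∈ Δp := by
  rw [neg_iff_opp_pos, show opp D.P (opp D.P a) = a from D.P.root.injective (by rw [root_opp, root_opp, neg_neg])]

theorem refl_simple_pos {a c : D.idx} (ha : a ∈ b.support) (hc : c ∈ Δp) (hne : c ≠ a) :
    D.P.reflectionPerm a c ∈ Δp := by
  haveI := D.fintypeIdx
  haveI : Finite D.idx := Finite.of_fintype _
  have hP : ∀ i, i ∈ Δp ↔ b.IsPos i := fun i =>
    (H21Root.mem_posRoots (P := D.P) b i).trans (H21Root.isPos_iff_mem_posOf b i).symm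
  exact (hP _).mpr (isPos_reflectionPerm D.P b ((hP _).mp hc) ha hne)

theorem exists_levi_simple {a : D.idx} (ha : a ∈ b.support) :
    ∃ h : D.M →+ ℤ, IsLevi D (opp D.P a) a h ∧ {c | 0 < h (D.P.root c)} = Δp \ {a} ∧
      {c | 0 < (-h) (D.P.root c)} = Δn \ {opp D.P a} := by
  haveI := D.fintypeIdx
  obtain ⟨f, hf⟩ := (isPosSet_posRoots (P := D.P) b).exists_functional
  let h : D.M →+ ℤ := f + f.comp (D.P.reflection a).toLinearMap.toAddMonoidHom
  have hh : ∀ c, h (D.P.root c) = f (D.P.root c) + f (D.P.root (D.P.reflectionPerm a c)) := fun c => by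
    rw [D.P.root_reflectionPerm]; rfl
  have h0 : h (D.P.root a) = 0 := by
    rw [hh, D.P.root_reflectionPerm, D.P.reflection_apply_self, map_neg, add_neg_cancel]
  have hd : h (D.P.root (opp D.P a)) = 0 := by rw [root_opp, map_neg, h0, neg_zero]
  have hpos : ∀ c ∈ Δp, c ≠ a → 0 < h (D.P.root c) := fun c hc hne => by
    rw [hh]
    exact add_pos (hf c hc) (hf _ (refl_simple_pos D b ha hc hne))
  have hneg : ∀ c ∈ Δn, c ≠ opp D.P a → h (D.P.root c) < 0 := fun c hc hne => by
    have hp := hpos (opp D.P c) ((neg_iff_opp_pos D b c).mp hc) fun e => hne (by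
      rw [← e]; exact D.P.root.injective (by rw [root_opp, root_opp, neg_neg]))
    rw [root_opp, map_neg] at hp
    omega
  have key : ∀ c, h (D.P.root c) = 0 → c = a ∨ c = opp D.P a := fun c hc => by
    by_contra hne
    push Not at hne
    rcases mem_pos_or_neg b c with hp | hn
    · exact (hpos c hp hne.1).ne' hc
    · exact (hneg c hn hne.2).ne hc
  refine ⟨h, ⟨root_opp D.P a, h0, key⟩, ?_, ?_⟩
  · ext c
    simp only [Set.mem_ofPred_eq, Set.mem_sdiff, Set.mem_singleton_iff]
    refine ⟨fun hc => ⟨(mem_pos_or_neg b c).resolve_right fun hn => ?_, fun e => ?_⟩, fun hc => hpos c hc.1 hc.2⟩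
    · by_cases he : c = opp D.P a
      · rw [he, hd] at hc; omega
      · have := hneg c hn he; omega
    · rw [e, h0] at hc; omega
  · ext c
    simp only [Set.mem_ofPred_eq, Set.mem_sdiff, Set.mem_singleton_iff, AddMonoidHom.neg_apply, neg_pos]
    refine ⟨fun hc => ⟨(mem_pos_or_neg b c).resolve_left fun hp => ?_, fun e => ?_⟩, fun hc => hneg c hc.1 hc.2⟩
    · by_cases he : c = a
      · rw [he, h0] at hc; omega
      · have := hpos c hp he; omega
    · rw [e, hd] at hc; omega

end Groth.Agent.H21Split
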