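import Groth.Agent.H21Split.Bru.Real
import Groth.Agent.H21Split.Bru.Roots

/-!
Subgroups of the points over an affine scheme: torus, root groups and their products.
-/

open CategoryTheory MonoidalCategory CartesianMonoidalCategory MonObj GrpObj AlgebraicGeometry
open Groth.Agent.H21Root (opp root_opp sr wl)
open Groth.Agent.H27Witt.GaCoord (gaFn_comp gaFn_surjective gaFn_injective gaFn_one)

universe u

set_option backward.isDefEq.respectTransparency false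
set_option linter.style.haveILetI false
set_option linter.unusedSectionVars false
set_option synthInstance.maxHeartbeats 400000

noncomputable section

namespace Groth.Agent.H21Split

variable {S : Scheme.{u}} {G : Over S} [GrpObj G] (D : Red.SplitRed G)
variable {R : Type u} [CommRing R] (g : Spec (CommRingCat.of R) ⟶ S)

/-- the points of a root group as a homomorphism -/
def uHom (a : D.idx) : Multiplicative R →* (pt g R ⟶ G) :=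
  MonoidHom.mk' (fun x => uPt g D a x.toAdd) fun x y => uPt_add g D a x.toAdd y.toAdd

/-- the points of a root group -/
def Ur (a : D.idx) : Subgroup (pt g R ⟶ G) := (uHom D g a).range

theorem mem_Ur {a : D.idx} {z : pt g R ⟶ G} : z ∈ Ur D g a ↔ ∃ x, uPt g D a x = z :=
  ⟨fun ⟨x, hx⟩ => ⟨x.toAdd, hx⟩, fun ⟨x, hx⟩ => ⟨Multiplicative.ofAdd x, hx⟩⟩

theorem uPt_mem_Ur (a : D.idx) (x : R) : uPt g D a x ∈ Ur D g a := (mem_Ur D g).mpr ⟨x, rfl⟩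

theorem exists_tPt_inv (χ : Multiplicative D.M →* R) : ∃ χi, tPt g D χi = (tPt g D χ)⁻¹ := by
  obtain ⟨χi, h'⟩ := exists_tPt g D (ds g χ ≫ D.split.inv.hom.hom)⁻¹
  exact ⟨χi, h'.trans (by rw [GrpObj.inv_comp, tPt, Category.assoc])⟩

/-- the points of the torus -/
def Tg : Subgroup (pt g R ⟶ G) where
  carrier := {z | ∃ χ, tPt g D χ = z}
  one_mem' := ⟨1, tPt_one g D⟩
  mul_mem' := by rintro _ _ ⟨χ, rfl⟩ ⟨χ', rfl⟩; exact ⟨χ * χ', tPt_mul g D χ χ'⟩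
  inv_mem' := by rintro _ ⟨χ, rfl⟩; exact exists_tPt_inv D g χ

theorem mem_Tg {z : pt g R ⟶ G} : z ∈ Tg D g ↔ ∃ χ, tPt g D χ = z := Iff.rfl

theorem tPt_mem_Tg (χ : Multiplicative D.M →* R) : tPt g D χ ∈ Tg D g := ⟨χ, rfl⟩

/-- a point of the torus -/
theorem pt_mem_Tg (t : pt g R ⟶ D.T) : t ≫ D.i ∈ Tg D g := exists_tPt g D t

/-- the group generated by the root groups of a set of roots -/
def Ug (Ψ : Set D.idx) : Subgroup (pt g R ⟶ G) := ⨆ c ∈ Ψ, Ur D g c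

theorem Ur_le_Ug {Ψ : Set D.idx} {c : D.idx} (hc : c ∈ Ψ) : Ur D g c ≤ Ug D g Ψ :=
  le_iSup₂ (f := fun c _ => Ur D g c) c hc

theorem uPt_mem_Ug {Ψ : Set D.idx} {c : D.idx} (hc : c ∈ Ψ) (x : R) : uPt g D c x ∈ Ug D g Ψ :=
  Ur_le_Ug D g hc (uPt_mem_Ur D g c x)

theorem Ug_le {Ψ : Set D.idx} {K : Subgroup (pt g R ⟶ G)} (h : ∀ c ∈ Ψ, ∀ x, uPt g D c x ∈ K) : Ug D g Ψ ≤ K :=
  iSup₂_le fun c hc z hz => by obtain ⟨x, rfl⟩ := (mem_Ur D g).mp hz; exact h c hc x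

theorem Ug_mono {Ψ Φ : Set D.idx} (h : Ψ ⊆ Φ) : Ug D g Ψ ≤ Ug D g Φ :=
  Ug_le D g fun _ hc => uPt_mem_Ug D g (h hc)

theorem uProd_mem_Ug {Ψ : Set D.idx} {m : ℕ} {e : Fin m → D.idx} (he : ∀ k, e k ∈ Ψ) (x : Fin m → R) :
    uProd g D e x ∈ Ug D g Ψ :=
  Subgroup.list_prod_mem _ fun z hz => by
    obtain ⟨k, rfl⟩ := List.mem_ofFn.mp hz
    exact uPt_mem_Ug D g (he k) _

theorem uProd_single (c : D.idx) (x : R) : uProd g D (fun _ : Fin 1 => c) (fun _ => x) = uPt g D c x := by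
  simp [uProd]

theorem mem_Ug_iff {Ψ : Set D.idx} (hΨ : IsPosSet D.P Ψ) {m : ℕ} (e : Fin m → D.idx) (he : Function.Injective e)
    (hrange : Set.range e = Ψ) {z : pt g R ⟶ G} : z ∈ Ug D g Ψ ↔ ∃ x, uProd g D e x = z := by
  haveI := isAffineHom_hom D
  obtain ⟨U, hU⟩ := exists_subgroup g R D hΨ e he hrange
  refine ⟨fun hz => ?_, fun ⟨x, hx⟩ => hx ▸ uProd_mem_Ug D g (fun k => (hrange ▸ ⟨k, rfl⟩ : e k ∈ Ψ)) x⟩
  have : z ∈ U := Ug_le D g (fun c hc x => by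
    obtain ⟨Q, hQ⟩ := exists_reorder g D hΨ e he hrange (fun _ : Fin 1 => c) fun _ => hc
    exact (hU _).mpr ⟨_, (uProd_single D g c x).symm.trans (hQ R fun _ => x)⟩) hz
  obtain ⟨x, hx⟩ := (hU z).mp this
  exact ⟨x, hx.symm⟩

theorem exists_enum (Ψ : Set D.idx) : ∃ (m : ℕ) (e : Fin m → D.idx), Function.Injective e ∧ Set.range e = Ψ := by
  haveI := D.fintypeIdx
  obtain ⟨m, e, he⟩ := exists_enumerates D Ψ
  exact ⟨m, e, he⟩

/-- conjugation of a generated group -/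
theorem conj_Ug_le {Ψ : Set D.idx} {K : Subgroup (pt g R ⟶ G)} (p : pt g R ⟶ G)
    (h : ∀ c ∈ Ψ, ∀ x, p * uPt g D c x * p⁻¹ ∈ K) {z : pt g R ⟶ G} (hz : z ∈ Ug D g Ψ) : p * z * p⁻¹ ∈ K :=
  Ug_le D g (K := K.comap (MulAut.conj p).toMonoidHom) h hz

theorem Tg_conj_mem {t : pt g R ⟶ G} (ht : t ∈ Tg D g) {Ψ : Set D.idx} {z : pt g R ⟶ G} (hz : z ∈ Ug D g Ψ) :
    t * z * t⁻¹ ∈ Ug D g Ψ := by
  obtain ⟨χ, rfl⟩ := ht
  exact conj_Ug_le D g _ (fun c hc x => by rw [tPt_conj]; exact uPt_mem_Ug D g hc _) hz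

theorem Tg_le_normalizer (Ψ : Set D.idx) : Tg D g ≤ Subgroup.normalizer (Ug D g Ψ : Set _) := fun t ht => by
  rw [Subgroup.mem_normalizer_iff]
  refine fun z => ⟨fun hz => Tg_conj_mem D g ht hz, fun hz => ?_⟩
  have := Tg_conj_mem D g (inv_mem ht) hz
  rwa [show t⁻¹ * (t * z * t⁻¹) * t⁻¹⁻¹ = z by group] at this

/-- an element of the product of the torus and a generated group -/
theorem mem_TU {Ψ : Set D.idx} {z : pt g R ⟶ G} :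
    z ∈ Tg D g ⊔ Ug D g Ψ ↔ ∃ t ∈ Tg D g, ∃ u ∈ Ug D g Ψ, t * u = z := by
  rw [← SetLike.mem_coe, Subgroup.coe_mul_of_left_le_normalizer_right _ _ (Tg_le_normalizer D g Ψ)]
  exact Set.mem_mul

theorem Rl.conj_uPt {n : 𝟙_ (Over S) ⟶ G} {σ : D.P.Aut} (h : Rl D n σ) (c : D.idx) (x : R) :
    ∃ y, (toUnit (pt g R) ≫ n) * uPt g D c x * (toUnit (pt g R) ≫ n)⁻¹ = uPt g D (σ • c) y := by
  obtain ⟨y, hy⟩ := h.root c (pt g R) (ga g x)
  exact ⟨gv g y, by rw [uPt, uPt, ga_gv, hy]⟩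

/-- a section over the base on a test algebra -/
abbrev sec (n : 𝟙_ (Over S) ⟶ G) : pt g R ⟶ G := toUnit (pt g R) ≫ n

theorem sec_mul (n n' : 𝟙_ (Over S) ⟶ G) : sec g (n * n') = sec g n * sec g n' := MonObj.comp_mul _ _ _

theorem sec_inv (n : 𝟙_ (Over S) ⟶ G) : sec g n⁻¹ = (sec g n)⁻¹ := GrpObj.comp_inv _ _

theorem sec_torus (t : 𝟙_ (Over S) ⟶ D.T) : sec g (t ≫ D.i) ∈ Tg D g := by
  rw [sec, ← Category.assoc]; exact pt_mem_Tg D g _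

theorem Rl.conj_Tg {n : 𝟙_ (Over S) ⟶ G} {σ : D.P.Aut} (h : Rl D n σ) {t : pt g R ⟶ G} (ht : t ∈ Tg D g) :
    sec g n * t * (sec g n)⁻¹ ∈ Tg D g := by
  obtain ⟨χ, rfl⟩ := ht
  exact ⟨_, (h.acts R g R χ).symm⟩

theorem Rl.conj_Ug {n : 𝟙_ (Over S) ⟶ G} {σ : D.P.Aut} (h : Rl D n σ) {Ψ Φ : Set D.idx} (hΦ : ∀ c ∈ Ψ, σ • c ∈ Φ)
    {z : pt g R ⟶ G} (hz : z ∈ Ug D g Ψ) : sec g n * z * (sec g n)⁻¹ ∈ Ug D g Φ :=
  conj_Ug_le D g _ (fun c hc x => by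
    obtain ⟨y, hy⟩ := h.conj_uPt D g c x
    exact hy ▸ uPt_mem_Ug D g (hΦ c hc) y) hz

theorem nS_mem [D.P.IsReduced] (a : D.idx) : sec g (nS D a) ∈ Ug D g {a, opp D.P a} := by
  obtain ⟨p, q, r, h⟩ := exists_nS D a
  have hu : ∀ (c : D.idx) (p : 𝟙_ (Over S) ⟶ Red.Ga S), toUnit (pt g R) ≫ p ≫ D.u c ∈ Ur D g c := fun c p =>
    (mem_Ur D g).mpr ⟨gv g (toUnit (pt g R) ≫ p), by rw [uPt, ga_gv, Category.assoc]⟩
  rw [sec, h, MonObj.comp_mul, MonObj.comp_mul]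
  exact mul_mem (mul_mem (Ur_le_Ug D g (by simp) (hu a p)) (Ur_le_Ug D g (by simp [opp]) (hu _ q)))
    (Ur_le_Ug D g (by simp) (hu a r))

/-- the big cell on test algebras -/
def Om (b : D.P.Base) : Set (pt g R ⟶ G) :=
  {z | ∃ v ∈ Ug D g (RedSub.negRoots D.P b), ∃ t ∈ Tg D g, ∃ w ∈ Ug D g (RedSub.posRoots D.P b), v * t * w = z}

theorem mem_Om_iff {b : D.P.Base} {n m : ℕ} {en : Fin n → D.idx} {ep : Fin m → D.idx}
    (hneg : RedSub.Enumerates (RedSub.negRoots D.P b) en) (hpos : RedSub.Enumerates (RedSub.posRoots D.P b) ep)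
    {z : pt g R ⟶ G} : z ∈ Om D g b ↔ ∃ x χ y, cellPt g D en ep x χ y = z := by
  constructor
  · rintro ⟨v, hv, t, ⟨χ, rfl⟩, w, hw, rfl⟩
    obtain ⟨x, rfl⟩ := (mem_Ug_iff D g (isPosSet_negRoots b) en hneg.1 hneg.2).mp hv
    obtain ⟨y, rfl⟩ := (mem_Ug_iff D g (isPosSet_posRoots b) ep hpos.1 hpos.2).mp hw
    exact ⟨x, χ, y, by rw [cellPt, _root_.mul_assoc]⟩
  · rintro ⟨x, χ, y, rfl⟩
    exact ⟨_, uProd_mem_Ug D g (fun k => (hneg.2 ▸ ⟨k, rfl⟩ : en k ∈ RedSub.negRoots D.P b)) x, _,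
      tPt_mem_Tg D g χ, _, uProd_mem_Ug D g (fun k => (hpos.2 ▸ ⟨k, rfl⟩ : ep k ∈ RedSub.posRoots D.P b)) y,
      by rw [cellPt, _root_.mul_assoc]⟩

theorem mem_Om_iff_lift {b : D.P.Base} {n m : ℕ} {en : Fin n → D.idx} {ep : Fin m → D.idx}
    (hneg : RedSub.Enumerates (RedSub.negRoots D.P b) en) (hpos : RedSub.Enumerates (RedSub.posRoots D.P b) ep)
    {z : pt g R ⟶ G} : z ∈ Om D g b ↔ ∃ ω, ω ≫ RedSub.cellMap D en ep = z := by
  rw [mem_Om_iff D g hneg hpos]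
  constructor
  · rintro ⟨x, χ, y, rfl⟩
    refine ⟨lift (gas g x) (lift (ds g χ ≫ D.split.inv.hom.hom) (gas g y)), ?_⟩
    rw [comp_cellMap g D en ep _ χ (by simp [tPt]), lift_fst, lift_snd_assoc, lift_snd, gvs_gas, gvs_gas]
  · rintro ⟨ω, rfl⟩
    obtain ⟨χ, hχ⟩ := exists_tPt g D (ω ≫ snd _ _ ≫ fst _ _)
    exact ⟨_, χ, _, (comp_cellMap g D en ep ω χ hχ).symm⟩

end Groth.Agent.H21Split
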