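import Groth.Agent.H21Rank1.Braid

/-!
Two translates of a rank one cell contain the products with the opposite root group.
-/

namespace Groth.Agent.H21Rank1
namespace R1

variable {H A Tp : Type*} [Group H] [CommRing A] [Group Tp] (r : R1 H A Tp)

/-- the cell -/
def InCell (h : H) : Prop := ∃ (y x : A) (t : Tp), r.N y * r.C t * r.P x = h

theorem inCell_P {h : H} (x : A) (hh : r.InCell h) : r.InCell (h * r.P x) := by
  obtain ⟨y, x', t, rfl⟩ := hh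
  exact ⟨y, x' + x, t, by rw [r.P_add]; group⟩

theorem inCell_C_left {h : H} (t : Tp) (hh : r.InCell h) : r.InCell (r.C t * h) := by
  obtain ⟨y, x, t', rfl⟩ := hh
  refine ⟨↑(r.χ t)⁻¹ * y, x, t * t', ?_⟩
  rw [map_mul]
  calc _ = r.N (↑(r.χ t)⁻¹ * y) * r.C t * r.C t' * r.P x := by group
    _ = _ := by rw [← r.NC]; group

theorem inCell_N_left {h : H} (y : A) (hh : r.InCell h) : r.InCell (r.N y * h) := by
  obtain ⟨y', x, t, rfl⟩ := hh
  exact ⟨y + y', x, t, by rw [r.N_add]; group⟩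

theorem inCell_PN {x y : A} (h : IsUnit (1 + x * y)) : r.InCell (r.P x * r.N y) :=
  ⟨_, _, _, (r.F x y h.unit h.unit_spec).symm⟩

theorem core_unit (x z : Aˣ) (c : A) (u : Aˣ) (hu : (u : A) = 1 - ↑x * c) :
    r.InCell (r.P (-↑x) * r.N c * r.P ↑z * r.N (-↑z⁻¹)) := by
  have h := r.F (-↑x) c u (by rw [hu]; ring)
  rw [h]
  have h2 : r.InCell (r.P (↑u⁻¹ * -↑x + ↑z) * r.N (-↑z⁻¹)) := r.inCell_PN (by
    have e : 1 + (↑u⁻¹ * -↑x + ↑z) * -↑z⁻¹ = ↑u⁻¹ * ↑x * (↑z⁻¹ : A) := by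
      linear_combination (norm := ring_nf) -(z.mul_inv)
    rw [e]
    exact ((u⁻¹.isUnit.mul x.isUnit).mul z⁻¹.isUnit))
  have e : r.N (↑u⁻¹ * c) * r.C (r.V u) * r.P (↑u⁻¹ * -↑x) * r.P ↑z * r.N (-↑z⁻¹) =
      r.N (↑u⁻¹ * c) * (r.C (r.V u) * (r.P (↑u⁻¹ * -↑x + ↑z) * r.N (-↑z⁻¹))) := by
    rw [r.P_add]; group
  rw [e]
  exact r.inCell_N_left _ (r.inCell_C_left _ h2)

theorem core_unit' (x z : Aˣ) (c : A) (hc : (x : A) * c = 1) (u : Aˣ) (hu : (u : A) = 1 + c * ↑z) :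
    r.InCell (r.P (-↑x) * r.N c * r.P ↑z * r.N (-↑z⁻¹)) := by
  have h := r.G (↑z) c u (by rw [hu]; ring)
  set e : A := -↑x + ↑u⁻¹ * ↑z
  set f : A := ↑u⁻¹ * c + -↑z⁻¹
  have e1 : r.P (-↑x) * r.N c * r.P ↑z * r.N (-↑z⁻¹) = r.P e * (r.C (r.V u))⁻¹ * r.N f := by
    rw [_root_.mul_assoc (r.P (-↑x)) (r.N c), h, r.P_add, r.N_add]; group
  have e2 : r.P e * (r.C (r.V u))⁻¹ = r.C (r.V u⁻¹) * r.P (↑u * ↑u * e) := by
    have h2 := r.PC (r.V u⁻¹) e
    rw [r.χV_inv, _root_.inv_inv] at h2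
    rw [← map_inv, ← map_inv]
    exact h2
  rw [e1, e2, _root_.mul_assoc]
  refine r.inCell_C_left _ (r.inCell_PN ?_)
  have ee : (↑u : A) * e = -↑x := by
    have : (↑u : A) * e = -(↑u * ↑x) + ↑z := by
      simp only [e]
      linear_combination (norm := ring_nf) (↑z : A) * u.mul_inv
    rw [this, hu]
    linear_combination (norm := ring_nf) -(↑z : A) * hc
  have ff : (↑u : A) * f = -↑z⁻¹ := by
    have : (↑u : A) * f = c + -(↑u * ↑z⁻¹) := by
      simp only [f]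
      linear_combination (norm := ring_nf) c * u.mul_inv
    rw [this, hu]
    linear_combination (norm := ring_nf) -c * z.mul_inv
  have e3 : 1 + (↑u : A) * ↑u * e * f = ↑u * (↑x * (↑z⁻¹ : A)) := by
    rw [show (↑u : A) * ↑u * e * f = (↑u * e) * (↑u * f) by ring, ee, ff, hu]
    linear_combination (norm := ring_nf) -(c * ↑x) * z.mul_inv - hc
  rw [e3]
  exact u.isUnit.mul (x.isUnit.mul z⁻¹.isUnit)

theorem cover_two [Nontrivial A] (hA : ∀ a : A, a = 0 ∨ IsUnit a)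
    (hc : ∀ x : Aˣ, r.w x * r.P ↑x * (r.w x)⁻¹ = r.N (-↑x⁻¹)) (x : Aˣ) (c : A) (t : Tp) (z y : A) :
    r.InCell (r.P z * r.N y) ∨ r.InCell (r.P (-↑x) * (r.N c * r.C t * r.P z * r.N y)) := by
  rcases hA (1 + z * y) with h0 | hu
  swap
  · exact Or.inl (r.inCell_PN hu)
  refine Or.inr ?_
  have hz : IsUnit z := (hA z).resolve_left fun e => by rw [e, zero_mul, add_zero] at h0; exact one_ne_zero h0
  obtain ⟨z, rfl⟩ := hz
  obtain rfl : y = -↑z⁻¹ := by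
    linear_combination (norm := ring_nf) (↑z⁻¹ : A) * h0 - y * z.inv_mul
  let χ := r.χ t
  have e1 : r.P (-↑x) * (r.N c * r.C t * r.P ↑z * r.N (-↑z⁻¹)) =
      r.C t * (r.P (-↑(χ⁻¹ * x)) * r.N (↑χ * c) * r.P ↑z * r.N (-↑z⁻¹)) := by
    rw [show r.N c * r.C t = r.C t * r.N (↑χ * c) from (r.hN t c).symm]
    simp only [← _root_.mul_assoc]
    rw [r.PC, Units.val_mul, mul_neg]
  rw [e1]
  refine r.inCell_C_left _ ?_
  rcases hA (1 - ↑(χ⁻¹ * x) * (↑χ * c)) with hxc | hxc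
  swap
  · exact r.core_unit _ z _ hxc.unit hxc.unit_spec
  rw [sub_eq_zero] at hxc
  rcases hA (1 + ↑χ * c * ↑z) with hcz | hcz
  swap
  · exact r.core_unit' _ z _ hxc.symm hcz.unit hcz.unit_spec
  set x' := χ⁻¹ * x
  have hzx : (↑z : A) = -↑x' := by
    linear_combination (norm := ring_nf) (↑x' : A) * hcz + (↑z : A) * hxc
  have hcx : (↑χ : A) * c = ↑x'⁻¹ := by
    linear_combination (norm := ring_nf) -(↑x'⁻¹ : A) * hxc - (↑χ * c) * x'.inv_mul
  have hzi : (z⁻¹ : Aˣ) = -x'⁻¹ := by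
    rw [show z = -x' from Units.ext (hzx.trans (Units.val_neg x').symm), inv_neg]
  rw [hcx, hzx, hzi, Units.val_neg, neg_neg]
  have hb := r.braid hc (-x')
  rw [w] at hb
  simp only [inv_neg, Units.val_neg, neg_neg] at hb
  rw [hb, _root_.mul_assoc, ← r.N_add, _root_.mul_assoc]
  refine r.inCell_N_left _ (r.inCell_PN ?_)
  have e4 : 1 + -(↑x' : A) * (↑x'⁻¹ + ↑x'⁻¹) = -1 := by
    linear_combination (norm := ring_nf) -2 * x'.mul_inv
  rw [e4]
  exact isUnit_one.neg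

end R1
end Groth.Agent.H21Rank1
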