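import Groth.Agent.H21Split.Bru.Groups
import Groth.Agent.H21Rank1.Braid

/-!
The rank one commutation rule of a root.
-/

open CategoryTheory MonoidalCategory CartesianMonoidalCategory MonObj GrpObj AlgebraicGeometry
open Groth.Agent.H21Root (opp root_opp sr wl)
open Groth.Agent.H27Witt.GaCoord (gaFn_comp gaFn_surjective gaFn_injective gaFn_one)

universe u

set_option backward.isDefEq.respectTransparency false
set_option linter.style.haveILetI false
set_option linter.unusedSectionVars false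
set_option synthInstance.maxHeartbeats 400000
set_option maxHeartbeats 1600000

noncomputable section

namespace Groth.Agent.H21Split

variable {S : Scheme.{u}} {G : Over S} [GrpObj G] (D : Red.SplitRed G) [D.P.IsReduced] (a : D.idx)

/-- the coroot -/
def avc : Red.Gm S ⟶ D.T := Red.DSmap S (D.P.coroot a).toAddMonoidHom ≫ D.split.inv.hom.hom

/-- the root -/
def alc : D.T ⟶ Red.Gm S := D.split.hom.hom.hom ≫ Red.chi S (D.P.root a)

instance isMonHom_avc : IsMonHom (avc D a) :=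
  inferInstanceAs (IsMonHom (Red.DSmap S (D.P.coroot a).toAddMonoidHom ≫ D.split.inv.hom.hom))

instance isMonHom_alc : IsMonHom (alc D a) :=
  haveI : IsMonHom (Red.chi S (D.P.root a)) := H21Diag.isMonHom_DSmap S _
  inferInstanceAs (IsMonHom (D.split.hom.hom.hom ≫ Red.chi S (D.P.root a)))

/-- the opposite root homomorphism in duality -/
def pmc : Red.Ga S ⟶ G := H21Rank1.powScale 1 (kap D a) ≫ D.u (D.P.reflectionPerm a a)

instance isMonHom_pmc : IsMonHom (pmc D a) :=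
  haveI := isMonHom_scale (S := S) (kap D a)
  inferInstanceAs (IsMonHom (H21Rank1.powScale 1 (kap D a) ≫ D.u (D.P.reflectionPerm a a)))

theorem hpm_pmc (X : Over S) (t : X ⟶ D.T) (y : X ⟶ Red.Ga S) : ∃ y' : X ⟶ Red.Ga S,
    y' ≫ pmc D a = (t ≫ D.i) * (y ≫ pmc D a) * (t ≫ D.i)⁻¹ ∧
      Red.gaFn y' * Red.gmFn (t ≫ alc D a) = Red.gaFn y := by
  let D' := rescale D (D.P.reflectionPerm a a) (kap D a)
  have := hpm_root D' a X t y
  change ∃ y', y' ≫ D'.u (D.P.reflectionPerm a a) = _ * (y ≫ D'.u (D.P.reflectionPerm a a)) * _ ∧ _ at this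
  rw [rescale_u_self] at this
  exact this

/-- the commutation rule -/
abbrev r1 (X : Over S) : H21Rank1.R1 (X ⟶ G) Γ(X.left, ⊤) (X ⟶ D.T) :=
  H21Rank1.data G D.T D.i (alc D a) (D.u a) (pmc D a) (hpp_root D a) (hpm_pmc D a) (avc D a) (avc_h2 D a)
    (kap_spec D a) X

variable {X : Over S}

theorem r1_conj : ∀ x : (Γ(X.left, ⊤) : Type u)ˣ,
    (r1 D a X).w x * (r1 D a X).P ↑x * ((r1 D a X).w x)⁻¹ = (r1 D a X).N (-↑x⁻¹) := by
  have h := @H21Rank1.data_conj S G D.T _ _ D.i _ (alc D a) _ (D.u a) (pmc D a) _ _ (hpp_root D a) (hpm_pmc D a)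
  exact h (avc_h2 D a) (kap_spec D a)

theorem r1_P (x : X ⟶ Red.Ga S) : x ≫ D.u a = (r1 D a X).P (Red.gaFn x) := (H21Rank1.data_P rfl).symm

theorem r1_N_scale (y : X ⟶ Red.Ga S) : (y ≫ H21Rank1.powScale 1 (kap D a)) ≫ D.u (D.P.reflectionPerm a a) =
    (r1 D a X).N (Red.gaFn y) := by
  rw [Category.assoc]; exact (H21Rank1.data_N (pm := pmc D a) rfl).symm

theorem exists_r1_N (y : X ⟶ Red.Ga S) : ∃ f, y ≫ D.u (D.P.reflectionPerm a a) = (r1 D a X).N f := by
  haveI := (H21Rank1.isIso_powScale (kap D a)).1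
  refine ⟨Red.gaFn (y ≫ inv (H21Rank1.powScale 1 (kap D a))), ?_⟩
  rw [← r1_N_scale, Category.assoc y, IsIso.inv_hom_id, Category.comp_id]

theorem r1_C (t : X ⟶ D.T) : t ≫ D.i = (r1 D a X).C t := (H21Rank1.data_C t).symm

variable {R : Type u} [CommRing R] (g : Spec (CommRingCat.of R) ⟶ S)

theorem r1_N_mem (f : Γ((pt g R).left, ⊤)) : (r1 D a (pt g R)).N f ∈ Ur D g (opp D.P a) :=
  (mem_Ur D g).mpr ⟨gv g (H21Rank1.gaPt f ≫ H21Rank1.powScale 1 (kap D a)), by
    rw [uPt, ga_gv, Category.assoc]; rfl⟩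

theorem r1_P_mem (f : Γ((pt g R).left, ⊤)) : (r1 D a (pt g R)).P f ∈ Ur D g a :=
  (mem_Ur D g).mpr ⟨gv g (H21Rank1.gaPt f), by rw [uPt, ga_gv]; rfl⟩

theorem r1_C_mem (t : pt g R ⟶ D.T) : (r1 D a (pt g R)).C t ∈ Tg D g := by
  rw [← r1_C]; exact pt_mem_Tg D g t

theorem exists_uPt_opp (y : R) : ∃ f, uPt g D (opp D.P a) y = (r1 D a (pt g R)).N f := exists_r1_N D a _

theorem uPt_eq_P (x : R) : uPt g D a x = (r1 D a (pt g R)).P (Red.gaFn (ga g x)) := r1_P D a _

theorem isUnit_gaFn_ga {x : R} (hx : IsUnit x) : IsUnit (Red.gaFn (ga g x)) := by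
  refine (MulEquiv.isUnit_map (Scheme.ΓSpecIso (CommRingCat.of R)).commRingCatIsoToRingEquiv).mp ?_
  change IsUnit ((Scheme.ΓSpecIso (CommRingCat.of R)).hom (Red.gaFn (ga g x)))
  rw [← gv_def, gv_ga]
  exact hx

/-- the section realising the reflection is the element `w 1` -/
theorem sec_nS : sec g (nS D a) = (r1 D a (pt g R)).w 1 := by
  have h1 : Red.gaFn (toUnit (pt g R) ≫ oneGa S) = 1 := by rw [gaFn_comp, gaFn_oneGa, map_one]
  rw [sec, nS, MonObj.comp_mul, MonObj.comp_mul, H21Rank1.R1.w, inv_one, Units.val_one, ← h1]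
  simp only [← Category.assoc, GrpObj.comp_inv]
  rw [Category.assoc (toUnit (pt g R) ≫ oneGa S)⁻¹, ← Category.assoc, r1_N_scale, r1_P, H21Rank1.gaFn_inv]

/-- an opposite root point with unit coordinate is a product through the reflection -/
theorem exists_neg_word (u : (Γ((pt g R).left, ⊤) : Type u)ˣ) :
    ∃ p ∈ Ur D g a, ∃ t ∈ Tg D g, ∃ q ∈ Ur D g a, (r1 D a (pt g R)).N ↑u = p * (t * sec g (nS D a)) * q := by
  let r := r1 D a (pt g R)
  let x : (Γ((pt g R).left, ⊤) : Type u)ˣ := -u⁻¹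
  have hx : (↑u : Γ((pt g R).left, ⊤)) = -↑x⁻¹ := by simp [x, inv_neg]
  refine ⟨r.P (-↑x), r1_P_mem D a g _, r.C (r.V x), r1_C_mem D a g _, r.P (-↑x), r1_P_mem D a g _, ?_⟩
  change r.N ↑u = _
  rw [sec_nS, ← r.w_mul_left x 1, _root_.mul_one, H21Rank1.R1.w, r.P_neg, hx]
  group

end Groth.Agent.H21Split
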