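import Groth.Agent.H21Split.Bru.Acts
import Groth.Agent.H21Split.Rescale
import Groth.Agent.H21Root.Inversions

/-!
Sections realising Weyl group elements.
-/

open CategoryTheory MonoidalCategory CartesianMonoidalCategory MonObj GrpObj AlgebraicGeometry
open Groth.Agent.H21Root (sr wl wl_cons wl_nil)

universe u

set_option backward.isDefEq.respectTransparency false
set_option linter.style.haveILetI false
set_option linter.unusedSectionVars false
set_option synthInstance.maxHeartbeats 400000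

noncomputable section

namespace Groth.Agent.H21Split

variable {S : Scheme.{u}} {G : Over S} [GrpObj G] (D : Red.SplitRed G)

/-- the action of the inverse of an automorphism on the characters -/
def wMap (σ : D.P.Aut) : D.M →+ D.M := AddMonoidHom.mk' (fun m => σ⁻¹ • m) fun m m' => smul_add _ m m'

theorem wMap_apply (σ : D.P.Aut) (m : D.M) : wMap D σ m = σ⁻¹ • m := rfl

theorem wMap_mul (σ τ : D.P.Aut) : wMap D (σ * τ) = (wMap D τ).comp (wMap D σ) :=
  AddMonoidHom.ext fun m => by rw [wMap_apply, _root_.mul_inv_rev, mul_smul]; rfl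

theorem wMap_one : wMap D 1 = AddMonoidHom.id D.M :=
  AddMonoidHom.ext fun m => by rw [wMap_apply, inv_one, one_smul]; rfl

theorem wMap_sr (a : D.idx) : wMap D (sr D.P a) = sMap D a :=
  AddMonoidHom.ext fun m => by
    rw [wMap_apply, RootPairing.Equiv.reflection_inv, RootPairing.Equiv.reflection_smul]
    rfl

theorem wMap_injective {σ τ : D.P.Aut} (h : wMap D σ = wMap D τ) : σ = τ :=
  inv_injective (H21Root.aut_ext D.P fun m => DFunLike.congr_fun h m)

/-- a section realising an automorphism of the root datum -/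
structure Rl (n : 𝟙_ (Over S) ⟶ G) (σ : D.P.Aut) : Prop where
  acts : Acts D n (wMap D σ)
  root : ∀ (c : D.idx) (X : Over S) (x : X ⟶ Red.Ga S), ∃ y : X ⟶ Red.Ga S,
    (toUnit X ≫ n) * (x ≫ D.u c) * (toUnit X ≫ n)⁻¹ = y ≫ D.u (σ • c)

variable {D}

theorem rl_one : Rl D (1 : 𝟙_ (Over S) ⟶ G) 1 :=
  ⟨(wMap_one D).symm ▸ acts_one, fun c X x => ⟨x, by
    rw [MonObj.comp_one, inv_one, _root_.one_mul, _root_.mul_one, one_smul]⟩⟩

theorem Rl.mul {n₁ n₂ : 𝟙_ (Over S) ⟶ G} {σ₁ σ₂ : D.P.Aut} (h₁ : Rl D n₁ σ₁) (h₂ : Rl D n₂ σ₂) :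
    Rl D (n₁ * n₂) (σ₁ * σ₂) := by
  refine ⟨(wMap_mul D σ₁ σ₂).symm ▸ h₁.acts.mul h₂.acts, fun c X x => ?_⟩
  obtain ⟨y, hy⟩ := h₂.root c X x
  obtain ⟨z, hz⟩ := h₁.root (σ₂ • c) X y
  exact ⟨z, by rw [MonObj.comp_mul, conj_mul', hy, hz, mul_smul]⟩

theorem rl_of_acts [D.P.IsReduced] {a : D.idx} {n : 𝟙_ (Over S) ⟶ G} (h : Acts D n (sMap D a)) :
    Rl D n (sr D.P a) :=
  ⟨(wMap_sr D a).symm ▸ h, fun c X x => by
    obtain ⟨y, hy⟩ := h.exists_conj_root c x
    exact ⟨y, by rw [hy, H21Root.sr_smul]⟩⟩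

theorem rl_of_refl_inv [D.P.IsReduced] {a : D.idx} {n : 𝟙_ (Over S) ⟶ G} (h : Acts D n (sMap D a)) :
    Rl D n⁻¹ (sr D.P a) := rl_of_acts h.inv_refl

theorem rl_prod [D.P.IsReduced] {nr : D.idx → (𝟙_ (Over S) ⟶ G)} :
    ∀ (l : List D.idx), (∀ a ∈ l, Acts D (nr a) (sMap D a)) → Rl D (l.map nr).prod (wl D.P l)
  | [], _ => by simpa using rl_one
  | a :: l, h => by
    rw [List.map_cons, List.prod_cons, wl_cons]
    exact (rl_of_acts (h a List.mem_cons_self)).mul (rl_prod l fun c hc => h c (List.mem_cons_of_mem a hc))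

/-- the inverse of a product of reflection sections realises the inverse -/
theorem rl_prod_inv [D.P.IsReduced] {nr : D.idx → (𝟙_ (Over S) ⟶ G)} :
    ∀ (l : List D.idx), (∀ a ∈ l, Acts D (nr a) (sMap D a)) → Rl D (l.map nr).prod⁻¹ (wl D.P l)⁻¹
  | [], _ => by simpa using rl_one
  | a :: l, h => by
    rw [List.map_cons, List.prod_cons, wl_cons, _root_.mul_inv_rev, _root_.mul_inv_rev, RootPairing.Equiv.reflection_inv]
    exact (rl_prod_inv l fun c hc => h c (List.mem_cons_of_mem a hc)).mul (rl_of_refl_inv (h a List.mem_cons_self))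

/-- two products of reflection sections with the same automorphism differ by the torus -/
theorem exists_torus_of_rl [D.P.IsReduced] {n n' : 𝟙_ (Over S) ⟶ G} {σ : D.P.Aut} (h : Rl D n σ)
    (h' : Rl D n'⁻¹ σ⁻¹) : ∃ t : 𝟙_ (Over S) ⟶ D.T, n = n' * (t ≫ D.i) := by
  have h1 := (h'.mul h).acts
  rw [inv_mul_cancel, wMap_one] at h1
  obtain ⟨t, ht⟩ := h1.exists_torus
  exact ⟨t, by rw [ht, mul_inv_cancel_left]⟩

variable (D)

theorem acts_of_realises {nr : D.idx → (𝟙_ (Over S) ⟶ G)} (h : RedSub.RealisesReflections D nr) (a : D.idx) :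
    Acts D (nr a) (sMap D a) := acts_reflection_iff.mpr (h a)

/-- a scale putting a pair of opposite root groups in duality -/
def kap [D.P.IsReduced] (a : D.idx) : 𝟙_ (Over S) ⟶ Red.Gm S := (exists_pairing D a).choose

theorem kap_spec [D.P.IsReduced] (a : D.idx) (X : Over S) (x y : X ⟶ Red.Ga S)
    (hu : IsUnit (1 + Red.gaFn x * Red.gaFn y)) :
    ∃ (x' y' : X ⟶ Red.Ga S) (z : X ⟶ Red.Gm S), Red.gmFn z = 1 + Red.gaFn x * Red.gaFn y ∧
        Red.gaFn x' * Red.gmFn z = Red.gaFn x ∧ Red.gaFn y' * Red.gmFn z = Red.gaFn y ∧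
        (x ≫ D.u a) * (y ≫ H21Rank1.powScale 1 (kap D a) ≫ D.u (D.P.reflectionPerm a a)) =
          (y' ≫ H21Rank1.powScale 1 (kap D a) ≫ D.u (D.P.reflectionPerm a a)) *
            (z ≫ (Red.DSmap S (D.P.coroot a).toAddMonoidHom ≫ D.split.inv.hom.hom) ≫ D.i) * (x' ≫ D.u a) :=
  (exists_pairing D a).choose_spec X x y hu

variable (S) in
/-- the coordinate one -/
def oneGa : 𝟙_ (Over S) ⟶ Red.Ga S := (H27Witt.GaCoord.gaFn_surjective (X := 𝟙_ (Over S)) 1).choose

theorem gaFn_oneGa : Red.gaFn (oneGa S) = 1 :=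
  (H27Witt.GaCoord.gaFn_surjective (X := 𝟙_ (Over S)) 1).choose_spec

/-- the reflection section in the group of the two opposite root groups -/
def nS [D.P.IsReduced] (a : D.idx) : 𝟙_ (Over S) ⟶ G :=
  (oneGa S ≫ D.u a) * (((oneGa S)⁻¹ ≫ H21Rank1.powScale 1 (kap D a)) ≫ D.u (D.P.reflectionPerm a a)) *
    (oneGa S ≫ D.u a)

theorem acts_nS [D.P.IsReduced] (a : D.idx) : Acts D (nS D a) (sMap D a) := by
  refine acts_reflection_iff.mpr fun X t => ?_
  let c := D.P.reflectionPerm a a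
  let D' := rescale D c (kap D a)
  have ha : D'.u a = D.u a := rescale_u_of_ne D (ne_refl_self D a) _
  have hc : D'.u c = H21Rank1.powScale 1 (kap D a) ≫ D.u c := rescale_u_self D c _
  haveI := isMonHom_scale (S := S) (kap D a)
  have h := weyl_acts D' (oneGa S) gaFn_oneGa a (Red.DSmap S (D'.P.coroot a).toAddMonoidHom ≫ D'.split.inv.hom.hom) rfl
    (fun X x y hu => by
      obtain ⟨x', y', z, h1, h2, h3, h4⟩ := kap_spec D a X x y hu
      refine ⟨x', y', z, h1, h2, h3, ?_⟩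
      change (x ≫ D'.u a) * (y ≫ D'.u c) = (y' ≫ D'.u c) * _ * (x' ≫ D'.u a)
      rw [ha, hc]
      exact h4) X t
  change (toUnit X ≫ ((oneGa S ≫ D'.u a) * (oneGa S ≫ D'.u c)⁻¹ * (oneGa S ≫ D'.u a))) * (t ≫ D.i) *
      (toUnit X ≫ ((oneGa S ≫ D'.u a) * (oneGa S ≫ D'.u c)⁻¹ * (oneGa S ≫ D'.u a)))⁻¹ = _ at h
  haveI : IsMonHom (D.u c) := (D.rootHom c).1
  haveI : IsMonHom (H21Rank1.powScale 1 (kap D a) ≫ D.u c) := inferInstance
  have e : (oneGa S ≫ H21Rank1.powScale 1 (kap D a) ≫ D.u c)⁻¹ =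
      ((oneGa S)⁻¹ ≫ H21Rank1.powScale 1 (kap D a)) ≫ D.u c := by
    rw [Category.assoc, GrpObj.inv_comp]
  rw [ha, hc, e] at h
  exact h

theorem exists_nS [D.P.IsReduced] (a : D.idx) : ∃ p q r : 𝟙_ (Over S) ⟶ Red.Ga S,
    nS D a = (p ≫ D.u a) * (q ≫ D.u (D.P.reflectionPerm a a)) * (r ≫ D.u a) := ⟨_, _, _, rfl⟩

/-- the chosen section of a word -/
def nW [D.P.IsReduced] (l : List D.idx) : 𝟙_ (Over S) ⟶ G := (l.map (nS D)).prod

theorem rl_nW [D.P.IsReduced] (l : List D.idx) : Rl D (nW D l) (wl D.P l) := rl_prod l fun a _ => acts_nS D a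

theorem rl_nW_inv [D.P.IsReduced] (l : List D.idx) : Rl D (nW D l)⁻¹ (wl D.P l)⁻¹ :=
  rl_prod_inv l fun a _ => acts_nS D a

/-- every automorphism in the Weyl group has a word in the simple reflections -/
theorem exists_simple_word (b : D.P.Base) (l : List D.idx) :
    ∃ l' : List D.idx, (∀ a ∈ l', a ∈ b.support) ∧ wl D.P l' = wl D.P l := by
  haveI := D.fintypeIdx
  haveI : Finite D.idx := Finite.of_fintype _
  have hΔ := H21Root.simpleZ_base (P := D.P) b
  have hmem : wl D.P l ∈ H21Root.WOf D.P (b.support : Set D.idx) := by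
    rw [hΔ.closure_eq_weylGroup]
    exact H21Root.WOf_le D.P Set.univ (H21Root.wl_mem_WOf D.P fun a _ => Set.mem_univ a)
  obtain ⟨l', hl', h⟩ := H21Root.exists_word D.P hmem
  exact ⟨l', hl', h⟩

end Groth.Agent.H21Split
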