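import Groth.Agent.H21Split.Bru.RankOne
import Groth.Agent.H21Split.Bru.R1Cover

/-!
The big cell and a simple root.
-/

open CategoryTheory MonoidalCategory CartesianMonoidalCategory MonObj GrpObj AlgebraicGeometry
open Groth.Agent.H21Root (opp root_opp sr wl)
open Groth.Agent.H27Witt.GaCoord (gaFn_comp gaFn_surjective gaFn_injective gaFn_one)

universe u

set_option backward.isDefEq.respectTransparency false
set_option linter.style.haveILetI false
set_option linter.unusedSectionVars false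
set_option synthInstance.maxHeartbeats 400000

noncomputable section

namespace Groth.Agent.H21Split

variable {S : Scheme.{u}} {G : Over S} [GrpObj G] (D : Red.SplitRed G) (b : D.P.Base)

local notation "Δp" => RedSub.posRoots D.P b
local notation "Δn" => RedSub.negRoots D.P b

section Ring

variable {R : Type u} [CommRing R] (g : Spec (CommRingCat.of R) ⟶ S)

theorem conj_side_mem {d c : D.idx} {h : D.M →+ ℤ} (hl : IsLevi D d c h) {z : pt g R ⟶ G}
    (hz : z ∈ Ug D g {b | 0 < h (D.P.root b)}) (x : R) :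
    uPt g D c x * z * (uPt g D c x)⁻¹ ∈ Ug D g {b | 0 < h (D.P.root b)} := by
  obtain ⟨m, e, he, hrange⟩ := exists_enum D {b | 0 < h (D.P.root b)}
  obtain ⟨v, rfl⟩ := (mem_Ug_iff D g (isPosSet_gt D h) e he hrange).mp hz
  obtain ⟨w, hw⟩ := exists_conj_side D e hl he hrange (ga g x) fun k => ga g (v k)
  rw [xProd_pt, xProd_pt] at hw
  simp only [gv_ga] at hw
  rw [uPt, ← hw]
  exact uProd_mem_Ug D g (fun k => (hrange ▸ ⟨k, rfl⟩ : e k ∈ {b | 0 < h (D.P.root b)})) _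

variable {a : D.idx} (ha : a ∈ b.support)
include ha

theorem conj_pos_mem {z : pt g R ⟶ G} (hz : z ∈ Ug D g (Δp \ {a})) (x : R) :
    uPt g D a x * z * (uPt g D a x)⁻¹ ∈ Ug D g (Δp \ {a}) ∧
      uPt g D (opp D.P a) x * z * (uPt g D (opp D.P a) x)⁻¹ ∈ Ug D g (Δp \ {a}) := by
  obtain ⟨h, hl, hp, -⟩ := exists_levi_simple D b ha
  rw [← hp] at hz ⊢
  exact ⟨conj_side_mem D g hl hz x, conj_side_mem D g hl.symm hz x⟩

theorem conj_neg_mem {z : pt g R ⟶ G} (hz : z ∈ Ug D g (Δn \ {opp D.P a})) (x : R) :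
    uPt g D a x * z * (uPt g D a x)⁻¹ ∈ Ug D g (Δn \ {opp D.P a}) ∧
      uPt g D (opp D.P a) x * z * (uPt g D (opp D.P a) x)⁻¹ ∈ Ug D g (Δn \ {opp D.P a}) := by
  obtain ⟨h, hl, -, hn⟩ := exists_levi_simple D b ha
  rw [← hn] at hz ⊢
  exact ⟨conj_side_mem D g hl.neg hz x, conj_side_mem D g hl.symm.neg hz x⟩

omit ha in
theorem Ur_le_normalizer {c : D.idx} {Ψ : Set D.idx}
    (h : ∀ z ∈ Ug D g Ψ, ∀ x, uPt g D c x * z * (uPt g D c x)⁻¹ ∈ Ug D g Ψ) :
    Ur D g c ≤ Subgroup.normalizer (Ug D g Ψ : Set _) := fun p hp => by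
  obtain ⟨x, rfl⟩ := (mem_Ur D g).mp hp
  rw [Subgroup.mem_normalizer_iff]
  refine fun z => ⟨fun hz => h z hz x, fun hz => ?_⟩
  have := h _ hz (-x)
  rwa [uPt_neg, show (uPt g D c x)⁻¹ * (uPt g D c x * z * (uPt g D c x)⁻¹) * (uPt g D c x)⁻¹⁻¹ = z by group] at this

omit ha in
theorem Ug_eq_sup {Ψ : Set D.idx} {c : D.idx} (hc : c ∈ Ψ) : Ug D g Ψ = Ur D g c ⊔ Ug D g (Ψ \ {c}) := by
  refine le_antisymm (Ug_le D g fun d hd x => ?_) (sup_le (Ur_le_Ug D g hc) (Ug_mono D g Set.sdiff_subset))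
  by_cases hdc : d = c
  · exact hdc ▸ Subgroup.mem_sup_left (uPt_mem_Ur D g d x)
  · exact Subgroup.mem_sup_right (uPt_mem_Ug D g (Ψ := Ψ \ {c}) ⟨hd, hdc⟩ x)

theorem mem_pos_split {z : pt g R ⟶ G} :
    z ∈ Ug D g Δp ↔ ∃ x, ∃ w ∈ Ug D g (Δp \ {a}), uPt g D a x * w = z := by
  rw [← SetLike.mem_coe, Ug_eq_sup D g (simple_mem_pos D b ha), Subgroup.coe_mul_of_left_le_normalizer_right _ _
    (Ur_le_normalizer D g fun z hz x => (conj_pos_mem D b g ha hz x).1), Set.mem_mul]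
  simp only [SetLike.mem_coe, mem_Ur]
  exact ⟨fun ⟨_, ⟨x, hx⟩, w, hw, h⟩ => ⟨x, w, hw, hx ▸ h⟩, fun ⟨x, w, hw, h⟩ => ⟨uPt g D a x, ⟨x, rfl⟩, w, hw, h⟩⟩

theorem mem_neg_split {z : pt g R ⟶ G} :
    z ∈ Ug D g Δn ↔ ∃ w ∈ Ug D g (Δn \ {opp D.P a}), ∃ x, w * uPt g D (opp D.P a) x = z := by
  rw [← SetLike.mem_coe, Ug_eq_sup D g ((opp_neg_iff D b a).mpr (simple_mem_pos D b ha)), sup_comm,
    Subgroup.coe_mul_of_right_le_normalizer_left _ _
    (Ur_le_normalizer D g fun z hz x => (conj_neg_mem D b g ha hz x).2), Set.mem_mul]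
  simp only [SetLike.mem_coe, mem_Ur]
  exact ⟨fun ⟨w, hw, _, ⟨x, hx⟩, h⟩ => ⟨w, hw, x, hx ▸ h⟩, fun ⟨w, hw, x, h⟩ => ⟨w, hw, uPt g D (opp D.P a) x, ⟨x, rfl⟩, h⟩⟩

/-- a rank one cell between the complementary groups lies in the big cell -/
theorem mid_mem_Om {v w : pt g R ⟶ G} (hv : v ∈ Ug D g (Δn \ {opp D.P a})) (hw : w ∈ Ug D g (Δp \ {a})) (c x : R)
    {t : pt g R ⟶ G} (ht : t ∈ Tg D g) : v * (uPt g D (opp D.P a) c * t * uPt g D a x) * w ∈ Om D g b :=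
  ⟨v * uPt g D (opp D.P a) c, (mem_neg_split D b g ha).mpr ⟨v, hv, c, rfl⟩, t, ht, uPt g D a x * w,
    (mem_pos_split D b g ha).mpr ⟨x, w, hw, rfl⟩, by group⟩

end Ring

variable {K : Type u} [Field K] (g : Spec (CommRingCat.of K) ⟶ S)

theorem move_left {H : Type*} [Group H] (p v N C P Q : H) :
    p⁻¹ * (v * (N * C * P) * Q) = (p⁻¹ * v * p) * (p⁻¹ * (N * C * P * Q)) := by group

theorem cover_regroup {H : Type*} [Group H] (v N C P Q w : H) :
    v * (N * C) * (P * w) * Q = v * (N * C * P * Q) * (Q⁻¹ * w * Q) := by group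

set_option maxHeartbeats 1600000 in
/-- the translate of the big cell by the opposite of a simple root is covered by two translates -/
theorem mul_neg_simple {a : D.idx} (ha : a ∈ b.support) {ω : pt g K ⟶ G} (hω : ω ∈ Om D g b) (x : K) (hx : x ≠ 0)
    (y : K) :
    ω * uPt g D (opp D.P a) y ∈ Om D g b ∨ (uPt g D a x)⁻¹ * (ω * uPt g D (opp D.P a) y) ∈ Om D g b := by
  haveI : D.P.IsReduced := by
    haveI := D.fintypeIdx
    haveI : Finite D.idx := Finite.of_fintype _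
    exact isReduced_of_base D.P b
  obtain ⟨v, hv, t, ht, w, hw, rfl⟩ := hω
  obtain ⟨v', hv', c, rfl⟩ := (mem_neg_split D b g ha).mp hv
  obtain ⟨z, w', hw', rfl⟩ := (mem_pos_split D b g ha).mp hw
  set q := uPt g D (opp D.P a) y
  have hw'' : q⁻¹ * w' * q ∈ Ug D g (Δp \ {a}) := by
    have := (conj_pos_mem D b g ha hw' (-y)).2
    rwa [uPt_neg, _root_.inv_inv] at this
  obtain ⟨χ, rfl⟩ := ht
  have hassoc : v' * uPt g D (opp D.P a) c * tPt g D χ * (uPt g D a z * w') * q =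
      v' * (uPt g D (opp D.P a) c * tPt g D χ * uPt g D a z * q) * (q⁻¹ * w' * q) := by group
  rw [hassoc]
  let r := r1 D a (pt g K)
  have hA : ∀ f : Γ((pt g K).left, ⊤), f = 0 ∨ IsUnit f :=
    H21Rank1.field_zero_or_unit (Scheme.ΓSpecIso (CommRingCat.of K))
  haveI : Nontrivial Γ((pt g K).left, ⊤) :=
    (Scheme.ΓSpecIso (CommRingCat.of K)).commRingCatIsoToRingEquiv.toEquiv.nontrivial
  have hxu : IsUnit (Red.gaFn (ga g x)) := isUnit_gaFn_ga g (isUnit_iff_ne_zero.mpr hx)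
  have hP : ∀ s : K, uPt g D a s = r.P (Red.gaFn (ga g s)) := uPt_eq_P D a g
  choose fN hN using exists_uPt_opp D a g
  have hC : tPt g D χ = r.C (ds g χ ≫ D.split.inv.hom.hom) := by
    rw [tPt, ← Category.assoc, r1_C D a]
  have hcell : ∀ {h : pt g K ⟶ G}, r.InCell h → ∀ (v w : pt g K ⟶ G), v ∈ Ug D g (Δn \ {opp D.P a}) →
      w ∈ Ug D g (Δp \ {a}) → v * h * w ∈ Om D g b := by
    rintro h ⟨y', x', t', rfl⟩ v w hv hw
    obtain ⟨c', e1⟩ := (mem_Ur D g).mp (r1_N_mem D a g y')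
    obtain ⟨d', e2⟩ := (mem_Ur D g).mp (r1_P_mem D a g x')
    rw [show r.N y' = _ from e1.symm, show r.P x' = _ from e2.symm]
    exact mid_mem_Om D b g ha hv hw _ _ (r1_C_mem D a g t')
  have hconj := r1_conj D a (X := pt g K)
  rcases r.cover_two hA hconj hxu.unit (fN c)
      (ds g χ ≫ D.split.inv.hom.hom) (Red.gaFn (ga g z)) (fN y) with h | h
  · rw [← hN, ← hP] at h
    left
    have h1 : uPt g D (opp D.P a) c * tPt g D χ * uPt g D a z * q =
        uPt g D (opp D.P a) c * (tPt g D χ * (uPt g D a z * q)) := by group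
    rw [h1, hN c, hC]
    exact hcell (r.inCell_N_left _ (r.inCell_C_left _ h)) _ _ hv' hw''
  · rw [← hN, ← hN, ← hC, ← hP, r.P_neg, IsUnit.unit_spec, ← hP] at h
    right
    have h1 : (uPt g D a x)⁻¹ * (v' * (uPt g D (opp D.P a) c * tPt g D χ * uPt g D a z * q) * (q⁻¹ * w' * q)) =
        ((uPt g D a x)⁻¹ * v' * uPt g D a x) *
          ((uPt g D a x)⁻¹ * (uPt g D (opp D.P a) c * tPt g D χ * uPt g D a z * q)) * (q⁻¹ * w' * q) := by group
    rw [h1]
    refine hcell h _ _ ?_ hw''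
    have := (conj_neg_mem D b g ha hv' (-x)).1
    rwa [uPt_neg, _root_.inv_inv] at this

end Groth.Agent.H21Split
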