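import Groth.Agent.H21Split.Bru.Unipotent

/-!
The unipotent group of an open half space is closed.
-/

open CategoryTheory MonoidalCategory CartesianMonoidalCategory MonObj GrpObj AlgebraicGeometry
open CategoryTheory.Limits

universe u

set_option backward.isDefEq.respectTransparency false
set_option linter.style.haveILetI false
set_option linter.unusedSectionVars false
set_option synthInstance.maxHeartbeats 400000

noncomputable section

namespace Groth.Agent.H21Split

variable {S : Scheme.{u}} {G : Over S} [GrpObj G] (D : Red.SplitRed G)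

section Chart

variable [IsAffineHom G.hom]
variable {R : Type u} [CommRing R] (g : Spec (CommRingCat.of R) ⟶ S) (h : D.M →+ ℤ)
variable {A : Type u} [CommRing A] [Algebra R A]

/-- the conjugate tends to one exactly if the negative coefficients and the constant deviation vanish -/
theorem exists_extend_one_iff (Φ : pt g (LaurentPolynomial A) ⟶ G) :
    (∃ P : pt g (Polynomial A) ⟶ G, pmap g (polyL R A) ≫ P = Φ ∧ pmap g (pev R A 0) ≫ P = 1) ↔
      ∀ a, (∀ k : ℤ, k < 0 → (fn g Φ a).coeff k = 0) ∧ (fn g Φ a).coeff 0 = fn g (1 : pt g A ⟶ G) a := by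
  have h00 : ∀ p : Polynomial A, (polyL R A p).coeff 0 = pev R A 0 p := fun p => by
    rw [polyL_apply, Polynomial.toLaurent_apply, AddMonoidAlgebra.coeff_mapDomain,
      show (0 : ℤ) = ((0 : ℕ) : ℤ) from rfl, Finsupp.mapDomain_apply (f := ((↑) : ℕ → ℤ)) Nat.cast_injective,
      pev_apply, ← Polynomial.coeff_zero_eq_eval_zero]
    rfl
  constructor
  · rintro ⟨P, hP, h1⟩ a
    refine ⟨fun k hk => (exists_extend_iff g Φ).mp ⟨P, hP⟩ a k hk, ?_⟩
    rw [← hP, fn_pmap, AlgHom.comp_apply, h00, ← AlgHom.comp_apply, ← fn_pmap, h1]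
  · intro hc
    obtain ⟨P, hP⟩ := (exists_extend_iff g Φ).mpr fun a k hk => (hc a).1 k hk
    refine ⟨P, hP, fn_injective g (AlgHom.ext fun a => ?_)⟩
    rw [fn_pmap, AlgHom.comp_apply, ← h00, ← AlgHom.comp_apply, ← fn_pmap, hP]
    exact (hc a).2

/-- the condition in terms of the coefficients of the universal point -/
theorem limit_one_iff_coeff {K : Type u} [Field K] [Algebra R K] (φu : pt g A ⟶ G) (φ : A →ₐ[R] K) :
    (∃ P, pmap (Spec.map (CommRingCat.ofHom (algebraMap R K)) ≫ g) (polyL K K) ≫ P =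
        conjL D (Spec.map (CommRingCat.ofHom (algebraMap R K)) ≫ g) h ((towerIso g K K).hom ≫ pmap g φ ≫ φu) ∧
      pmap (Spec.map (CommRingCat.ofHom (algebraMap R K)) ≫ g) (pev K K 0) ≫ P = 1) ↔
      ∀ a, (∀ k : ℤ, k < 0 → φ ((fn g (cjPt D g h φu) a).coeff k) = 0) ∧
        φ ((fn g (cjPt D g h φu) a).coeff 0) = φ (fn g (1 : pt g A ⟶ G) a) := by
  set g' := Spec.map (CommRingCat.ofHom (algebraMap R K)) ≫ g
  haveI : IsScalarTower R K (LaurentPolynomial K) := IsScalarTower.of_algebraMap_eq fun r => rfl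
  haveI : IsScalarTower R K (Polynomial K) := IsScalarTower.of_algebraMap_eq fun r => rfl
  have hc : conjL D g' h ((towerIso g K K).hom ≫ pmap g φ ≫ φu) =
      (towerIso g K (LaurentPolynomial K)).hom ≫ cjPt D g h (pmap g φ ≫ φu) := by
    rw [conjL_apply, cjPt, MonObj.comp_mul, MonObj.comp_mul, GrpObj.comp_inv, towerIso_tPt,
      ← Category.assoc (pmap g' (lconst K K)), towerIso_comm g (lconst K K) (lconst R K) (RingHom.ext fun _ => rfl),
      Category.assoc]
  have hp : pmap g' (polyL K K) ≫ (towerIso g K (Polynomial K)).hom =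
      (towerIso g K (LaurentPolynomial K)).hom ≫ pmap g (polyL R K) :=
    towerIso_comm g (polyL K K) (polyL R K) (RingHom.ext fun _ => rfl)
  have he : pmap g' (pev K K 0) ≫ (towerIso g K (Polynomial K)).hom =
      (towerIso g K K).hom ≫ pmap g (pev R K 0) :=
    towerIso_comm g (pev K K 0) (pev R K 0) (RingHom.ext fun _ => rfl)
  rw [hc]
  have : (∃ P, pmap g' (polyL K K) ≫ P = (towerIso g K (LaurentPolynomial K)).hom ≫ cjPt D g h (pmap g φ ≫ φu) ∧
        pmap g' (pev K K 0) ≫ P = 1) ↔
      ∃ P, pmap g (polyL R K) ≫ P = cjPt D g h (pmap g φ ≫ φu) ∧ pmap g (pev R K 0) ≫ P = 1 := by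
    constructor
    · rintro ⟨P, hP, h1⟩
      refine ⟨(towerIso g K (Polynomial K)).inv ≫ P, ?_, ?_⟩
      · rw [← cancel_epi (towerIso g K (LaurentPolynomial K)).hom, ← reassoc_of% hp, Iso.hom_inv_id_assoc, hP]
      · rw [← cancel_epi (towerIso g K K).hom, ← reassoc_of% he, Iso.hom_inv_id_assoc, h1, MonObj.comp_one]
    · rintro ⟨P, hP, h1⟩
      exact ⟨(towerIso g K (Polynomial K)).hom ≫ P, by rw [reassoc_of% hp, hP],
        by rw [reassoc_of% he, h1, MonObj.comp_one]⟩
  rw [this, exists_extend_one_iff, ← pmap_cjPt, fn_pmap, show (1 : pt g K ⟶ G) = pmap g φ ≫ 1 from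
    (MonObj.comp_one _).symm, fn_pmap]
  simp only [AlgHom.comp_apply, AddMonoidAlgebra.coeff_mapAlgHom]

variable {n m : ℕ} {en : Fin n → D.idx} {ep : Fin m → D.idx}
  (hn : ∀ k, h (D.P.root (en k)) < 0) (hp : ∀ k, 0 < h (D.P.root (ep k))) (hD : IsCellData D en ep)
  (hbij : Function.Bijective (Sum.elim en ep))
include hn hp hD hbij

theorem isClosed_preimage_prodMap [IsOpenImmersion g] {φu : pt g (Crd g G) ⟶ G}
    (hφu : φu.left = (pullback G.hom g).isoSpec.inv ≫ pullback.fst G.hom g) :
    IsClosed (φu.left.base ⁻¹' Set.range (RedSub.prodMap (Red.Ga S) m fun k => D.u (ep k)).left.base) := by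
  haveI := isAffine_pb g (G := G)
  haveI : IsOpenImmersion φu.left := by rw [hφu]; infer_instance
  let Z : Set (Crd g G) := {c | (∃ a, ∃ k : ℤ, k < 0 ∧ c = (fn g (cjPt D g h φu) a).coeff k) ∨
    ∃ a, c = (fn g (cjPt D g h φu) a).coeff 0 - fn g (1 : pt g (Crd g G) ⟶ G) a}
  have key : φu.left.base ⁻¹' Set.range (RedSub.prodMap (Red.Ga S) m fun k => D.u (ep k)).left.base =
      PrimeSpectrum.zeroLocus Z := by
    have chart : ∀ (K : Type u) [Field K] (g' : Spec (CommRingCat.of K) ⟶ S) (j : pt g' K ⟶ G)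
        (p : ↥(pt g (Crd g G)).left), (∀ s, j.left.base s = φu.left.base p) →
        ((∀ c ∈ Z, c ∈ p.asIdeal) ↔
          ∃ P, pmap g' (polyL K K) ≫ P = conjL D g' h j ∧ pmap g' (pev K K 0) ≫ P = 1) := by
      intro K _ g' j p hj
      obtain ⟨l, hl⟩ : ∃ l, l ≫ φu.left = j.left := ⟨IsOpenImmersion.lift φu.left j.left (by
        rintro _ ⟨s, rfl⟩; exact ⟨p, (hj s).symm⟩), IsOpenImmersion.lift_fac _ _ _⟩
      obtain ⟨f, rfl⟩ : ∃ f : CommRingCat.of (Crd g G) ⟶ CommRingCat.of K, Spec.map f = l :=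
        ⟨Spec.preimage l, Spec.map_preimage l⟩
      letI : Algebra R K := (f.hom.comp (algebraMap R (Crd g G))).toAlgebra
      let φ : Crd g G →ₐ[R] K := { f.hom with commutes' := fun _ => rfl }
      have hg : Spec.map (CommRingCat.ofHom (algebraMap R K)) ≫ g = g' := by
        have w := Over.w j
        rw [← hl, Category.assoc, Over.w φu] at w
        change Spec.map f ≫ Spec.map _ ≫ g = Spec.map _ ≫ g' at w
        rw [← Category.assoc, ← Spec.map_comp, show CommRingCat.ofHom (algebraMap K K) = 𝟙 _ from rfl,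
          Spec.map_id, Category.id_comp] at w
        exact w
      subst hg
      have hjeq : j = (towerIso g K K).hom ≫ pmap g φ ≫ φu := by
        ext : 1
        rw [← hl]
        exact (Category.id_comp _).symm
      have hker : p.asIdeal = RingHom.ker φ.toRingHom := by
        have e : p = PrimeSpectrum.comap f.hom (IsLocalRing.closedPoint K) := by
          refine φu.left.isOpenEmbedding.injective ?_
          rw [← hj (IsLocalRing.closedPoint K), ← hl]
          rfl
        rw [e]
        change Ideal.comap f.hom (IsLocalRing.maximalIdeal K) = _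
        rw [IsLocalRing.maximalIdeal_eq_bot]
        rfl
      rw [hjeq, limit_one_iff_coeff, hker]
      constructor
      · refine fun hZ a => ⟨fun k hk => hZ _ (Or.inl ⟨a, k, hk, rfl⟩), sub_eq_zero.mp ?_⟩
        exact (map_sub φ _ _).symm.trans (hZ _ (Or.inr ⟨a, rfl⟩))
      · rintro hA _ (⟨a, k, hk, rfl⟩ | ⟨a, rfl⟩)
        · exact (hA a).1 k hk
        · exact (map_sub φ _ _).trans (sub_eq_zero.mpr (hA a).2)
    ext p
    constructor
    · rintro ⟨w, hw⟩
      obtain ⟨K, _, g', z, hz⟩ := exists_field_point _ w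
      refine fun c hc => (chart K g' (z ≫ RedSub.prodMap (Red.Ga S) m fun k => D.u (ep k)) p fun s => ?_).mpr
        ⟨uProd g' D ep fun k => Polynomial.C (gvs g' z k) * Polynomial.X ^ (h (D.P.root (ep k))).toNat, ?_, ?_⟩ c hc
      · rw [← hw, ← hz s]
        rfl
      · rw [comp_prodMap_u, conjL_apply]
        exact (polyL_prod g' D h ep (fun k => (hp k).le) _).trans (conj_cz_prod g' D h ep _).symm
      · rw [pmap_uProd]
        refine Eq.trans (congrArg (uProd g' D ep) (funext fun k => ?_)) (uProd_zero g' D ep)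
        rw [pev_apply, Polynomial.eval_mul, Polynomial.eval_pow, Polynomial.eval_X,
          zero_pow (by have := hp k; omega), mul_zero]
        rfl
    · intro hZ
      obtain ⟨K, _, g', j, hj⟩ := exists_field_point G (φu.left.base p)
      obtain ⟨P, hP, h1⟩ := (chart K g' j p hj).mp hZ
      obtain ⟨y, hy⟩ := exists_uProd_of_limit_one D g' hn hD hbij hP h1
      exact mem_range_of_eq _ hj (gas g' y) (by rw [comp_prodMap_u, gvs_gas, hy])
  rw [key]
  exact PrimeSpectrum.isClosed_zeroLocus Z

theorem isClosed_range_prodMap :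
    IsClosed (Set.range (RedSub.prodMap (Red.Ga S) m fun k => D.u (ep k)).left.base) := by
  rw [← isOpen_compl_iff, isOpen_iff_forall_mem_open]
  intro x hx
  let i := S.affineCover.idx (G.hom.base x)
  let g := S.affineCover.f i
  haveI : IsOpenImmersion g := S.affineCover.map_prop i
  obtain ⟨φu, -, hφu⟩ := exists_univ (G := G) g
  haveI := isAffine_pb g (G := G)
  haveI : IsOpenImmersion φu.left := by rw [hφu]; infer_instance
  refine ⟨φu.left.base '' (φu.left.base ⁻¹' Set.range (RedSub.prodMap (Red.Ga S) m fun k => D.u (ep k)).left.base)ᶜ, ?_,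
    φu.left.isOpenEmbedding.isOpenMap _ (isClosed_preimage_prodMap D g h hn hp hD hbij hφu).isOpen_compl, ?_⟩
  · rintro _ ⟨p, hp, rfl⟩
    exact hp
  · have : x ∈ Set.range (pullback.fst G.hom g).base := by
      rw [Scheme.Pullback.range_fst]
      exact S.affineCover.covers (G.hom.base x)
    obtain ⟨y, hy⟩ := this
    refine ⟨(pullback G.hom g).isoSpec.hom.base y, ?_, ?_⟩
    · rintro ⟨w, hw⟩
      refine hx ⟨w, hw.trans ?_⟩
      rw [hφu]
      exact (Scheme.Hom.comp_apply _ _ _).symm.trans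
        ((congrArg (fun f : pullback G.hom g ⟶ G.left => f y) (Iso.hom_inv_id_assoc _ _)).trans hy)
    · rw [hφu]
      exact (Scheme.Hom.comp_apply _ _ _).symm.trans
        ((congrArg (fun f : pullback G.hom g ⟶ G.left => f y) (Iso.hom_inv_id_assoc _ _)).trans hy)

end Chart

/-- the inclusion of the right factor of a cell -/
def posEmb (n : ℕ) {m : ℕ} : RedSub.pow (Red.Ga S) m ⟶
    RedSub.pow (Red.Ga S) n ⊗ (D.T ⊗ RedSub.pow (Red.Ga S) m) :=
  lift (tuple n fun _ => 1) (lift 1 (𝟙 _))

theorem posEmb_comp {n m : ℕ} (en : Fin n → D.idx) (ep : Fin m → D.idx) :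
    posEmb D n ≫ RedSub.cellMap D en ep = RedSub.prodMap (Red.Ga S) m (fun k => D.u (ep k)) := by
  refine hom_ext_pt fun R _ g z => ?_
  rw [← Category.assoc, comp_cellMap g D en ep _ 1 (by
    simp only [posEmb, tPt_one, Category.assoc, lift_snd_assoc, lift_fst_assoc, MonObj.one_comp, MonObj.comp_one])]
  simp only [posEmb, Category.assoc, lift_fst, lift_snd_assoc, lift_snd]
  rw [gvs_tuple_one, cellPt, uProd_zero, tPt_one, _root_.one_mul, _root_.one_mul, comp_prodMap_u, Category.comp_id]

/-- the product map of an open half space is a closed immersion -/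
theorem isClosedImmersion_prodMap_half {h : D.M →+ ℤ} (hreg : ∀ a, h (D.P.root a) ≠ 0) {m : ℕ}
    {ep : Fin m → D.idx} (he : Function.Injective ep) (hr : Set.range ep = {c | 0 < h (D.P.root c)}) :
    IsClosedImmersion (RedSub.prodMap (Red.Ga S) m fun k => D.u (ep k)).left := by
  haveI := isAffineHom_hom D
  obtain ⟨n, en, hen, hrn⟩ := exists_enum D {c | 0 < (-h) (D.P.root c)}
  have hn : ∀ k, h (D.P.root (en k)) < 0 := fun k => by
    have := hrn.subset ⟨k, rfl⟩
    change 0 < -(h (D.P.root (en k))) at this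
    omega
  have hp : ∀ k, 0 < h (D.P.root (ep k)) := fun k => hr.subset ⟨k, rfl⟩
  have hD : IsCellData D en ep :=
    ⟨hen, he, hrn.symm ▸ isPosSet_gt D (-h), hr.symm ▸ isPosSet_gt D h, h, hn, hp⟩
  have hbij : Function.Bijective (Sum.elim en ep) := by
    refine ⟨fun x y hxy => ?_, fun c => ?_⟩
    · rcases x with k | k <;> rcases y with l | l <;> simp only [Sum.elim_inl, Sum.elim_inr] at hxy
      · rw [hen hxy]
      · have h1 := hn k; have h2 := hp l; rw [hxy] at h1; omega
      · have h1 := hp k; have h2 := hn l; rw [hxy] at h1; omega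
      · rw [he hxy]
    · rcases lt_or_gt_of_ne (hreg c) with hc | hc
      · obtain ⟨k, rfl⟩ := hrn.symm.subset (show 0 < -(h (D.P.root c)) by omega)
        exact ⟨Sum.inl k, rfl⟩
      · obtain ⟨k, rfl⟩ := hr.symm.subset hc
        exact ⟨Sum.inr k, rfl⟩
  haveI := isOpenImmersion_cellMap D en ep hD hbij
  haveI : IsSeparated (RedSub.pow (Red.Ga S) n ⊗ (D.T ⊗ RedSub.pow (Red.Ga S) m)).hom := by
    rw [← Over.w (RedSub.cellMap D en ep)]
    infer_instance
  haveI := H21Rank1.isClosedImmersion_of_section (posEmb D n (m := m)) (snd _ _ ≫ snd _ _) (by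
    rw [← Category.assoc]; simp only [posEmb, lift_snd])
  haveI : IsImmersion (RedSub.prodMap (Red.Ga S) m fun k => D.u (ep k)).left := by
    rw [← posEmb_comp D en ep]
    change IsImmersion ((posEmb D n).left ≫ (RedSub.cellMap D en ep).left)
    infer_instance
  rw [IsClosedImmersion.iff_isPreimmersion]
  exact ⟨inferInstance, isClosed_range_prodMap D h hn hp hD hbij⟩

end Groth.Agent.H21Split
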