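import Groth.Agent.H21Split.Bru.Borel
import Groth.Agent.H21Split.Bru.Fibre
import Groth.Agent.H21Weil.NoTorus
import Groth.Agent.H21Rank1.GaProps

/-!
The unipotent groups of closed sets of roots: closedness, absence of torsion, no choice of a base needed.
-/

open CategoryTheory MonoidalCategory CartesianMonoidalCategory MonObj GrpObj AlgebraicGeometry
open CategoryTheory.Limits

universe u

set_option backward.isDefEq.respectTransparency false
set_option linter.style.haveILetI false
set_option linter.unusedSectionVars false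
set_option synthInstance.maxHeartbeats 400000

noncomputable section

namespace Groth.Agent.H21Split

variable {S : Scheme.{u}} {G : Over S} [GrpObj G] (D : Red.SplitRed G)

/-- a functional positive on a set, nonzero on all roots -/
theorem exists_regular_of_isPosSet {Ψ : Set D.idx} (hΨ : IsPosSet D.P Ψ) :
    ∃ h : D.M →+ ℤ, (∀ a ∈ Ψ, 0 < h (D.P.root a)) ∧ ∀ a, h (D.P.root a) ≠ 0 := by
  classical
  haveI := D.fintypeIdx
  haveI : Finite D.idx := Finite.of_fintype _
  obtain ⟨h₀, h₀pos⟩ := hΨ.exists_functional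
  have hex : ∀ s : Finset D.idx, ∃ f : D.M →+ ℤ, ∀ a ∈ s, f (D.P.root a) ≠ 0 := by
    intro s
    induction s using Finset.induction_on with
    | empty => exact ⟨0, by simp⟩
    | insert a s _ ih =>
      obtain ⟨f, hf⟩ := ih
      obtain ⟨g₁, hg₁⟩ : ∃ g₁ : D.M →+ ℤ, g₁ (D.P.root a) ≠ 0 :=
        ⟨(D.P.coroot' a).toAddMonoidHom, by
          change D.P.coroot' a (D.P.root a) ≠ 0
          rw [D.P.root_coroot'_eq_pairing, D.P.pairing_same]; norm_num⟩
      obtain ⟨k, hk⟩ := Infinite.exists_notMem_finset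
        ((insert a s).image fun c => -(f (D.P.root c)) / g₁ (D.P.root c))
      refine ⟨f + k • g₁, fun c hc h0 => ?_⟩
      simp only [AddMonoidHom.add_apply, AddMonoidHom.smul_apply, smul_eq_mul] at h0
      by_cases hg : g₁ (D.P.root c) = 0
      · rw [hg, mul_zero, add_zero] at h0
        rcases Finset.mem_insert.mp hc with rfl | hc'
        exacts [hg₁ hg, hf c hc' h0]
      · exact hk (Finset.mem_image.mpr ⟨c, hc, by
          rw [show -(f (D.P.root c)) = k * g₁ (D.P.root c) by linarith, Int.mul_ediv_cancel _ hg]⟩)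
  obtain ⟨f, hf⟩ := hex Finset.univ
  obtain ⟨B, hB⟩ := (Set.finite_range fun c : D.idx => |f (D.P.root c)|).bddAbove
  have hb : ∀ c, |f (D.P.root c)| ≤ B := fun c => hB ⟨c, rfl⟩
  refine ⟨(B + 1) • h₀ + f, fun a ha => ?_, fun a h0 => ?_⟩
  · simp only [AddMonoidHom.add_apply, AddMonoidHom.smul_apply, smul_eq_mul]
    have := h₀pos a ha
    have := hb a
    have h1 := abs_le.mp this
    have h2 : B + 1 ≤ (B + 1) * h₀ (D.P.root a) :=
      le_mul_of_one_le_right (by have := abs_nonneg (f (D.P.root a)); omega) (by omega)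
    omega
  · simp only [AddMonoidHom.add_apply, AddMonoidHom.smul_apply, smul_eq_mul] at h0
    have hfa := hf a (Finset.mem_univ a)
    have h1 := abs_le.mp (hb a)
    rcases lt_trichotomy (h₀ (D.P.root a)) 0 with h | h | h
    · nlinarith
    · rw [h, mul_zero, zero_add] at h0; exact hfa h0
    · nlinarith

section Ring

variable {R : Type u} [CommRing R] (g : Spec (CommRingCat.of R) ⟶ S) {B : Type u} [CommRing B] [Algebra R B]

/-- a root product in square zero values is additive -/
theorem uProd_pow_sq [IsAffineHom G.hom] (I : Ideal B) (hI : I * I = ⊥) {m : ℕ} (e : Fin m → D.idx)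
    {v : Fin m → B} (hv : ∀ k, v k ∈ I) : ∀ n : ℕ, uProd g D e v ^ n = uProd g D e fun k => (n : B) * v k
  | 0 => by
    rw [pow_zero, show (fun k => ((0 : ℕ) : B) * v k) = (0 : Fin m → B) from funext fun k => by simp]
    exact (uProd_zero g D e).symm
  | n + 1 => by
    rw [pow_succ, uProd_pow_sq I hI e hv n, uProd, uProd, uProd, ← prod_ofFn_mul _ _ fun i j => ?_]
    · congr
      funext k
      rw [← uPt_add]
      congr 1
      push_cast; ring
    · exact commute_of_mul_eq_bot g I I hI (dev_uPt_mem g D I _ (hv i))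
        (dev_uPt_mem g D I _ (I.mul_mem_left _ (hv j)))

/-- products of root points in an open half space have no torsion of invertible order -/
theorem uProd_torsion [IsAffineHom G.hom] {m : ℕ} (e : Fin m → D.idx) (he : Function.Injective e) (h : D.M →+ ℤ)
    (hpos : ∀ k, 0 < h (D.P.root (e k))) {x : Fin m → B} {ℓ : ℕ} (hℓ : IsUnit (ℓ : B))
    (hx : uProd g D e x ^ ℓ = 1) : x = 0 := by
  classical
  let d : Fin m → ℕ := fun k => (h (D.P.root (e k))).toNat
  have hd : ∀ k, 1 ≤ d k := fun k => by have := hpos k; simp only [d]; omega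
  have hP : uProd g D e (fun k => Polynomial.C (x k) * Polynomial.X ^ d k) ^ ℓ = 1 := by
    refine ext_of_injective g (polyL R B) polyL_injective ?_
    rw [MonObj.comp_pow, uProd, polyL_prod g D h e fun k => (hpos k).le, ← conj_cz_prod, conj_pow, ← MonObj.comp_pow,
      ← uProd, hx, MonObj.comp_one, MonObj.comp_one]
    group
  suffices ∀ N, ∀ k, d k ≤ N → x k = 0 from funext fun k => this _ k le_rfl
  intro N
  induction N with
  | zero => intro k hk; have := hd k; omega
  | succ N ih =>
    let J : Ideal (Polynomial B) := Ideal.span {Polynomial.X ^ (N + 2)}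
    let q : Polynomial B →ₐ[R] Polynomial B ⧸ J := Ideal.Quotient.mkₐ R J
    let I : Ideal (Polynomial B ⧸ J) := Ideal.span {q Polynomial.X ^ (N + 1)}
    have hI : I * I = ⊥ := by
      rw [Ideal.span_singleton_mul_span_singleton, ← pow_add, ← map_pow]
      refine Ideal.span_singleton_eq_bot.mpr (Ideal.Quotient.eq_zero_iff_mem.mpr (Ideal.mem_span_singleton.mpr ?_))
      exact pow_dvd_pow _ (by omega)
    let v : Fin m → Polynomial B ⧸ J := fun k => q (Polynomial.C (x k) * Polynomial.X ^ d k)
    have hv : ∀ k, v k ∈ I := fun k => by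
      by_cases hk : d k ≤ N
      · simp only [v, ih k hk, map_zero, zero_mul]; exact I.zero_mem
      · simp only [v]
        rw [map_mul, map_pow, show d k = N + 1 + (d k - (N + 1)) by omega, pow_add]
        exact I.mul_mem_left _ (I.mul_mem_right _ (Ideal.mem_span_singleton_self _))
    have heq := congrArg (fun φ => pmap g q ≫ φ) hP
    simp only [MonObj.comp_pow, pmap_uProd, MonObj.comp_one] at heq
    rw [uProd_pow_sq D g I hI e hv ℓ, ← uProd_zero g D e] at heq
    have hh := prod_uPt_sq_injective g D I hI e he (fun k => I.mul_mem_left _ (hv k)) (fun k => I.zero_mem) heq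
    intro k hk
    rcases Nat.lt_or_ge (d k) (N + 1) with h1 | h1
    · exact ih k (by omega)
    have hkN : d k = N + 1 := by omega
    have h2 : (ℓ : Polynomial B ⧸ J) * v k = 0 := congrFun hh k
    have h3 : v k = 0 := by
      have hu : IsUnit (ℓ : Polynomial B ⧸ J) := by
        simpa using hℓ.map ((q.toRingHom).comp Polynomial.C)
      exact hu.mul_right_eq_zero.mp h2
    have h4 := Ideal.mem_span_singleton.mp (Ideal.Quotient.eq_zero_iff_mem.mp h3)
    rw [Polynomial.X_pow_dvd_iff] at h4
    have h5 := h4 (d k) (by omega)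
    rwa [Polynomial.coeff_C_mul_X_pow, if_pos rfl] at h5

/-- conjugation of a cell point by a point of the torus -/
theorem tPt_conj_cellPt {n m : ℕ} (en : Fin n → D.idx) (ep : Fin m → D.idx) (τ : Multiplicative D.M →* B)
    (x : Fin n → B) (χ : Multiplicative D.M →* B) (y : Fin m → B) :
    tPt g D τ * cellPt g D en ep x χ y * (tPt g D τ)⁻¹ = cellPt g D en ep
      (fun k => τ (Multiplicative.ofAdd (D.P.root (en k))) * x k) χ
      (fun k => τ (Multiplicative.ofAdd (D.P.root (ep k))) * y k) := by
  rw [cellPt, cellPt, conjT, conjT, (tPt_commute g D τ χ).eq, mul_inv_cancel_right, tPt_conj_uProd, tPt_conj_uProd]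

end Ring

variable {K : Type u} [Field K] (g : Spec (CommRingCat.of K) ⟶ S)

/-- conjugation of a cell point by a cocharacter -/
theorem conjL_cellPt (h : D.M →+ ℤ) {n m : ℕ} (en : Fin n → D.idx) (ep : Fin m → D.idx) (x : Fin n → K)
    (χ : Multiplicative D.M →* K) (y : Fin m → K) :
    conjL D g h (cellPt g D en ep x χ y) = cellPt g D en ep
      (fun k => LaurentPolynomial.T (h (D.P.root (en k))) * LaurentPolynomial.C (x k))
      ((lconst K K).toRingHom.toMonoidHom.comp χ)
      (fun k => LaurentPolynomial.T (h (D.P.root (ep k))) * LaurentPolynomial.C (y k)) := by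
  rw [conjL_apply, pmap_cellPt, tPt_conj_cellPt]
  rfl

theorem sandwich_conj {H : Type*} [Group H] (a z : H) : a⁻¹ * (a * z * a⁻¹) * a = z := by group

/-- a point whose conjugates tend to one lies in the unipotent group of the open half space -/
theorem exists_uProd_of_limit_one {h : D.M →+ ℤ} {n m : ℕ} {en : Fin n → D.idx} {ep : Fin m → D.idx}
    (hn : ∀ k, h (D.P.root (en k)) < 0) (hD : IsCellData D en ep)
    (hbij : Function.Bijective (Sum.elim en ep)) {j : pt g K ⟶ G} {P : pt g (Polynomial K) ⟶ G}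
    (hP : pmap g (polyL K K) ≫ P = conjL D g h j) (h0 : pmap g (pev K K 0) ≫ P = 1) :
    ∃ y, uProd g D ep y = j := by
  haveI := isAffineHom_hom D
  haveI := isOpenImmersion_cellMap D en ep hD hbij
  let c := RedSub.cellMap D en ep
  let p0 : ↥(pt g (Polynomial K)).left := (pmap g (pev K K 0)).left (IsLocalRing.closedPoint K)
  have hp0 : P.left p0 ∈ Set.range c.left.base := by
    change (pmap g (pev K K 0) ≫ P).left (IsLocalRing.closedPoint K) ∈ _
    rw [h0, H21Rank1.one_left_apply]
    exact eta_mem_range D en ep _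
  let L := FractionRing (LaurentPolynomial K)
  let f : LaurentPolynomial K →ₐ[K] L := IsScalarTower.toAlgHom K _ _
  let fK : K →ₐ[K] L := Algebra.ofId K L
  let pL : ↥(pt g L).left := IsLocalRing.closedPoint L
  have hgen : P.left ((pmap g (polyL K K)).left ((pmap g f).left pL)) ∈ Set.range c.left.base := by
    have hU : IsOpen (P.left.base ⁻¹' Set.range c.left.base) :=
      c.left.isOpenEmbedding.isOpen_range.preimage P.left.continuous
    refine (?_ : (pmap g (polyL K K)).left ((pmap g f).left pL) ⤳ p0).mem_open hU hp0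
    refine (PrimeSpectrum.le_iff_specializes _ _).mp fun a ha => ?_
    have h1 : f (polyL K K a) ∈ IsLocalRing.maximalIdeal L := ha
    rw [IsLocalRing.maximalIdeal_eq_bot, Ideal.mem_bot] at h1
    have h2 : polyL K K a = 0 := IsFractionRing.injective (LaurentPolynomial K) L (h1.trans (map_zero _).symm)
    rw [← map_zero (polyL K K)] at h2
    rw [polyL_injective h2]
    exact Ideal.zero_mem _
  have hjΩ : ∀ s, j.left s ∈ Set.range c.left.base := by
    intro s
    obtain ⟨ω, hω⟩ := H21Rank1.exists_lift_of_range_subset c (pmap g f ≫ conjL D g h j) (by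
      rintro _ ⟨t, rfl⟩
      haveI : Subsingleton ↥(pt g L).left := inferInstanceAs (Subsingleton (PrimeSpectrum L))
      rw [Subsingleton.elim t pL, ← hP]
      exact hgen)
    obtain ⟨χ, hχ⟩ := exists_tPt g D (ω ≫ snd _ _ ≫ fst _ _)
    rw [comp_cellMap g D en ep ω χ hχ, conjL_apply, MonObj.comp_mul, MonObj.comp_mul, GrpObj.comp_inv, pmap_tPt,
      ← Category.assoc (pmap g f), pmap_comp, show f.comp (lconst K K) = fK from Algebra.ext_id _ _ _] at hω
    obtain ⟨τi, hτi⟩ : ∃ τi, tPt g D τi = (tPt g D (f.toRingHom.toMonoidHom.comp (cz K D h)))⁻¹ := by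
      obtain ⟨τi, h'⟩ := exists_tPt g D (ds g (f.toRingHom.toMonoidHom.comp (cz K D h)) ≫ D.split.inv.hom.hom)⁻¹
      exact ⟨τi, h'.trans (by rw [GrpObj.inv_comp, tPt, Category.assoc])⟩
    have e3 : pmap g fK ≫ j = tPt g D τi * cellPt g D en ep (gvs g (ω ≫ fst _ _)) χ
        (gvs g (ω ≫ snd _ _ ≫ snd _ _)) * (tPt g D τi)⁻¹ := by
      rw [hτi, hω]; group
    rw [tPt_conj_cellPt] at e3
    have e : pmap g fK ≫ j ∈ Set.range fun w => w ≫ c := by
      rw [e3]
      refine ⟨lift (gas g fun k => τi (Multiplicative.ofAdd (D.P.root (en k))) * gvs g (ω ≫ fst _ _) k)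
        (lift (ds g χ ≫ D.split.inv.hom.hom)
          (gas g fun k => τi (Multiplicative.ofAdd (D.P.root (ep k))) * gvs g (ω ≫ snd _ _ ≫ snd _ _) k)), ?_⟩
      change _ ≫ RedSub.cellMap D en ep = _
      rw [comp_cellMap g D en ep _ χ (by simp only [tPt, lift_snd_assoc, lift_fst, Category.assoc]), lift_fst,
        lift_snd_assoc, lift_snd, gvs_gas, gvs_gas]
    obtain ⟨w, hw⟩ := e
    refine ⟨w.left pL, ?_⟩
    haveI : Subsingleton ↥(pt g K).left := inferInstanceAs (Subsingleton (PrimeSpectrum K))
    rw [Subsingleton.elim s ((pmap g fK).left pL)]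
    exact congrArg (fun z : pt g L ⟶ G => z.left pL) hw
  obtain ⟨ω, hω⟩ := H21Rank1.exists_lift_of_range_subset c j (by rintro _ ⟨s, rfl⟩; exact hjΩ s)
  obtain ⟨χ, hχ⟩ := exists_tPt g D (ω ≫ snd _ _ ≫ fst _ _)
  rw [comp_cellMap g D en ep ω χ hχ] at hω
  set x := gvs g (ω ≫ fst _ _)
  set y := gvs g (ω ≫ snd _ _ ≫ snd _ _)
  have hc := conjL_cellPt D g h en ep x χ y
  rw [hω] at hc
  let ω' : pt g (LaurentPolynomial K) ⟶ RedSub.pow (Red.Ga S) n ⊗ (D.T ⊗ RedSub.pow (Red.Ga S) m) :=
    lift (gas g fun k => LaurentPolynomial.T (h (D.P.root (en k))) * LaurentPolynomial.C (x k))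
      (lift (ds g ((lconst K K).toRingHom.toMonoidHom.comp χ) ≫ D.split.inv.hom.hom)
        (gas g fun k => LaurentPolynomial.T (h (D.P.root (ep k))) * LaurentPolynomial.C (y k)))
  have hω' : ω' ≫ c = conjL D g h j := by
    rw [hc, comp_cellMap g D en ep _ ((lconst K K).toRingHom.toMonoidHom.comp χ) (by simp only [ω', tPt, lift_snd_assoc, lift_fst, Category.assoc])]
    simp only [ω', lift_fst, lift_snd_assoc, lift_snd, gvs_gas]
  obtain ⟨ωP, hωP⟩ := H21Rank1.exists_lift_of_range_subset c P (by
    rintro _ ⟨q, rfl⟩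
    by_cases hq : Polynomial.X ∈ q.asIdeal
    · have hq0 : q = p0 := by
        refine PrimeSpectrum.ext ?_
        have hmax : (RingHom.ker (pev K K 0).toRingHom).IsMaximal :=
          RingHom.ker_isMaximal_of_surjective _ fun x => ⟨Polynomial.C x, by simp [pev_apply]⟩
        have hle : RingHom.ker (pev K K 0).toRingHom ≤ q.asIdeal := fun f hf => by
          have hf0 : f.eval 0 = 0 := by simpa [RingHom.mem_ker, pev_apply] using hf
          obtain ⟨f', rfl⟩ := Polynomial.X_dvd_iff.mpr ((Polynomial.coeff_zero_eq_eval_zero f).trans hf0)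
          exact q.asIdeal.mul_mem_right _ hq
        refine (hmax.eq_of_le q.isPrime.ne_top hle).symm.trans ?_
        change _ = Ideal.comap (pev K K 0).toRingHom (IsLocalRing.maximalIdeal K)
        rw [IsLocalRing.maximalIdeal_eq_bot]
        rfl
      rw [hq0]
      exact hp0
    · have h4 : q ∈ Set.range (PrimeSpectrum.comap (algebraMap (Polynomial K) (LaurentPolynomial K))) := by
        rw [PrimeSpectrum.localization_away_comap_range (LaurentPolynomial K) (Polynomial.X : Polynomial K)]
        exact hq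
      obtain ⟨q', rfl⟩ := h4
      change (pmap g (polyL K K) ≫ P).left q' ∈ _
      rw [hP, ← hω']
      exact ⟨ω'.left q', rfl⟩)
  obtain ⟨ψ, hψ⟩ := exists_tPt g D (ωP ≫ snd _ _ ≫ fst _ _)
  rw [comp_cellMap g D en ep ωP ψ hψ] at hωP
  have e1 := congrArg (pmap g (polyL K K) ≫ ·) hωP
  simp only [hP, hc, pmap_cellPt] at e1
  obtain ⟨ex, eχ, -⟩ := cellPt_injective g D hD e1
  have hx : x = 0 := funext fun k => by
    have h5 := congrArg (fun z : LaurentPolynomial K => z.coeff (h (D.P.root (en k)))) (congrFun ex k)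
    simp only [polyL_apply, Polynomial.toLaurent_apply, AddMonoidAlgebra.coeff_mapDomain] at h5
    rw [Finsupp.mapDomain_of_notMem_range _ _ (by
      rintro ⟨i, hi⟩
      have hnk := hn k
      rw [← hi] at hnk
      exact absurd hnk (not_lt.mpr (Int.natCast_nonneg i))), _root_.mul_comm,
      ← LaurentPolynomial.single_eq_C_mul_T, AddMonoidAlgebra.coeff_single, Finsupp.single_eq_same] at h5
    exact h5.symm
  have e2 := congrArg (pmap g (pev K K 0) ≫ ·) hωP
  simp only [h0, pmap_cellPt] at e2
  rw [show (1 : pt g K ⟶ G) = cellPt g D en ep 0 1 0 by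
    rw [cellPt, uProd_zero, uProd_zero, tPt_one, _root_.one_mul, _root_.one_mul]] at e2
  obtain ⟨-, eψ, -⟩ := cellPt_injective g D hD e2
  have hχ1 : χ = 1 := MonoidHom.ext fun z => by
    have h6 := DFunLike.congr_fun eχ z
    change polyL K K (ψ z) = LaurentPolynomial.C (χ z) at h6
    have h7 : ψ z = Polynomial.C (χ z) :=
      polyL_injective (h6.trans (Polynomial.toLaurent_C _).symm)
    have h8 : pev K K 0 (ψ z) = 1 := DFunLike.congr_fun eψ z
    rw [h7, pev_apply, Polynomial.eval_C] at h8
    exact h8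
  refine ⟨y, ?_⟩
  rw [← hω, hx, hχ1, cellPt, uProd_zero, tPt_one, _root_.one_mul, _root_.one_mul]

end Groth.Agent.H21Split
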