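import Groth.Agent.H21Split.Bru.Cover

/-!
Disjointness of the Bruhat sets.
-/

open CategoryTheory MonoidalCategory CartesianMonoidalCategory MonObj GrpObj AlgebraicGeometry
open Groth.Agent.H21Root (opp root_opp sr wl wl_cons wl_append smul_opp)

universe u

set_option backward.isDefEq.respectTransparency false
set_option linter.style.haveILetI false
set_option linter.unusedSectionVars false
set_option synthInstance.maxHeartbeats 400000

noncomputable section

namespace Groth.Agent.H21Split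

variable {S : Scheme.{u}} {G : Over S} [GrpObj G] (D : Red.SplitRed G) (b : D.P.Base)

local notation "Δp" => RedSub.posRoots D.P b
local notation "Δn" => RedSub.negRoots D.P b

/-- two points with the same image lie on a common field valued point -/
theorem exists_common_point {X Y Z : Over S} (f : X ⟶ Z) (f' : Y ⟶ Z) (q : ↥X.left) (q' : ↥Y.left)
    (h : f.left.base q = f'.left.base q') :
    ∃ (K : Type u) (_ : Field K) (g : Spec (CommRingCat.of K) ⟶ S) (j : pt g K ⟶ X) (j' : pt g K ⟶ Y),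
      j ≫ f = j' ≫ f' := by
  obtain ⟨z, -, -⟩ := Scheme.Pullback.exists_preimage_pullback (f := f.left) (g := f'.left) q q' h
  let P : Over S := Over.mk (Limits.pullback.fst f.left f'.left ≫ X.hom)
  obtain ⟨K, _, g, j, -⟩ := exists_field_point P z
  let p1 : P ⟶ X := Over.homMk (Limits.pullback.fst f.left f'.left) rfl
  let p2 : P ⟶ Y := Over.homMk (Limits.pullback.snd f.left f'.left) (by
    change Limits.pullback.snd f.left f'.left ≫ Y.hom = Limits.pullback.fst f.left f'.left ≫ X.hom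
    rw [← Over.w f', ← Over.w f, Limits.pullback.condition_assoc])
  refine ⟨K, inferInstance, g, j ≫ p1, j ≫ p2, ?_⟩
  rw [Category.assoc, Category.assoc]
  congr 1
  ext : 1
  exact Limits.pullback.condition

variable {K : Type u} [Field K] (g : Spec (CommRingCat.of K) ⟶ S)

/-- a section normalising the torus that lies in the big cell acts trivially -/
theorem acts_trivial_of_mem_Om {m : 𝟙_ (Over S) ⟶ G} {τ : D.P.Aut} (hm : Rl D m τ) (h : sec g m ∈ Om D g b) :
    τ = 1 := by
  obtain ⟨n, en, hen⟩ := exists_enum D Δn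
  obtain ⟨k, ep, hep⟩ := exists_enum D Δp
  obtain ⟨ω, hω⟩ := (mem_Om_iff_lift D g hen hep).mp h
  have hnorm : ∀ (X' : Over S) (y : X' ⟶ pt g K) (t : X' ⟶ D.T), ∃ t' : X' ⟶ D.T,
      (y ≫ ω ≫ RedSub.cellMap D en ep) * (t ≫ D.i) * (y ≫ ω ≫ RedSub.cellMap D en ep)⁻¹ = t' ≫ D.i := by
    intro X' y t
    refine ⟨t ≫ D.split.hom.hom.hom ≫ Red.DSmap S (wMap D τ) ≫ D.split.inv.hom.hom, ?_⟩
    rw [hω, sec, ← Category.assoc, toUnit_unique (y ≫ toUnit _) (toUnit X')]
    refine hom_ext_pt fun R _ g' j => ?_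
    obtain ⟨χ, hχ⟩ := ds_surjective g' ((j ≫ t) ≫ D.split.hom.hom.hom)
    have ht : (j ≫ t) = ds g' χ ≫ D.split.inv.hom.hom := by
      rw [hχ, Category.assoc, split_hom_inv, Category.comp_id]
    rw [MonObj.comp_mul, MonObj.comp_mul, GrpObj.comp_inv, ← Category.assoc j (toUnit X'),
      toUnit_unique (j ≫ toUnit X') (toUnit _)]
    simp only [← Category.assoc]
    rw [ht, Category.assoc, Category.assoc, ← tPt, hm.acts R g' R χ]
    simp only [Category.assoc, reassoc_of% (split_inv_hom D)]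
    rw [← Category.assoc (ds g' χ) (Red.DSmap S _), ds_DSmap]
    rfl
  have e := cell_eq_torus_of_normalizes D (isCellData_of_base D b hen hep).1 ω hnorm
  rw [hω] at e
  refine wMap_injective D ?_
  rw [wMap_one]
  refine AddMonoidHom.ext fun x => ?_
  let B := MonoidAlgebra K (Multiplicative D.M)
  let χ : Multiplicative D.M →* B := MonoidAlgebra.of K _
  have h1 := hm.acts K g B χ
  have h2 : (toUnit (pt g B) ≫ m) = pmap g (toBase K B) ≫ sec g m := by
    rw [sec, ← Category.assoc, toUnit_unique (pmap g (toBase K B) ≫ toUnit _) (toUnit _)]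
  obtain ⟨χ₀, hχ₀⟩ := exists_tPt g D (ω ≫ snd _ _ ≫ fst _ _)
  rw [h2, e, ← hχ₀, pmap_tPt, (tPt_commute g D _ χ).eq, mul_inv_cancel_right] at h1
  have h3 := DFunLike.congr_fun (tPt_injective g D h1) (Multiplicative.ofAdd x)
  exact (Multiplicative.ofAdd.injective (MonoidAlgebra.of_injective h3)).symm

/-- the Bruhat set determines the automorphism -/
theorem eq_of_cells [D.P.IsReduced] {n n' : 𝟙_ (Over S) ⟶ G} {σ σ' : D.P.Aut} (hn : Rl D n σ)
    (hn' : Rl D n'⁻¹ σ'⁻¹) {p q p' q' : pt g K ⟶ G} (hp : p ∈ Bp D b g) (hq : q ∈ Bp D b g) (hp' : p' ∈ Bp D b g)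
    (hq' : q' ∈ Bp D b g) (h : p * sec g n * q = p' * sec g n' * q') : σ = σ' := by
  have hmem : sec g (n'⁻¹ * n) ∈ Om D g b := by
    have hP : p⁻¹ * p' ∈ Bp D b g := mul_mem (inv_mem hp) hp'
    obtain ⟨t, ht, u, hu, htu⟩ := (mem_TU D g).mp hP
    set N := sec g n'
    have e : sec g (n'⁻¹ * n) = (N⁻¹ * t * N) * (N⁻¹ * u * N) * (q' * q⁻¹) := by
      have h1 : sec g n * q = t * u * N * q' := by
        rw [htu, show p⁻¹ * p' * N * q' = p⁻¹ * (p' * N * q') by group, ← h]; group
      rw [sec_mul, sec_inv, ← mul_inv_eq_iff_eq_mul.mpr h1.symm]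
      simp only [N]
      group
    obtain ⟨u1, hu1, u2, hu2, rfl⟩ :=
      mem_Ug_split D g (A := {c | σ'⁻¹ • c ∈ Δn}) (isPosSet_posRoots b) hu
    have key : ∀ {Φ A : Set D.idx}, (∀ c ∈ A, σ'⁻¹ • c ∈ Φ) → ∀ {w : pt g K ⟶ G}, w ∈ Ug D g A →
        N⁻¹ * w * N ∈ Ug D g Φ := fun h w hw => by
      have := hn'.conj_Ug D g h hw
      rwa [sec_inv, _root_.inv_inv] at this
    have h1 : N⁻¹ * u1 * N ∈ Ug D g Δn := key (fun c hc => hc.2) hu1
    have h2 : N⁻¹ * u2 * N ∈ Ug D g Δp := key (fun c hc => (mem_pos_or_neg b _).resolve_right hc.2) hu2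
    have ht' : N⁻¹ * t * N ∈ Tg D g := by
      have := hn'.conj_Tg D g ht
      rwa [sec_inv, _root_.inv_inv] at this
    have e' : sec g (n'⁻¹ * n) =
        (N⁻¹ * t * N) * ((N⁻¹ * u1 * N) * ((1 : pt g K ⟶ G) * (N⁻¹ * u2 * N * (q' * q⁻¹)))) := by
      rw [e]; group
    rw [e']
    exact Om_tg_left D b g ht' (Om_neg_left D b g h1
      (Om_bp_right D b g (mul_mem (Ug_le_Bp D b g h2) (mul_mem hq' (inv_mem hq))) (one_mem_Om D b g)))
  have := acts_trivial_of_mem_Om D b g (hn'.mul hn) hmem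
  exact (inv_mul_eq_one.mp this).symm

/-- a word sending the positive roots to the negative ones -/
theorem exists_longest : ∃ l : List D.idx, ∀ c, wl D.P l • c ∈ Δn ↔ c ∈ Δp := by
  haveI := D.fintypeIdx
  haveI : Finite D.idx := Finite.of_fintype _
  have hS := (H21Root.simpleZ_base (P := D.P) b).isPosSys
  have hT : RootD.IsPosSys D.P Δn := by
    refine H21Root.isPosSys_of_closed D.P (fun i hi => ?_) (fun i => ?_) fun i j k hi hj hk =>
      (isPosSet_negRoots b).closed i j k hi hj hk.symm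
    · exact fun h => notMem_neg_of_mem_pos b ((neg_iff_opp_pos D b i).mp hi) h
    · rcases mem_pos_or_neg b i with h | h
      exacts [Or.inr ((opp_neg_iff D b i).mpr h), Or.inl h]
  obtain ⟨w, hw, hwe⟩ := H21Root.exists_weyl_image_eq hS hT
  rw [← (H21Root.simpleZ_base (P := D.P) b).closure_eq_weylGroup] at hw
  obtain ⟨l, -, rfl⟩ := H21Root.exists_word D.P hw
  refine ⟨l, fun c => ⟨fun h => ?_, fun h => hwe ▸ ⟨c, h, rfl⟩⟩⟩
  rw [← hwe] at h
  obtain ⟨d, hd, hdc⟩ := h
  exact (MulAction.injective _ hdc) ▸ hd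

end Groth.Agent.H21Split
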